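import Mathlib

/-!
A field with eight elements, its bitsliced form, and list matrices over either.
-/

set_option autoImplicit false
set_option maxRecDepth 100000

namespace CfsgLib.KnownC.Spec.DFour

/-- A field with eight elements, `x ^ 3 = x + 1`, by coefficients. -/
structure K8 where
  /-- constant coefficient -/
  c0 : Bool
  /-- linear coefficient -/
  c1 : Bool
  /-- quadratic coefficient -/
  c2 : Bool
deriving DecidableEq

namespace K8

/-- Coefficients. -/
def equiv : K8 ≃ Bool × Bool × Bool where
  toFun x := (x.c0, x.c1, x.c2)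
  invFun p := ⟨p.1, p.2.1, p.2.2⟩

instance : Fintype K8 := Fintype.ofEquiv _ equiv.symm
instance : Zero K8 := ⟨⟨false, false, false⟩⟩
instance : Inhabited K8 := ⟨0⟩
instance : One K8 := ⟨⟨true, false, false⟩⟩
instance : Add K8 := ⟨fun a b => ⟨a.c0 ^^ b.c0, a.c1 ^^ b.c1, a.c2 ^^ b.c2⟩⟩
instance : Neg K8 := ⟨fun a => a⟩

/-- Product. -/
def mulC (a b : K8) : K8 :=
  ⟨(a.c0 && b.c0) ^^ ((a.c1 && b.c2) ^^ (a.c2 && b.c1)),
   ((a.c0 && b.c1) ^^ (a.c1 && b.c0)) ^^ (((a.c1 && b.c2) ^^ (a.c2 && b.c1)) ^^ (a.c2 && b.c2)),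
   ((a.c0 && b.c2) ^^ ((a.c1 && b.c1) ^^ (a.c2 && b.c0))) ^^ (a.c2 && b.c2)⟩

instance : Mul K8 := ⟨mulC⟩
instance : Inv K8 := ⟨fun a => mulC (mulC a a) (mulC (mulC a a) (mulC a a))⟩

instance instField : Field K8 where
  add_assoc := by decide +kernel
  zero_add := by decide +kernel
  add_zero := by decide +kernel
  add_comm := by decide +kernel
  neg_add_cancel := by decide +kernel
  nsmul := nsmulRec
  zsmul := zsmulRec
  mul_assoc := by decide +kernel
  one_mul := by decide +kernel
  mul_one := by decide +kernel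
  zero_mul := by decide +kernel
  mul_zero := by decide +kernel
  left_distrib := by decide +kernel
  right_distrib := by decide +kernel
  mul_comm := by decide +kernel
  exists_pair_ne := ⟨0, 1, by decide⟩
  mul_inv_cancel := by decide +kernel
  inv_zero := by decide +kernel
  nnqsmul := _
  qsmul := _

theorem card_eq : Fintype.card K8 = 8 := by decide +kernel

instance : CharP K8 2 := CharTwo.of_one_ne_zero_of_two_eq_zero (by decide) (by decide +kernel)

end K8

/-- Three bit columns. -/
structure V3 where
  /-- constant coefficients -/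
  n0 : ℕ
  /-- linear coefficients -/
  n1 : ℕ
  /-- quadratic coefficients -/
  n2 : ℕ

/-- The operations the algorithms use. -/
structure Ops (α : Type) where
  /-- zero -/
  zero : α
  /-- one -/
  one : α
  /-- sum -/
  add : α → α → α
  /-- product -/
  mul : α → α → α

/-- The field. -/
def kOps : Ops K8 := ⟨0, 1, (· + ·), (· * ·)⟩

/-- The bitsliced field. -/
def vOps : Ops V3 where
  zero := ⟨0, 0, 0⟩
  one := ⟨2 ^ 32768 - 1, 0, 0⟩
  add a b := ⟨Nat.xor a.n0 b.n0, Nat.xor a.n1 b.n1, Nat.xor a.n2 b.n2⟩
  mul a b :=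
    ⟨Nat.xor (Nat.land a.n0 b.n0) (Nat.xor (Nat.land a.n1 b.n2) (Nat.land a.n2 b.n1)),
     Nat.xor (Nat.xor (Nat.land a.n0 b.n1) (Nat.land a.n1 b.n0))
       (Nat.xor (Nat.xor (Nat.land a.n1 b.n2) (Nat.land a.n2 b.n1)) (Nat.land a.n2 b.n2)),
     Nat.xor (Nat.xor (Nat.land a.n0 b.n2) (Nat.xor (Nat.land a.n1 b.n1) (Nat.land a.n2 b.n0)))
       (Nat.land a.n2 b.n2)⟩

/-- The field on codes `c0 + 2 c1 + 4 c2`. -/
def nOps : Ops ℕ where
  zero := 0
  one := 1
  add a b := Nat.xor a b
  mul a b := Nat.land (2821848294356612419217921029917578219971947684264937521152 >>> (3 * (8 * a + b))) 7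

/-- The code of an element. -/
def code (x : K8) : ℕ := (bif x.c0 then 1 else 0) + (bif x.c1 then 2 else 0) + (bif x.c2 then 4 else 0)

theorem code_injective : Function.Injective code := by
  show ∀ x y : K8, code x = code y → x = y
  decide +kernel

theorem code_spec : (code 0 = 0 ∧ code 1 = 1) ∧
    ∀ x y : K8, code (x + y) = nOps.add (code x) (code y) ∧ code (x * y) = nOps.mul (code x) (code y) := by
  decide +kernel

variable {α : Type}

/-- Scalar product. -/
def dot (o : Ops α) (r x : List α) : α := (List.zipWith o.mul r x).foldr o.add o.zero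

/-- Matrix times column plus a unit column. -/
def step (o : Ops α) (M : List (List α)) (e x : List α) : List α :=
  List.zipWith o.add e (M.map fun r => dot o r x)

/-- Matrix product, the second factor by columns. -/
def mmul (o : Ops α) (A Bc : List (List α)) : List (List α) := A.map fun r => Bc.map (dot o r)

/-- Unit column. -/
def unitCol (o : Ops α) (j : Fin 8) : List α := List.ofFn fun i : Fin 8 => if i = j then o.one else o.zero

/-- The column `j` of `1 + M + … + M ^ k`. -/
def geom (o : Ops α) (M : List (List α)) (j : Fin 8) : ℕ → List α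
  | 0 => unitCol o j
  | k + 1 => step o M (unitCol o j) (geom o M j k)

/-- The exponents. -/
def nList : List ℕ := [8, 12, 13, 18, 21, 28]

/-- The entries of the geometric sum of length `N`. -/
def sumEntries (o : Ops α) (M : List (List α)) (N : ℕ) : List α :=
  (List.ofFn fun j : Fin 8 => geom o M j (N - 1)).flatten

/-- Where some entry is nonzero. -/
def nzMask (l : List V3) : ℕ := l.foldr (fun v m => Nat.lor v.n0 (Nat.lor v.n1 (Nat.lor v.n2 m))) 0

/-- Where all the sums are nonzero. -/
def badMask (valid : ℕ) (M : List (List V3)) : ℕ :=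
  nList.foldr (fun N m => Nat.land (nzMask (sumEntries vOps M N)) m) valid

end CfsgLib.KnownC.Spec.DFour
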