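import Cfsg.Agent.Lib.KnownC.Spec.DFourTable

/-!
What the bitsliced check says about matrices.
-/

set_option autoImplicit false
set_option maxRecDepth 100000

namespace CfsgLib.KnownC.Spec.DFour

open Matrix

variable {α β : Type}

/-- A map compatible with the operations. -/
structure IsHom (o : Ops α) (o' : Ops β) (f : α → β) : Prop where
  zero : f o.zero = o'.zero
  one : f o.one = o'.one
  add : ∀ x y, f (o.add x y) = o'.add (f x) (f y)
  mul : ∀ x y, f (o.mul x y) = o'.mul (f x) (f y)

section Natural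

variable {o : Ops α} {o' : Ops β} {f : α → β} (h : IsHom o o' f)
include h

theorem map_dot (r x : List α) : f (dot o r x) = dot o' (r.map f) (x.map f) := by
  unfold dot
  induction r generalizing x with
  | nil => simpa using h.zero
  | cons a r ih =>
    cases x with
    | nil => simpa using h.zero
    | cons b x => simp [h.add, h.mul, ih]

theorem map_unitCol (j : Fin 8) : (unitCol o j).map f = unitCol o' j := by
  rw [unitCol, unitCol, List.map_ofFn]
  congr 1
  funext i
  simp [apply_ite f, h.zero, h.one]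

theorem map_step (M : List (List α)) (e x : List α) :
    (step o M e x).map f = step o' (M.map (List.map f)) (e.map f) (x.map f) := by
  unfold step
  induction M generalizing e with
  | nil => simp
  | cons r M ih =>
    cases e with
    | nil => simp
    | cons a e => simp [h.add, map_dot h, ih]

theorem map_geom (M : List (List α)) (j : Fin 8) (k : ℕ) :
    (geom o M j k).map f = geom o' (M.map (List.map f)) j k := by
  induction k with
  | zero => exact map_unitCol h j
  | succ k ih => rw [geom, geom, map_step h, map_unitCol h, ih]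

theorem map_sumEntries (M : List (List α)) (N : ℕ) :
    (sumEntries o M N).map f = sumEntries o' (M.map (List.map f)) N := by
  rw [sumEntries, sumEntries, List.map_flatten, List.map_ofFn]
  congr 2
  funext j
  exact map_geom h M j _

theorem map_mmul (A B : List (List α)) :
    (mmul o A B).map (List.map f) = mmul o' (A.map (List.map f)) (B.map (List.map f)) := by
  simp only [mmul, List.map_map]
  refine List.map_congr_left fun r _ => ?_
  simp only [Function.comp, List.map_map]
  exact List.map_congr_left fun c _ => map_dot h r c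

theorem map_uEntry (r : ℕ) (t : α) (i j : Fin 8) : f (uEntry o r t i j) = uEntry o' r (f t) i j := by
  unfold uEntry
  split_ifs <;> simp [h.zero, h.one]

theorem map_uCols (r : ℕ) (t : α) : (uCols o r t).map (List.map f) = uCols o' r (f t) := by
  simp only [uCols, List.map_ofFn, Function.comp_def, map_uEntry h]

theorem map_uRows (r : ℕ) (t : α) : (uRows o r t).map (List.map f) = uRows o' r (f t) := by
  simp only [uRows, List.map_ofFn, Function.comp_def, map_uEntry h]

/-- A parameter mapped. -/
def Param.map (f : α → β) (p : Param α) : Param β := ⟨f p.a, f p.b, f p.g, f p.d, f p.e, f p.z, f p.s⟩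

theorem map_uMatList (p : Param α) : (uMatList o p).map (List.map f) = uMatList o' (p.map f) := by
  have gen : ∀ (l : List (ℕ × α)) (A : List (List α)),
      (l.foldl (fun A rt => mmul o A (uCols o rt.1 rt.2)) A).map (List.map f) =
        (l.map fun rt => (rt.1, f rt.2)).foldl (fun A rt => mmul o' A (uCols o' rt.1 rt.2)) (A.map (List.map f)) := by
    intro l
    induction l with
    | nil => intro A; rfl
    | cons rt l ih => intro A; rw [List.map_cons, List.foldl_cons, List.foldl_cons, ih, map_mmul h, map_uCols h]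
  rw [uMatList, uMatList, gen, map_uRows h]
  congr 1
  simp [uTail, Param.map, h.mul]

theorem map_cand (π : List ℕ) (p : Param α) :
    (cand o π p).map (List.map f) = cand o' π (p.map f) := by
  have hd : (hDiag o p.a).map f = hDiag o' (f p.a) := by simp [hDiag, h.mul]
  unfold cand
  rw [← map_uMatList h, show (p.map f).a = f p.a from rfl, ← hd]
  generalize hDiag o p.a = l
  induction π generalizing l with
  | nil => simp
  | cons k π ih =>
    cases l with
    | nil => simp
    | cons c l =>
      simp only [List.zipWith_cons_cons, List.map_cons, ih, List.map_map]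
      congr 1
      rw [← List.map_nil (f := f), List.getD_map, List.map_map]
      exact List.map_congr_left fun x _ => h.mul c x

end Natural

/-- A chain of root elements by lists. -/
def chainO (o : Ops α) (l : List (ℕ × α)) : List (List α) :=
  l.foldl (fun A rt => mmul o A (uCols o rt.1 rt.2))
    (List.ofFn fun i : Fin 8 => List.ofFn fun j : Fin 8 => if i = j then o.one else o.zero)

theorem isHom_code : IsHom kOps nOps code where
  zero := code_spec.1.1
  one := code_spec.1.2
  add x y := (code_spec.2 x y).1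
  mul x y := (code_spec.2 x y).2

theorem map_chainO {o : Ops α} {o' : Ops β} {f : α → β} (h : IsHom o o' f) (l : List (ℕ × α)) :
    (chainO o l).map (List.map f) = chainO o' (l.map fun rt => (rt.1, f rt.2)) := by
  have gen : ∀ (l : List (ℕ × α)) (A : List (List α)),
      (l.foldl (fun A rt => mmul o A (uCols o rt.1 rt.2)) A).map (List.map f) =
        (l.map fun rt => (rt.1, f rt.2)).foldl (fun A rt => mmul o' A (uCols o' rt.1 rt.2)) (A.map (List.map f)) := by
    intro l
    induction l with
    | nil => intro A; rfl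
    | cons rt l ih => intro A; rw [List.map_cons, List.foldl_cons, List.foldl_cons, ih, map_mmul h, map_uCols h]
  rw [chainO, chainO, gen]
  congr 1
  rw [List.map_ofFn]
  congr 1
  funext i
  simp only [Function.comp, List.map_ofFn]
  congr 1
  funext j
  simp [apply_ite f, h.zero, h.one]

/-! ### Evaluation -/

/-- The element at position `i`. -/
def ev (i : ℕ) (v : V3) : K8 := ⟨v.n0.testBit i, v.n1.testBit i, v.n2.testBit i⟩

theorem isHom_ev {i : ℕ} (hi : i < 32768) : IsHom vOps kOps (ev i) where
  zero := by simp [ev, vOps, kOps]; rfl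
  one := by
    simp only [ev, vOps, kOps, Nat.testBit_two_pow_sub_one, Nat.zero_testBit, hi, decide_true]
    rfl
  add x y := by
    show (⟨(x.n0 ^^^ y.n0).testBit i, (x.n1 ^^^ y.n1).testBit i, (x.n2 ^^^ y.n2).testBit i⟩ : K8) = _
    simp only [Nat.testBit_xor]
    rfl
  mul x y := by
    show (⟨((x.n0 &&& y.n0) ^^^ ((x.n1 &&& y.n2) ^^^ (x.n2 &&& y.n1))).testBit i,
      (((x.n0 &&& y.n1) ^^^ (x.n1 &&& y.n0)) ^^^ (((x.n1 &&& y.n2) ^^^ (x.n2 &&& y.n1)) ^^^ (x.n2 &&& y.n2))).testBit i,
      (((x.n0 &&& y.n2) ^^^ ((x.n1 &&& y.n1) ^^^ (x.n2 &&& y.n0))) ^^^ (x.n2 &&& y.n2)).testBit i⟩ : K8) = _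
    simp only [Nat.testBit_xor, Nat.testBit_and]
    rfl

theorem colDbl_spec (k n : ℕ) : colDbl k n < 2 ^ (2 ^ (k + 1) * 2 ^ n) ∧
    ∀ i, i < 2 ^ (k + 1) * 2 ^ n → (colDbl k n).testBit i = i.testBit k := by
  induction n with
  | zero =>
    have e : 2 ^ (k + 1) * 2 ^ 0 = 2 ^ k + 2 ^ k := by rw [pow_succ]; ring
    rw [e]
    refine ⟨?_, fun i hi => ?_⟩
    · rw [colDbl, Nat.shiftLeft_eq, pow_add]
      exact Nat.mul_lt_mul_of_pos_right (Nat.sub_lt (Nat.two_pow_pos _) (by norm_num)) (Nat.two_pow_pos _)
    · rw [colDbl, Nat.testBit_shiftLeft, Nat.testBit_two_pow_sub_one, Nat.testBit_eq_decide_div_mod_eq]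
      have h2 := Nat.two_pow_pos k
      by_cases h : 2 ^ k ≤ i
      · have : i / 2 ^ k = 1 := Nat.div_eq_of_lt_le (by rw [one_mul]; exact h) (by omega)
        simp [h, this]
        omega
      · have : i / 2 ^ k = 0 := Nat.div_eq_of_lt (by omega)
        simp [h, this]
  | succ n ih =>
    obtain ⟨hlt, hbit⟩ := ih
    set L := 2 ^ (k + 1) * 2 ^ n with hL
    have e : 2 ^ (k + 1) * 2 ^ (n + 1) = L + L := by rw [hL, pow_succ 2 n]; ring
    rw [e]
    change (colDbl k n ||| colDbl k n <<< L) < _ ∧ ∀ i, _ → (colDbl k n ||| colDbl k n <<< L).testBit i = _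
    refine ⟨Nat.or_lt_two_pow (hlt.trans_le (Nat.pow_le_pow_right (by norm_num) (Nat.le_add_left _ _))) ?_,
      fun i hi => ?_⟩
    · rw [Nat.shiftLeft_eq, pow_add]
      exact Nat.mul_lt_mul_of_pos_right hlt (Nat.two_pow_pos _)
    · rw [Nat.testBit_or, Nat.testBit_shiftLeft]
      by_cases h : L ≤ i
      · rw [Nat.testBit_lt_two_pow (hlt.trans_le (Nat.pow_le_pow_right (by norm_num) h)), hbit (i - L) (by omega)]
        simp only [h, decide_true, Bool.true_and, Bool.false_or]
        obtain ⟨j, rfl⟩ : ∃ j, i = j + L := ⟨i - L, by omega⟩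
        rw [Nat.add_sub_cancel, hL, add_comm j, mul_comm (2 ^ (k + 1)),
          show 2 ^ n * 2 ^ (k + 1) = 2 ^ (k + 1 + n) by rw [← pow_add, add_comm]]
        exact (Nat.testBit_two_pow_add_gt (by omega) j).symm
      · rw [hbit i (by omega)]
        simp [h]

theorem col_spec {k i : ℕ} (hk : k ≤ 14) (hi : i < 32768) : (col k).testBit i = i.testBit k := by
  refine (colDbl_spec k (14 - k)).2 i ?_
  rw [← pow_add, show k + 1 + (14 - k) = 15 by omega]
  exact hi

theorem exists_index (p : Param K8) (hb : p.b.c1 = false ∧ p.b.c2 = false) (he : p.e.c1 = false ∧ p.e.c2 = false)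
    (hz : p.z.c1 = false ∧ p.z.c2 = false) :
    ∃ i < 32768, vParam.map (ev i) = p ∧ (p.a ≠ 0 → validMask.testBit i = true) := by
  let bits : Fin 15 → Bool := ![p.b.c0, p.g.c0, p.g.c1, p.g.c2, p.d.c0, p.d.c1, p.d.c2, p.e.c0, p.z.c0, p.s.c0,
    p.s.c1, p.s.c2, p.a.c0, p.a.c1, p.a.c2]
  refine ⟨Nat.ofBits bits, (Nat.ofBits_lt_two_pow bits).trans_le (by norm_num), ?_⟩
  have hlt : Nat.ofBits bits < 32768 := (Nat.ofBits_lt_two_pow bits).trans_le (by norm_num)
  have hb' : ∀ k : Fin 15, (col k.1).testBit (Nat.ofBits bits) = bits k := fun k => by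
    rw [col_spec (by omega) hlt, Nat.testBit_ofBits_lt _ _ k.2]
  have h := fun k (hk : k < 15) => hb' ⟨k, hk⟩
  refine ⟨?_, fun ha => ?_⟩
  · obtain ⟨⟨a0, a1, a2⟩, ⟨b0, b1, b2⟩, ⟨g0, g1, g2⟩, ⟨d0, d1, d2⟩, ⟨e0, e1, e2⟩, ⟨z0, z1, z2⟩, ⟨s0, s1, s2⟩⟩ := p
    simp only at hb he hz
    simp only [Param.map, vParam, ev, h 0 (by norm_num), h 1 (by norm_num), h 2 (by norm_num), h 3 (by norm_num),
      h 4 (by norm_num), h 5 (by norm_num), h 6 (by norm_num), h 7 (by norm_num), h 8 (by norm_num), h 9 (by norm_num),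
      h 10 (by norm_num), h 11 (by norm_num), h 12 (by norm_num), h 13 (by norm_num), h 14 (by norm_num),
      Nat.zero_testBit, hb, he, hz]
    rfl
  · show (col 12 ||| (col 13 ||| col 14)).testBit _ = true
    simp only [Nat.testBit_or, h 12 (by norm_num), h 13 (by norm_num), h 14 (by norm_num)]
    obtain ⟨⟨a0, a1, a2⟩, _, _, _, _, _, _⟩ := p
    revert ha
    show (⟨a0, a1, a2⟩ : K8) ≠ 0 → (a0 || (a1 || a2)) = true
    cases a0 <;> cases a1 <;> cases a2 <;> decide

theorem nzMask_testBit (l : List V3) (i : ℕ) (h : (nzMask l).testBit i = false) : ∀ v ∈ l, ev i v = 0 := by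
  induction l with
  | nil => simp
  | cons v l ih =>
    change (v.n0 ||| (v.n1 ||| (v.n2 ||| nzMask l))).testBit i = false at h
    simp only [Nat.testBit_or, Bool.or_eq_false_iff] at h
    intro x hx
    rcases List.mem_cons.1 hx with rfl | hx
    · simp only [ev, h.1, h.2.1, h.2.2.1]; rfl
    · exact ih h.2.2.2 x hx

theorem badMask_testBit {valid : ℕ} {M : List (List V3)} {i : ℕ} (hv : valid.testBit i = true)
    (h : badMask valid M = 0) : ∃ N ∈ nList, (nzMask (sumEntries vOps M N)).testBit i = false := by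
  unfold badMask at h
  have hb : ∀ l : List ℕ,
      (l.foldr (fun N m => Nat.land (nzMask (sumEntries vOps M N)) m) valid).testBit i = false →
        ∃ N ∈ l, (nzMask (sumEntries vOps M N)).testBit i = false := by
    intro l
    induction l with
    | nil => intro h; simp only [List.foldr_nil, hv] at h; exact absurd h (by simp)
    | cons N l ih =>
      intro h
      change (nzMask (sumEntries vOps M N) &&& _).testBit i = false at h
      rw [Nat.testBit_and, Bool.and_eq_false_iff] at h
      rcases h with h | h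
      · exact ⟨N, List.mem_cons_self, h⟩
      · obtain ⟨N', hN', h'⟩ := ih h
        exact ⟨N', List.mem_cons_of_mem _ hN', h'⟩
  exact hb _ (by rw [h, Nat.zero_testBit])

/-! ### Matrices -/

/-- A matrix as lists. -/
def toL (A : Matrix (Fin 8) (Fin 8) K8) : List (List K8) := List.ofFn fun i => List.ofFn fun j => A i j

theorem dot_ofFn (r x : Fin 8 → K8) : dot kOps (List.ofFn r) (List.ofFn x) = ∑ k, r k * x k := by
  simp [dot, List.ofFn_succ, Fin.sum_univ_succ, kOps]

theorem mmul_toL (A B : Matrix (Fin 8) (Fin 8) K8) : mmul kOps (toL A) (toL Bᵀ) = toL (A * B) := by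
  simp only [mmul, toL, List.map_ofFn, Function.comp_def, dot_ofFn]
  rfl

theorem geom_toL (A : Matrix (Fin 8) (Fin 8) K8) (j : Fin 8) (k : ℕ) :
    geom kOps (toL A) j k = List.ofFn fun i => (∑ t ∈ Finset.range (k + 1), A ^ t) i j := by
  induction k with
  | zero =>
    simp only [geom, unitCol, zero_add, Finset.sum_range_one, pow_zero]
    congr 1
  | succ k ih =>
    rw [geom, ih, Finset.sum_range_succ' _ (k + 1), pow_zero, step, toL, List.map_ofFn, unitCol]
    rw [show ∑ t ∈ Finset.range (k + 1), A ^ (t + 1) = A * ∑ t ∈ Finset.range (k + 1), A ^ t by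
      rw [Finset.mul_sum]; exact Finset.sum_congr rfl fun t _ => pow_succ' A t]
    refine List.ext_getElem (by simp) fun n h1 h2 => ?_
    simp only [List.getElem_zipWith, List.getElem_ofFn, Function.comp, Matrix.add_apply, dot_ofFn, Matrix.mul_apply,
      Matrix.one_apply]
    exact add_comm _ _

theorem sum_eq_zero_of_entries {A : Matrix (Fin 8) (Fin 8) K8} {N : ℕ} (hN : 1 ≤ N)
    (h : ∀ v ∈ sumEntries kOps (toL A) N, v = 0) : ∑ t ∈ Finset.range N, A ^ t = 0 := by
  ext i j
  refine h _ (List.mem_flatten.2 ⟨geom kOps (toL A) j (N - 1), List.mem_ofFn.2 ⟨j, rfl⟩, ?_⟩)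
  rw [geom_toL, Nat.sub_add_cancel hN]
  exact List.mem_ofFn.2 ⟨i, rfl⟩

/-- A root element. -/
def uFin (r : ℕ) (t : K8) : Matrix (Fin 8) (Fin 8) K8 := Matrix.of fun i j => uEntry kOps r t i j

/-- `U(u)`. -/
def uProd (p : Param K8) : Matrix (Fin 8) (Fin 8) K8 :=
  (uTail kOps p).foldl (fun A rt => A * uFin rt.1 rt.2) (uFin 14 p.b)

theorem uMatList_toL (p : Param K8) : uMatList kOps p = toL (uProd p) := by
  have gen : ∀ (l : List (ℕ × K8)) (A : Matrix (Fin 8) (Fin 8) K8),
      l.foldl (fun A rt => mmul kOps A (uCols kOps rt.1 rt.2)) (toL A) =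
        toL (l.foldl (fun A rt => A * uFin rt.1 rt.2) A) := by
    intro l
    induction l with
    | nil => intro A; rfl
    | cons rt l ih =>
      intro A
      rw [List.foldl_cons, List.foldl_cons, ← ih, ← mmul_toL]
      rfl
  exact gen _ _

/-- The image of `i` under the Weyl element `w`. -/
def permFin (w : Fin 12) (i : Fin 8) : Fin 8 := ⟨((perms.getD w.1 []).getD i.1 0) % 8, Nat.mod_lt _ (by norm_num)⟩

theorem perms_ofFn : ∀ w : Fin 12, perms.getD w.1 [] = List.ofFn fun i => (permFin w i).1 := by decide +kernel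

/-- The diagonal of the torus element. -/
def hFin (a : K8) (i : Fin 8) : K8 := (hDiag kOps a).getD i.1 0

/-- The candidate. -/
def candMat (w : Fin 12) (p : Param K8) : Matrix (Fin 8) (Fin 8) K8 :=
  Matrix.of fun i j => hFin p.a i * uProd p (permFin w i) j

theorem cand_toL (w : Fin 12) (p : Param K8) : cand kOps (perms.getD w.1 []) p = toL (candMat w p) := by
  unfold cand
  rw [uMatList_toL, perms_ofFn]
  refine List.ext_getElem (by simp [toL, hDiag]) fun n h1 h2 => ?_
  have hn : n < 8 := by simpa [toL] using h2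
  simp only [List.getElem_zipWith, toL, List.getElem_ofFn]
  rw [List.getD_eq_getElem _ _ (by simp), List.getElem_ofFn, List.map_ofFn]
  congr 1
  funext j
  simp only [candMat, Matrix.of_apply, hFin, Function.comp, kOps]
  rw [List.getD_eq_getElem _ _ (by simpa [hDiag] using hn)]

/-- Every candidate has a vanishing geometric sum. -/
theorem cand_geom (w : Fin 12) (p : Param K8) (ha : p.a ≠ 0) (hb : p.b.c1 = false ∧ p.b.c2 = false)
    (he : p.e.c1 = false ∧ p.e.c2 = false) (hz : p.z.c1 = false ∧ p.z.c2 = false) :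
    ∃ N ∈ nList, ∑ t ∈ Finset.range N, candMat w p ^ t = 0 := by
  obtain ⟨i, hi, hp, hv⟩ := exists_index p hb he hz
  obtain ⟨N, hN, hz⟩ := badMask_testBit (hv ha) (Nat.beq_eq.mp (checkW_all w) :
    badMask validMask (cand vOps (perms.getD w.1 []) vParam) = 0)
  refine ⟨N, hN, sum_eq_zero_of_entries (by fin_cases hN <;> norm_num) fun v hv' => ?_⟩
  have h := isHom_ev hi
  rw [← cand_toL, ← hp, ← map_cand h, ← map_sumEntries h] at hv'
  obtain ⟨x, hx, rfl⟩ := List.mem_map.1 hv'
  exact nzMask_testBit _ i hz x hx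

end CfsgLib.KnownC.Spec.DFour
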