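import Cfsg.Agent.Lib.Chev.OrthTables
import Cfsg.Agent.Lib.Chev.TrialityFixed
import Cfsg.Agent.Lib.Chev.TwistHOrders
import Cfsg.Agent.Lib.Chev.TwistPerfect
import Cfsg.Agent.Lib.KnownC.Spec.DFourBridge

/-!
`³D₄(2)` in eight dimensions over the field with eight elements: every element has a vanishing geometric sum of
length 8, 12, 13, 18, 21 or 28.
-/

set_option autoImplicit false
set_option maxRecDepth 100000
set_option maxHeartbeats 1000000

namespace CfsgLib.KnownC.Spec.DFour

open Matrix Cfsg.Lie CfsgLib.Chev CfsgLib.Chev.OE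

local notation "ι8" => Fin 4 ⊕ Fin 4
local notation "M8" => Matrix (Fin 8) (Fin 8) K8

/-! ### Tables -/

/-- The numbering. -/
def idx8 : ι8 ≃ Fin 8 := finSumFinEquiv

/-- The linear coefficient of a root element, reduced. -/
def inCells (r : ℕ) (i j : Fin 8) : Prop :=
  i ≠ j ∧ (((i : ℕ), (j : ℕ)) = (cells.getD r default).1 ∨ ((i : ℕ), (j : ℕ)) = (cells.getD r default).2)

instance (r : ℕ) (i j : Fin 8) : Decidable (inCells r i j) := inferInstanceAs (Decidable (_ ∧ _))

theorem uA_spec : ∀ (r : Fin 24) (i j : Fin 8),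
    ((smat numD4.e (orthD4Tab.UA r.1) (idx8.symm i) (idx8.symm j) : ℤ) : K8) = if inCells r.1 i j then 1 else 0 := by
  decide +kernel

theorem uB_spec : ∀ (r : Fin 24) (i j : Fin 8),
    ((smat numD4.e (orthD4Tab.UB r.1) (idx8.symm i) (idx8.symm j) : ℤ) : K8) = 0 := by
  decide +kernel

/-- A product of root elements. -/
def chain (l : List (ℕ × K8)) : M8 := l.foldl (fun A rt => A * uFin rt.1 rt.2) 1

/-- The same by lists. -/
def chainL (l : List (ℕ × K8)) : List (List K8) :=
  l.foldl (fun A rt => mmul kOps A (uCols kOps rt.1 rt.2)) (toL 1)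

theorem chainL_eq (l : List (ℕ × K8)) : chainL l = toL (chain l) := by
  have gen : ∀ (l : List (ℕ × K8)) (A : M8),
      l.foldl (fun A rt => mmul kOps A (uCols kOps rt.1 rt.2)) (toL A) =
        toL (l.foldl (fun A rt => A * uFin rt.1 rt.2) A) := by
    intro l
    induction l with
    | nil => intro A; rfl
    | cons rt l ih =>
      intro A
      rw [List.foldl_cons, List.foldl_cons, ← ih, ← mmul_toL]
      rfl
  exact gen l 1

theorem foldl_chain (l : List (ℕ × K8)) (A : M8) :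
    l.foldl (fun A rt => A * uFin rt.1 rt.2) A = A * chain l := by
  induction l generalizing A with
  | nil => simp [chain]
  | cons rt l ih => rw [chain, List.foldl_cons, List.foldl_cons, ih, ih (1 * _), one_mul, mul_assoc]

theorem chain_append (l l' : List (ℕ × K8)) : chain (l ++ l') = chain l * chain l' := by
  rw [chain, List.foldl_append, foldl_chain]
  rfl

theorem chain_cons (r : ℕ) (t : K8) (l : List (ℕ × K8)) : chain ((r, t) :: l) = uFin r t * chain l := by
  rw [chain, List.foldl_cons, foldl_chain, one_mul]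

/-- A chain by codes. -/
def chainN (l : List (ℕ × K8)) : List (List ℕ) := chainO nOps (l.map fun rt => (rt.1, code rt.2))

/-- A matrix by codes. -/
def toN (A : M8) : List (List ℕ) := (toL A).map (List.map code)

theorem toL_injective : Function.Injective toL := fun A B h => by
  ext i j
  exact congrFun (List.ofFn_injective (congrFun (List.ofFn_injective h) i)) j

theorem toN_injective : Function.Injective toN := fun _ _ h =>
  toL_injective ((code_injective.list_map).list_map h)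

theorem chainN_eq (l : List (ℕ × K8)) : chainN l = toN (chain l) := by
  have h0 : chainO kOps l = chainL l := by
    rw [chainO, chainL]
    congr 1
  rw [chainN, ← map_chainO isHom_code, h0, chainL_eq]
  rfl

theorem map_mul_toL (A B : M8) : mmul nOps (toN A) ((toL Bᵀ).map (List.map code)) = toN (A * B) := by
  rw [toN, toN, ← map_mmul isHom_code, mmul_toL]

/-- A Weyl element. -/
def permMat (w : Fin 12) : M8 := Matrix.of fun i j => if j = permFin w i then 1 else 0

/-- `n_r(t)` for a simple `r`. -/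
def nList8 (r : ℕ) (t : K8) : List (ℕ × K8) :=
  [(r, t), ((([(18, 5), (14, 9), (13, 10), (12, 11)] : List (ℕ × ℕ)).lookup r).getD 0, t⁻¹), (r, t)]

/-- `h(a)`. -/
def hList8 (a : K8) : List (ℕ × K8) :=
  nList8 18 a ++ nList8 18 1 ++ (nList8 14 1 ++ nList8 14 1) ++ (nList8 13 (a ^ 2) ++ nList8 13 1) ++
    (nList8 12 ((a ^ 2) ^ 2) ++ nList8 12 1)

theorem hList8_spec : ∀ a : K8, a ≠ 0 → chainN (hList8 a) = toN (Matrix.diagonal (hFin a)) := by
  decide +kernel

/-- The word of an orbit. -/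
def oList8 : Fin 2 → List (ℕ × K8) :=
  ![nList8 14 1, nList8 12 1 ++ nList8 13 1 ++ nList8 18 1]

theorem closure_spec : ∀ (o : Fin 2) (w : Fin 12), ∃ w' : Fin 12,
    mmul nOps (chainN (oList8 o)) ((toL (permMat w)ᵀ).map (List.map code)) = toN (permMat w') := by
  decide +kernel

theorem permMat_zero : permMat 0 = 1 := by
  apply toL_injective
  decide +kernel

theorem diag_perm_mul (a : K8) (w : Fin 12) (p : Param K8) (hp : p.a = a) :
    Matrix.diagonal (hFin a) * permMat w * uProd p = candMat w p := by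
  ext i j
  rw [mul_assoc, Matrix.diagonal_mul, Matrix.mul_apply]
  simp [candMat, permMat, hp]

theorem sq_fixed : ∀ x : K8, x ^ 2 = x → x.c1 = false ∧ x.c2 = false := by decide +kernel

theorem uProd_eq (p : Param K8) : uProd p = chain ((14, p.b) :: uTail kOps p) := by
  rw [uProd, chain, List.foldl_cons, one_mul]

/-! ### The representation -/

section Rep

variable {K : Type*} [Field K] [Fintype K] [CharP K 2]

omit [Fintype K] in
theorem det_eq_one_of_sq {n : Type*} [Fintype n] [DecidableEq n] {A : Matrix n n K} (h : A * A = 1) :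
    A.det = 1 := by
  have h2 := congrArg Matrix.det h
  rw [Matrix.det_mul, Matrix.det_one] at h2
  rcases mul_self_eq_one_iff.1 h2 with e | e
  · exact e
  · rw [e]; exact CharTwo.neg_eq 1

/-- `x` is implemented by `y`. -/
def Impl (x : GL chevD4.Idx K) (y : Matrix ι8 ι8 K) : Prop :=
  y.det = 1 ∧ ∀ v, y * lv (D := chevD4) numD4 orthD4Tab v =
    lv (D := chevD4) numD4 orthD4Tab ((x : Matrix chevD4.Idx chevD4.Idx K) *ᵥ v) * y

omit [Fintype K] [CharP K 2] in
theorem impl_one : Impl (1 : GL chevD4.Idx K) (1 : Matrix ι8 ι8 K) := ⟨Matrix.det_one, fun v => by simp⟩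

omit [Fintype K] [CharP K 2] in
theorem impl_mul {x x' : GL chevD4.Idx K} {y y' : Matrix ι8 ι8 K} (h : Impl x y) (h' : Impl x' y') :
    Impl (x * x') (y * y') := by
  refine ⟨by rw [Matrix.det_mul, h.1, h'.1, one_mul], fun v => ?_⟩
  rw [mul_assoc, h'.2, ← mul_assoc, h.2, mul_assoc, Units.val_mul, Matrix.mulVec_mulVec]

omit [Fintype K] in
theorem impl_unique {x : GL chevD4.Idx K} {y y' : Matrix ι8 ι8 K} (h : Impl x y) (h' : Impl x y') : y = y' := by
  have hu : IsUnit y.det := by rw [h.1]; exact isUnit_one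
  have hz : ∀ v, (y⁻¹ * y') * lv (D := chevD4) numD4 orthD4Tab v = lv (D := chevD4) numD4 orthD4Tab v * (y⁻¹ * y') := by
    intro v
    rw [mul_assoc, h'.2, ← mul_assoc, ← mul_assoc]
    congr 1
    calc y⁻¹ * lv (D := chevD4) numD4 orthD4Tab ((x : Matrix chevD4.Idx chevD4.Idx K) *ᵥ v)
        = y⁻¹ * (lv (D := chevD4) numD4 orthD4Tab ((x : Matrix chevD4.Idx chevD4.Idx K) *ᵥ v) * y) * y⁻¹ := by
          rw [mul_assoc, mul_assoc, Matrix.mul_nonsing_inv _ hu, mul_one]
      _ = lv (D := chevD4) numD4 orthD4Tab v * y⁻¹ := by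
          rw [← h.2, ← mul_assoc, Matrix.nonsing_inv_mul _ hu, one_mul]
  obtain ⟨c, hc⟩ := scalar_of_commute orthD4_checkL orthD4_units (by norm_num) hz
  have hd := congrArg Matrix.det hc
  rw [Matrix.det_mul, Matrix.det_smul, Matrix.det_one, mul_one, h'.1, mul_one, Matrix.det_nonsing_inv, h.1,
    Ring.inverse_one] at hd
  have h8 : (c - 1) ^ 2 ^ 3 = 0 := by
    rw [sub_pow_char_pow, one_pow, sub_eq_zero]
    exact hd.symm
  have hc1 : c = 1 := sub_eq_zero.1 (eq_zero_of_pow_eq_zero h8)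
  rw [hc1, one_smul] at hc
  calc y = y * (y⁻¹ * y') := by rw [hc, mul_one]
    _ = y' := by rw [← mul_assoc, Matrix.mul_nonsing_inv _ hu, one_mul]

omit [Fintype K] in
theorem impl_x {r : ℕ} (hr : r < chevD4.nroots) (t : K) :
    Impl (goodD4.xG r t) (uM numD4 orthD4Tab r K t) := by
  refine ⟨det_eq_one_of_sq ?_, fun v => ?_⟩
  · rw [matchedD4.add hr, CharTwo.add_self_eq_zero, uM, uMat_zero]
  · exact uM_lv (by decide +kernel) orthD4_checkL hr (allR_upto orthD4_root hr) t v

omit [Fintype K] in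
theorem exists_impl {x : GL chevD4.Idx K} (hx : x ∈ chevD4.group K) : ∃ y, Impl x y := by
  refine Subgroup.closure_induction (p := fun x _ => ∃ y, Impl x y) ?_ ⟨1, impl_one⟩
    (fun a b _ _ ⟨y, hy⟩ ⟨y', hy'⟩ => ⟨_, impl_mul hy hy'⟩) ?_ hx
  · rintro x ⟨r, t, hx⟩
    have e : x = goodD4.xG r t := goodD4.eq_xG (by
      rw [hx, ChevalleyDatum.x, dif_pos r.2])
    rw [e]
    exact ⟨_, impl_x r.2 t⟩
  · rintro a _ ⟨y, hy⟩
    have hu : IsUnit y.det := by rw [hy.1]; exact isUnit_one
    refine ⟨y⁻¹, by rw [Matrix.det_nonsing_inv, hy.1, Ring.inverse_one], fun v => ?_⟩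
    have h := hy.2 (((a⁻¹ : GL chevD4.Idx K) : Matrix chevD4.Idx chevD4.Idx K) *ᵥ v)
    rw [Matrix.mulVec_mulVec, Units.mul_inv, Matrix.one_mulVec] at h
    calc y⁻¹ * lv (D := chevD4) numD4 orthD4Tab v = y⁻¹ * (lv (D := chevD4) numD4 orthD4Tab v * y) * y⁻¹ := by
          rw [mul_assoc, mul_assoc, Matrix.mul_nonsing_inv _ hu, mul_one]
      _ = _ := by rw [← h, ← mul_assoc, Matrix.nonsing_inv_mul _ hu, one_mul]

variable (K) in
/-- The representation of `D₄(8)`. -/
noncomputable def rep : ↥(chevD4.group K) →* Matrix ι8 ι8 K where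
  toFun x := (exists_impl x.2).choose
  map_one' := impl_unique (exists_impl (one_mem _)).choose_spec impl_one
  map_mul' x y := impl_unique (exists_impl (x * y).2).choose_spec
    (impl_mul (exists_impl x.2).choose_spec (exists_impl y.2).choose_spec)

omit [Fintype K] in
theorem rep_xG {r : ℕ} (hr : r < chevD4.nroots) (t : K) (h : goodD4.xG r t ∈ chevD4.group K) :
    rep K ⟨goodD4.xG r t, h⟩ = uM numD4 orthD4Tab r K t :=
  impl_unique (exists_impl h).choose_spec (impl_x hr t)

variable (e : K ≃+* K8)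

/-- The representation over the computable field. -/
noncomputable def theta : ↥(chevD4.group K) →* M8 :=
  ((Matrix.reindexAlgEquiv K8 K8 idx8).toAlgHom.toRingHom.toMonoidHom.comp
    (e : K →+* K8).mapMatrix.toMonoidHom).comp (rep K)

omit [Fintype K] in
theorem theta_xG {r : ℕ} (hr : r < chevD4.nroots) (t : K) (h : goodD4.xG r t ∈ chevD4.group K) :
    theta e ⟨goodD4.xG r t, h⟩ = uFin r (e t) := by
  ext i j
  show ((rep K ⟨goodD4.xG r t, h⟩).map e) (idx8.symm i) (idx8.symm j) = _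
  rw [rep_xG hr t h]
  have hA := uA_spec ⟨r, hr⟩ i j
  have hB := uB_spec ⟨r, hr⟩ i j
  simp only [Matrix.map_apply, uM, uMat, Matrix.add_apply, Matrix.smul_apply, smul_eq_mul, map_add, map_mul,
    map_pow, map_intCast, hA, hB, mul_zero, add_zero, uFin, Matrix.of_apply, uEntry]
  by_cases hij : i = j
  · subst hij
    rw [if_pos rfl, if_neg (fun hc => hc.1 rfl), Matrix.one_apply_eq, map_one, mul_zero, add_zero]
    rfl
  · rw [if_neg hij, Matrix.one_apply_ne (fun he => hij (idx8.symm.injective he)), map_zero, zero_add]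
    by_cases hc : ((i : ℕ), (j : ℕ)) = (cells.getD r default).1 ∨ ((i : ℕ), (j : ℕ)) = (cells.getD r default).2
    · rw [if_pos ⟨hij, hc⟩, if_pos hc, mul_one]
    · rw [if_neg (fun h' => hc h'.2), if_neg hc, mul_zero]
      rfl

/-- `x` has image `chain l`. -/
def Img (x : GL chevD4.Idx K) (l : List (ℕ × K8)) : Prop :=
  ∃ h : x ∈ chevD4.group K, theta e ⟨x, h⟩ = chain l

omit [Fintype K] in
theorem img_x {r : ℕ} (hr : r < 24) (t : K) : Img e (goodD4.xG r t) [(r, e t)] :=
  ⟨goodD4.xG_mem_group hr t, by rw [theta_xG e hr, chain_cons]; exact (mul_one _).symm⟩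

omit [Fintype K] in
theorem img_mul {x x' : GL chevD4.Idx K} {l l' : List (ℕ × K8)} (h : Img e x l) (h' : Img e x' l') :
    Img e (x * x') (l ++ l') := by
  obtain ⟨h, hx⟩ := h
  obtain ⟨h', hx'⟩ := h'
  exact ⟨mul_mem h h', by rw [show (⟨x * x', mul_mem h h'⟩ : ↥(chevD4.group K)) = ⟨x, h⟩ * ⟨x', h'⟩ from rfl,
    map_mul, hx, hx', chain_append]⟩

omit [Fintype K] in
theorem img_one : Img e (1 : GL chevD4.Idx K) [] := ⟨one_mem _, map_one _⟩

omit [Fintype K] in
theorem img_nG (i : Fin chevD4.rank) (t : Kˣ) :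
    Img e (goodD4.nG (chevD4.simple i) t) (nList8 (chevD4.simple i) (e (t : K))) := by
  have hneg : ∀ i : Fin chevD4.rank, chevD4.simple i < 24 ∧ chevD4.neg (chevD4.simple i) < 24 ∧
      (([(18, 5), (14, 9), (13, 10), (12, 11)] : List (ℕ × ℕ)).lookup (chevD4.simple i)).getD 0 =
        chevD4.neg (chevD4.simple i) := by decide +kernel
  obtain ⟨h1, h2, h3⟩ := hneg i
  have h := img_mul e (img_mul e (img_x e h1 (t : K)) (img_x e h2 (-((t⁻¹ : Kˣ) : K)))) (img_x e h1 (t : K))
  rw [CharTwo.neg_eq, Units.val_inv_eq_inv_val, map_inv₀] at h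
  rw [nList8, h3]
  rw [Good.nG, CharTwo.neg_eq, Units.val_inv_eq_inv_val]
  exact h

omit [Fintype K] in
theorem img_hG (i : Fin chevD4.rank) (t : Kˣ) :
    Img e (goodD4.hG (chevD4.simple i) t)
      (nList8 (chevD4.simple i) (e (t : K)) ++ nList8 (chevD4.simple i) 1) := by
  have h1 : (-1 : Kˣ) = 1 := Units.ext (by rw [Units.val_neg, Units.val_one]; exact CharTwo.neg_eq 1)
  rw [goodD4.hG_eq (goodD4.simple_lt i.2), h1]
  have h := img_nG e i (1 : Kˣ)
  rw [Units.val_one, map_one] at h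
  exact img_mul e (img_nG e i t) h

omit [Fintype K] in
theorem img_nI (i : Fin chevD4.rank) : Img e (goodD4.nI i) (nList8 (chevD4.simple i) 1) := by
  have h := img_nG e i (1 : Kˣ)
  rwa [Units.val_one, map_one] at h

/-- Every element of `³D₄(2)` has a vanishing geometric sum. -/
theorem exists_geom (hK : Fintype.card K = 8) {x : GL chevD4.Idx K} (hx : x ∈ twistedD4 K 2)
    (hxG : x ∈ chevD4.group K) :
    ∃ N ∈ nList, ∑ t ∈ Finset.range N, theta e ⟨x, hxG⟩ ^ t = 0 := by
  obtain ⟨A, hG, hφ, hS, hr, ho⟩ := exists_setupD4 K (q := 2) Nat.prime_two.isPrimePow (by rw [hK]; norm_num)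
  have hc : HasComm chevD4 := hasComm_of_mem (by simp)
  have hsym : A.CoSym := coSym_of_check A checksD4 structChecksD4 rhoD4_ok hS coSymD4_ok
  obtain ⟨u, hu, n, hn, u', hu', hxe⟩ := A.cells_all hc hsym (hG ▸ hx)
  obtain ⟨⟨v, s⟩, hp⟩ := Triality.exists_elt (mul_mem hu'.1 hu.1)
  have hpm : Triality.elt (v, s) ∈ twistedD4 K 2 := by rw [← hp, ← hG]; exact mul_mem hu'.2 hu.2
  obtain ⟨hv, hs⟩ := (Triality.mem_iff Nat.prime_two.isPrimePow (by rw [hK]; norm_num) (v, s)).1 hpm
  -- the unipotent part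
  have hU : Img e (Triality.elt (v, s)) [(14, e v.b), (19, e v.g0), (16, e v.g1), (15, e v.g2), (21, e v.d0),
      (17, e v.d1), (20, e v.d2), (22, e v.e), (23, e v.z), (18, e s.t0), (13, e s.t1), (12, e s.t2)] := by
    have h9 := img_mul e (img_x e (r := 14) (by norm_num) v.b) (img_mul e (img_x e (r := 19) (by norm_num) v.g0)
      (img_mul e (img_x e (r := 16) (by norm_num) v.g1) (img_mul e (img_x e (r := 15) (by norm_num) v.g2)
      (img_mul e (img_x e (r := 21) (by norm_num) v.d0) (img_mul e (img_x e (r := 17) (by norm_num) v.d1)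
      (img_mul e (img_x e (r := 20) (by norm_num) v.d2) (img_mul e (img_x e (r := 22) (by norm_num) v.e)
      (img_x e (r := 23) (by norm_num) v.z))))))))
    exact img_mul e h9 (img_mul e (img_x e (r := 18) (by norm_num) s.t0)
      (img_mul e (img_x e (r := 13) (by norm_num) s.t1) (img_x e (r := 12) (by norm_num) s.t2)))
  -- the monomial part
  obtain ⟨h, hh, L, rfl⟩ := hn
  obtain ⟨c, hc', rfl⟩ := hh
  have hw : ∀ L : List (Fin A.r), ∃ (l : List (ℕ × K8)) (w : Fin 12),
      Img e (goodD4.wordN (A.orbWord L)) l ∧ chain l = permMat w := by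
    intro L
    induction L with
    | nil => exact ⟨[], 0, img_one e, permMat_zero.symm⟩
    | cons o L ih =>
      obtain ⟨l, w, hl, hlw⟩ := ih
      have hol : Img e (goodD4.wordN (A.orb o)) (oList8 (Fin.cast hr o)) := by
        rw [ho]
        have hs0 : chevD4.simple 0 = 18 ∧ chevD4.simple 1 = 14 ∧ chevD4.simple 2 = 13 ∧ chevD4.simple 3 = 12 := by
          decide +kernel
        obtain ⟨h0, h1, h2, h3⟩ := hs0
        generalize Fin.cast hr o = o'
        fin_cases o'
        · have := img_nI e (K := K) ⟨1, by decide⟩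
          simpa [orbD4, Good.wordN, oList8, h1] using this
        · have := img_mul e (img_mul e (img_nI e (K := K) ⟨3, by decide⟩) (img_nI e (K := K) ⟨2, by decide⟩))
            (img_nI e (K := K) ⟨0, by decide⟩)
          simpa [orbD4, Good.wordN, oList8, h0, h2, h3, mul_assoc] using this
      obtain ⟨w', hw'⟩ := closure_spec (Fin.cast hr o) w
      refine ⟨oList8 (Fin.cast hr o) ++ l, w', ?_, ?_⟩
      · rw [show A.orbWord (o :: L) = A.orb o ++ A.orbWord L from List.flatMap_cons, goodD4.wordN_append]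
        exact img_mul e hol hl
      · rw [chainN_eq, map_mul_toL] at hw'
        rw [chain_append, hlw, toN_injective hw']
  obtain ⟨l, w, hl, hlw⟩ := hw L
  -- the torus
  have hT := A.mem_T0.1 hc'
  have hpi : ((A.S.pi ⟨0, by decide⟩).val = 2 ∧ (A.S.pi ⟨1, by decide⟩).val = 1) ∧
      (A.S.pi ⟨2, by decide⟩).val = 3 := by
    rw [hS]; decide +kernel
  have c1 : c ⟨1, by decide⟩ = 1 := by
    have := hT ⟨1, by decide⟩
    rw [Fin.ext (a := A.S.pi ⟨1, by decide⟩) (b := ⟨1, by decide⟩) hpi.1.2, hφ, sq] at this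
    exact Units.ext ((mul_left_eq_self₀.1 this.symm).resolve_right (Units.ne_zero _))
  have c2 : ((c ⟨2, by decide⟩ : Kˣ) : K) = (c ⟨0, by decide⟩ : K) ^ 2 := by
    have := hT ⟨0, by decide⟩
    rwa [Fin.ext (a := A.S.pi ⟨0, by decide⟩) (b := ⟨2, by decide⟩) hpi.1.1, hφ] at this
  have c3 : ((c ⟨3, by decide⟩ : Kˣ) : K) = ((c ⟨0, by decide⟩ : K) ^ 2) ^ 2 := by
    have := hT ⟨2, by decide⟩
    rwa [Fin.ext (a := A.S.pi ⟨2, by decide⟩) (b := ⟨3, by decide⟩) hpi.2, hφ, c2] at this
  set a := e (c ⟨0, by decide⟩ : K) with ha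
  have ha0 : a ≠ 0 := fun h0 => Units.ne_zero _ (e.map_eq_zero_iff.1 h0)
  have hH : Img e (torHom chevD4 K c) (hList8 a) := by
    have hdec : c = Pi.mulSingle ⟨0, by decide⟩ (c ⟨0, by decide⟩) * Pi.mulSingle ⟨1, by decide⟩ (c ⟨1, by decide⟩) *
        Pi.mulSingle ⟨2, by decide⟩ (c ⟨2, by decide⟩) * Pi.mulSingle ⟨3, by decide⟩ (c ⟨3, by decide⟩) := by
      funext i
      obtain ⟨i, hi⟩ := i
      have hi' : i < 4 := hi
      interval_cases i <;> simp [Pi.mulSingle_apply]
    rw [hdec, map_mul, map_mul, map_mul, goodD4.torHom_single, goodD4.torHom_single, goodD4.torHom_single,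
      goodD4.torHom_single]
    have := img_mul e (img_mul e (img_mul e (img_hG e ⟨0, by decide⟩ (c ⟨0, by decide⟩))
      (img_hG e ⟨1, by decide⟩ (c ⟨1, by decide⟩))) (img_hG e ⟨2, by decide⟩ (c ⟨2, by decide⟩)))
      (img_hG e ⟨3, by decide⟩ (c ⟨3, by decide⟩))
    have hs0 : chevD4.simple 0 = 18 ∧ chevD4.simple 1 = 14 ∧ chevD4.simple 2 = 13 ∧ chevD4.simple 3 = 12 := by
      decide +kernel
    obtain ⟨h0, h1, h2, h3⟩ := hs0
    simp only [h0, h1, h2, h3, c1, c2, c3, map_pow, Units.val_one, map_one, ← ha] at this ⊢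
    exact this
  obtain ⟨hyG, hy⟩ := img_mul e (img_mul e hH hl) hU
  -- the parameters
  let p : Param K8 := ⟨a, e v.b, e v.g0, e v.d0, e v.e, e v.z, e s.t0⟩
  have hfix : ∀ y : K, y ^ 2 = y → (e y).c1 = false ∧ (e y).c2 = false := fun y hy =>
    sq_fixed _ (by rw [← map_pow, hy])
  obtain ⟨N, hN, hsum⟩ := cand_geom w p ha0 (hfix _ hv.b) (hfix _ hv.e) (hfix _ hv.z)
  refine ⟨N, hN, ?_⟩
  have hcand : theta e ⟨_, hyG⟩ = candMat w p := by
    rw [hy, chain_append, chain_append, hlw, ← diag_perm_mul a w p rfl, uProd_eq,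
      show chain (hList8 a) = Matrix.diagonal (hFin a) from toN_injective (by rw [← chainN_eq]; exact hList8_spec a ha0)]
    congr 2
    rw [hv.g2, hv.g1, hv.d2, hv.d1, hs.t2, hs.t1]
    simp only [uTail, kOps, p, map_pow, map_mul, sq]
  -- the conjugation
  obtain ⟨uG, huG⟩ : ∃ uG : ↥(chevD4.group K), (uG : GL chevD4.Idx K) = u :=
    ⟨⟨u, (A.sys hc).le_group hu.2⟩, rfl⟩
  have hconj : (⟨x, hxG⟩ : ↥(chevD4.group K)) = uG * ⟨_, hyG⟩ * uG⁻¹ := Subtype.ext (by
    simp only [Subgroup.coe_mul, Subgroup.coe_inv, huG]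
    rw [hxe, ← hp]
    group)
  have hpow : ∀ t : ℕ, theta e ⟨x, hxG⟩ ^ t =
      theta e uG * theta e ⟨_, hyG⟩ ^ t * theta e uG⁻¹ := fun t => by
    rw [← map_pow, ← map_pow, ← map_mul, ← map_mul, hconj, conj_pow]
  rw [Finset.sum_congr rfl fun t _ => hpow t, ← Finset.sum_mul, ← Finset.mul_sum, hcand, hsum, mul_zero, zero_mul]

end Rep

end CfsgLib.KnownC.Spec.DFour
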