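import Mathlib

/-!
Operators killed by `X ^ 2 - (a + a⁻¹) X + 1`: powers, eigenvectors of commuting products, and the elements of
`SL₂` over a finite field seen over an algebraically closed field.
-/

set_option autoImplicit false

namespace CfsgLib.KnownC.Spec.TwoRoot

open Polynomial Matrix

variable {L : Type*} [Field L] {R : Type*} [Ring R] [Algebra L R]

/-- `T ^ 2 - (a + a⁻¹) T + 1 = 0`. -/
def Ann (T : R) (a : L) : Prop := a ≠ 0 ∧ T * T - (a + a⁻¹) • T + 1 = 0

theorem Ann.aeval_eq {T : R} {a : L} (h : Ann T a) : aeval T ((X - C a) * (X - C a⁻¹)) = 0 := by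
  have e : ((X - C a) * (X - C a⁻¹) : L[X]) = X * X - C (a + a⁻¹) * X + 1 := by
    have h1 : (C a * C a⁻¹ : L[X]) = 1 := by rw [← C_mul, mul_inv_cancel₀ h.1, C_1]
    rw [C_add]
    linear_combination h1
  rw [e]
  simp only [map_sub, map_add, map_mul, aeval_X, aeval_C, map_one]
  rw [← map_add, ← Algebra.smul_def, h.2]

theorem aeval_X_pow_sub (T : R) (N : ℕ) (c : L) : aeval T (X ^ N - C c) = T ^ N - c • 1 := by
  rw [map_sub, map_pow, aeval_X, aeval_C, Algebra.algebraMap_eq_smul_one]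

theorem linear_dvd {a c : L} {N : ℕ} (h : a ^ N = c) : (X - C a) ∣ (X ^ N - C c : L[X]) := by
  rw [dvd_iff_isRoot]
  simp [h]

theorem coprime_linear {a b : L} (h : a ≠ b) : IsCoprime (X - C a) (X - C b : L[X]) :=
  isCoprime_X_sub_C_of_isUnit_sub (sub_ne_zero.2 h).isUnit

theorem pair_dvd {a b c : L} {N : ℕ} (h : a ≠ b) (ha : a ^ N = c) (hb : b ^ N = c) :
    (X - C a) * (X - C b) ∣ (X ^ N - C c : L[X]) :=
  (coprime_linear h).mul_dvd (linear_dvd ha) (linear_dvd hb)

theorem pow_eq_of_dvd {T : R} {f : L[X]} (hf : aeval T f = 0) {N : ℕ} {c : L} (h : f ∣ X ^ N - C c) :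
    T ^ N = c • 1 := by
  obtain ⟨w, hw⟩ := h
  rw [← sub_eq_zero, ← aeval_X_pow_sub, hw, map_mul, hf, zero_mul]

theorem Ann.pow_eq {T : R} {a c : L} (h : Ann T a) {N : ℕ} (hne : a ≠ a⁻¹) (ha : a ^ N = c)
    (hc : c * c = 1) : T ^ N = c • 1 := by
  refine pow_eq_of_dvd h.aeval_eq (pair_dvd hne ha ?_)
  rw [inv_pow, ha, inv_eq_of_mul_eq_one_right hc]

theorem Ann.nil {T : R} {a : L} (h : Ann T a) (he : a = a⁻¹) : (T - a • 1) * (T - a • 1) = 0 := by
  have := h.aeval_eq
  rw [← he, map_mul, map_sub, aeval_X, aeval_C, Algebra.algebraMap_eq_smul_one] at this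
  exact this

theorem sq_of_self_inv {a : L} (h0 : a ≠ 0) (he : a = a⁻¹) : a * a = 1 := by
  conv_lhs => arg 2; rw [he]
  exact mul_inv_cancel₀ h0

theorem pow_of_sq {a : L} (h : a * a = 1) {k : ℕ} (hk : Odd k) : a ^ k = a := by
  obtain ⟨j, rfl⟩ := hk
  rw [pow_succ, pow_mul, sq, h, one_pow, one_mul]

theorem eq_one_of_two [CharP L 2] {c : L} (hc : c * c = 1) : c = 1 := by
  rcases mul_self_eq_one_iff.1 hc with h | h
  · exact h
  · rw [h]; exact CharTwo.neg_eq 1

theorem self_pow_char (p : ℕ) [Fact p.Prime] [CharP L p] {a : L} (h : a * a = 1) : a ^ p = a := by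
  rcases (Fact.out : p.Prime).eq_two_or_odd' with rfl | hodd
  · rw [eq_one_of_two h, one_pow]
  · exact pow_of_sq h hodd

/-! ### Fixed vectors of commuting products -/

theorem exists_weight {W : Type*} [AddCommGroup W] [Module L W] :
    ∀ (l : List (Module.End L W × L)) (w : W) (c : L), w ≠ 0 →
      (∀ y ∈ l, Ann y.1 y.2) → (∀ y ∈ l, ∀ z ∈ l, Commute y.1 z.1) →
      (l.map Prod.fst).prod w = c • w →
      ∃ ε : List L, List.Forall₂ (fun e y => e = y.2 ∨ e = y.2⁻¹) ε l ∧ ε.prod = c := by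
  intro l
  induction l with
  | nil =>
    intro w c hw _ _ h
    refine ⟨[], List.Forall₂.nil, ?_⟩
    simp only [List.map_nil, List.prod_nil, Module.End.one_apply] at h
    refine Eq.symm (sub_eq_zero.1 ((smul_eq_zero.1 ?_).resolve_right hw))
    rw [List.prod_nil, sub_smul, one_smul, ← h, sub_self]
  | cons y l ih =>
    intro w c hw hA hC h
    set T := y.1 with hT
    set P := (l.map Prod.fst).prod with hP
    have hTP : Commute T P := Commute.list_prod_right _ _ fun x hx => by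
      obtain ⟨z, hz, rfl⟩ := List.mem_map.1 hx
      exact hC y List.mem_cons_self z (List.mem_cons_of_mem _ hz)
    simp only [List.map_cons, List.prod_cons, ← hP, ← hT, Module.End.mul_apply] at h
    obtain ⟨ha0, hann⟩ := hA y List.mem_cons_self
    obtain ⟨e, w', he, hw', hTe, hc'⟩ : ∃ (e : L) (w' : W), (e = y.2 ∨ e = y.2⁻¹) ∧ w' ≠ 0 ∧ T w' = e • w' ∧
        T (P w') = c • w' := by
      by_cases hb : T w - y.2⁻¹ • w = 0
      · exact ⟨_, w, Or.inr rfl, hw, sub_eq_zero.1 hb, h⟩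
      refine ⟨_, T w - y.2⁻¹ • w, Or.inl rfl, hb, ?_, ?_⟩
      · have := congrArg (fun S : Module.End L W => S w) hann
        simp only [LinearMap.add_apply, LinearMap.sub_apply, LinearMap.smul_apply, Module.End.mul_apply,
          Module.End.one_apply, LinearMap.zero_apply, ← hT] at this
        rw [map_sub, map_smul, smul_sub, smul_smul, mul_inv_cancel₀ ha0, one_smul, ← sub_eq_zero, ← this, add_smul]
        abel
      · rw [map_sub, map_smul, map_sub, map_smul, h, smul_sub, smul_comm c]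
        congr 1
        have e1 : P (T w) = T (P w) := by
          rw [← Module.End.mul_apply, ← Module.End.mul_apply, hTP.eq]
        rw [e1, h, map_smul]
    have he0 : e ≠ 0 := by rcases he with rfl | rfl <;> simp [ha0]
    have hPw : P w' = (c * e⁻¹) • w' := by
      have e1 : e • P w' = c • w' := by
        rw [← map_smul, ← hTe, ← Module.End.mul_apply, ← hTP.eq, Module.End.mul_apply, hc']
      rw [mul_comm, mul_smul, ← e1, inv_smul_smul₀ he0]
    obtain ⟨ε, hε, hprod⟩ := ih w' _ hw' (fun z hz => hA z (List.mem_cons_of_mem _ hz))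
      (fun z hz z' hz' => hC z (List.mem_cons_of_mem _ hz) z' (List.mem_cons_of_mem _ hz')) hPw
    exact ⟨e :: ε, List.Forall₂.cons he hε, by rw [List.prod_cons, hprod, mul_left_comm, mul_inv_cancel₀ he0, mul_one]⟩

/-! ### `SL₂` over a finite field -/

variable {K : Type*} [Field K]

theorem cayley (g : Matrix.SpecialLinearGroup (Fin 2) K) :
    g.1 * g.1 - g.1.trace • g.1 + 1 = 0 := by
  have hd := g.2
  rw [Matrix.det_fin_two] at hd
  ext i j
  fin_cases i <;> fin_cases j <;> simp [Matrix.mul_apply, Fin.sum_univ_two, Matrix.trace_fin_two] <;>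
    first | linear_combination (-1 : K) * hd | ring

variable (φ : K →+* L)

theorem exists_ann [IsAlgClosed L] (g : Matrix.SpecialLinearGroup (Fin 2) K) :
    ∃ a : L, Ann (g.1.map φ) a ∧ a + a⁻¹ = φ g.1.trace := by
  obtain ⟨a, ha⟩ := IsAlgClosed.exists_root (X ^ 2 - C (φ g.1.trace) * X + C 1 : L[X])
    (by
      have h2 : (X ^ 2 - C (φ g.1.trace) * X + C 1 : L[X]).coeff 2 = 1 := by
        simp [coeff_X, coeff_C, coeff_one]
      intro hd
      have h0 := coeff_eq_zero_of_degree_lt (n := 2) (p := (X ^ 2 - C (φ g.1.trace) * X + C 1 : L[X])) (by rw [hd]; decide)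
      rw [h2] at h0
      exact one_ne_zero h0)
  simp only [IsRoot, eval_add, eval_sub, eval_pow, eval_X, eval_mul, eval_C] at ha
  have ha0 : a ≠ 0 := fun h => by simp [h] at ha
  have hsum : a + a⁻¹ = φ g.1.trace := by
    field_simp
    linear_combination ha
  refine ⟨a, ⟨ha0, ?_⟩, hsum⟩
  rw [hsum]
  have := congrArg φ.mapMatrix (cayley g)
  simp only [map_add, map_sub, map_mul, map_one, map_zero] at this
  rw [← this]
  simp [RingHom.mapMatrix_apply, Matrix.map_smul' _ _ _ φ.map_mul]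

theorem root_conj {a : L} (ha : a ≠ 0) {k : ℕ} (h : a ^ k + (a ^ k)⁻¹ = a + a⁻¹) : a ^ k = a ∨ a ^ k = a⁻¹ := by
  have hk : a ^ k ≠ 0 := pow_ne_zero _ ha
  have : (a ^ k - a) * (a ^ k - a⁻¹) = 0 := by
    have h1 := mul_inv_cancel₀ hk
    have h2 := mul_inv_cancel₀ ha
    linear_combination (a ^ k) * h + (-1 : L) * h1 + h2
  rcases mul_eq_zero.1 this with h | h
  · exact Or.inl (sub_eq_zero.1 h)
  · exact Or.inr (sub_eq_zero.1 h)

theorem pow_pm {a : L} (ha : a ≠ 0) {k : ℕ} (hk : 1 ≤ k) (h : a ^ k = a ∨ a ^ k = a⁻¹) :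
    a ^ (k - 1) = 1 ∨ a ^ (k + 1) = 1 := by
  rcases h with h | h
  · left
    refine mul_right_cancel₀ ha ?_
    rw [← pow_succ, Nat.sub_add_cancel hk, h, one_mul]
  · right
    rw [pow_succ, h, inv_mul_cancel₀ ha]

theorem frob_add (p : ℕ) [Fact p.Prime] [CharP L p] (m : ℕ) (a : L) :
    (a + a⁻¹) ^ p ^ m = a ^ p ^ m + (a ^ p ^ m)⁻¹ := by
  rw [add_pow_char_pow, inv_pow]

/-- If the trace is fixed by `x ↦ x ^ q`, a root satisfies `a ^ (q ± 1) = 1`. -/
theorem root_pm (p : ℕ) [Fact p.Prime] [CharP L p] (m : ℕ) {a : L} (ha : a ≠ 0) {t : K}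
    (hat : a + a⁻¹ = φ t) (ht : t ^ p ^ m = t) : a ^ (p ^ m - 1) = 1 ∨ a ^ (p ^ m + 1) = 1 := by
  refine pow_pm ha (Nat.one_le_pow _ _ (Fact.out : p.Prime).pos) (root_conj ha ?_)
  rw [← frob_add, hat, ← map_pow, ht]

/-- A scalar power over `L` descends. -/
theorem descend {n : Type*} [Fintype n] [DecidableEq n] (M : Matrix n n K) {N : ℕ} {c : K}
    (h : (M.map φ) ^ N = φ c • 1) : M ^ N = c • 1 := by
  refine Matrix.map_injective φ.injective ?_
  dsimp only
  rw [← RingHom.mapMatrix_apply, map_pow, RingHom.mapMatrix_apply, h]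
  ext i j
  by_cases hij : i = j <;> simp [hij]

end CfsgLib.KnownC.Spec.TwoRoot
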