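import Cfsg.Agent.Lib.KnownC.SympSpectrum
import Cfsg.Agent.Lib.KnownC.Spectra
import Cfsg.Agent.Lib.KnownC.Spec.TwoRoot

/-!
The element orders of `PSp₄(q)`: the divisors of `(q² ± 1) / δ`, `p (q ± 1)` and the exponent `p ^ ⌈log_p 4⌉` of the
unipotent part, `δ` the order of the centre.
-/

set_option autoImplicit false
set_option maxHeartbeats 400000

namespace CfsgLib.KnownC.Spec.SpFour

open Polynomial Matrix CfsgLib.KnownC CfsgLib.KnownC.Spec.TwoRoot

/-- `gcd(2, q - 1)`. -/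
def del (p : ℕ) : ℕ := if p = 2 then 1 else 2

/-- The maximal orders. -/
def maxOrders (p q : ℕ) : List ℕ :=
  [(q ^ 2 + 1) / del p, (q ^ 2 - 1) / del p, p * (q + 1), p * (q - 1), p ^ Nat.clog p 4]

/-- The spectrum. -/
def spec (p q : ℕ) : Set ℕ := {d | ∃ N ∈ maxOrders p q, d ∣ N}

theorem spec_of_dvd {p q d N : ℕ} (h : d ∣ N) (hN : N ∈ spec p q) : d ∈ spec p q := by
  obtain ⟨M, hM, hd⟩ := hN
  exact ⟨M, hM, h.trans hd⟩

theorem mem_spec_plus (p q : ℕ) : (q ^ 2 + 1) / del p ∈ spec p q := ⟨_, by simp [maxOrders], dvd_rfl⟩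
theorem mem_spec_minus (p q : ℕ) : (q ^ 2 - 1) / del p ∈ spec p q := ⟨_, by simp [maxOrders], dvd_rfl⟩
theorem mem_spec_pplus (p q : ℕ) : p * (q + 1) ∈ spec p q := ⟨_, by simp [maxOrders], dvd_rfl⟩
theorem mem_spec_pminus (p q : ℕ) : p * (q - 1) ∈ spec p q := ⟨_, by simp [maxOrders], dvd_rfl⟩
theorem mem_spec_unip (p q : ℕ) : p ^ Nat.clog p 4 ∈ spec p q := ⟨_, by simp [maxOrders], dvd_rfl⟩

theorem del_dvd {p q m : ℕ} [hp : Fact p.Prime] (hm : q = p ^ m) :
    del p ∣ q + 1 ∧ del p ∣ q - 1 ∧ del p ∣ q ^ 2 + 1 ∧ del p ∣ q ^ 2 - 1 := by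
  rw [del]
  split_ifs with h
  · exact ⟨one_dvd _, one_dvd _, one_dvd _, one_dvd _⟩
  · have hodd : Odd q := hm ▸ (hp.out.odd_of_ne_two h).pow
    obtain ⟨j, rfl⟩ := hodd
    refine ⟨⟨j + 1, by ring⟩, ⟨j, by omega⟩, ⟨2 * j * j + 2 * j + 1, by ring⟩, ⟨2 * j * j + 2 * j, ?_⟩⟩
    rw [show (2 * j + 1) ^ 2 = 2 * (2 * j * j + 2 * j) + 1 by ring, Nat.add_sub_cancel]

/-- `a ^ (δ h) = 1` gives a sign `a ^ h`. -/
theorem sign_of_pow {L : Type*} [Field L] {p h : ℕ} {a : L} (ha : a ^ (del p * h) = 1) :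
    a ^ h * a ^ h = 1 ∧ (p = 2 → a ^ h = 1) := by
  rw [del] at ha
  split_ifs at ha with hp
  · rw [one_mul] at ha
    exact ⟨by rw [ha, one_mul], fun _ => ha⟩
  · refine ⟨?_, fun h2 => absurd h2 hp⟩
    rw [← pow_add, ← two_mul, ha]

theorem pow_of_dvd {L : Type*} [Monoid L] {a : L} {k n : ℕ} (h : a ^ k = 1) (hkn : k ∣ n) : a ^ n = 1 := by
  obtain ⟨j, rfl⟩ := hkn
  rw [pow_mul, h, one_pow]

section Upper

variable {F : Type*} [Field F] [Fintype F] {L : Type*} [Field L] [Algebra F L] [IsAlgClosed L]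

theorem exists_factor (χ : F[X]) (hm : χ.Monic) (hd : χ.natDegree = 4) (hr : χ.reverse = χ) :
    ∃ a₁ a₂ : L, a₁ ≠ 0 ∧ a₂ ≠ 0 ∧
      χ.map (algebraMap F L) = (X - C a₁) * (X - C a₁⁻¹) * ((X - C a₂) * (X - C a₂⁻¹)) ∧
      (∀ k : ℕ, k = Fintype.card F → ((a₁ + a₁⁻¹) ^ k = a₁ + a₁⁻¹ ∧ (a₂ + a₂⁻¹) ^ k = a₂ + a₂⁻¹) ∨
        ((a₁ + a₁⁻¹) ^ k = a₂ + a₂⁻¹ ∧ (a₂ + a₂⁻¹) ^ k = a₁ + a₁⁻¹ ∧ a₁ + a₁⁻¹ ≠ a₂ + a₂⁻¹)) := by
  obtain ⟨c0, hc0⟩ : ∃ c : L, c = algebraMap F L (χ.coeff 1) := ⟨_, rfl⟩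
  obtain ⟨d0, hd0⟩ : ∃ c : L, c = algebraMap F L (χ.coeff 2) := ⟨_, rfl⟩
  have h4 : χ.coeff 4 = 1 := by rw [← hd]; exact hm.coeff_natDegree
  have hrc : ∀ i, i ≤ 4 → χ.coeff i = χ.coeff (4 - i) := fun i hi => by
    conv_lhs => rw [← hr]
    rw [coeff_reverse, hd, revAt_le hi]
  have h0 : χ.coeff 0 = 1 := by rw [hrc 0 (by norm_num), h4]
  have h3 : χ.coeff 3 = χ.coeff 1 := by rw [hrc 3 (by norm_num)]
  have hχ : χ.map (algebraMap F L) = X ^ 4 + C c0 * X ^ 3 + C d0 * X ^ 2 + C c0 * X + 1 := by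
    conv_lhs => rw [χ.as_sum_range_C_mul_X_pow, hd]
    simp only [Finset.sum_range_succ, Finset.sum_range_zero, h0, h3, h4, Polynomial.map_add, Polynomial.map_mul,
      Polynomial.map_pow, map_C, map_X, map_one, Polynomial.map_one, ← hc0, ← hd0, Polynomial.map_zero]
    ring
  -- the two sums
  obtain ⟨s₁, hs₁⟩ := IsAlgClosed.exists_root (X ^ 2 + C c0 * X + C (d0 - 2) : L[X]) (by
    intro hdg
    have h2 : (X ^ 2 + C c0 * X + C (d0 - 2) : L[X]).coeff 2 = 1 := by simp [coeff_X, coeff_C]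
    have h0' := coeff_eq_zero_of_degree_lt (n := 2) (p := (X ^ 2 + C c0 * X + C (d0 - 2) : L[X]))
      (by rw [hdg]; decide)
    rw [h2] at h0'
    exact one_ne_zero h0')
  simp only [IsRoot, eval_add, eval_pow, eval_X, eval_mul, eval_C] at hs₁
  have hroot : ∀ s : L, ∃ a : L, a ≠ 0 ∧ a + a⁻¹ = s := by
    intro s
    obtain ⟨a, ha⟩ := IsAlgClosed.exists_root (X ^ 2 - C s * X + C 1 : L[X]) (by
      intro hdg
      have h2 : (X ^ 2 - C s * X + C 1 : L[X]).coeff 2 = 1 := by simp [coeff_X, coeff_C, coeff_one]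
      have h0' := coeff_eq_zero_of_degree_lt (n := 2) (p := (X ^ 2 - C s * X + C 1 : L[X]))
        (by rw [hdg]; decide)
      rw [h2] at h0'
      exact one_ne_zero h0')
    simp only [IsRoot, eval_add, eval_sub, eval_pow, eval_X, eval_mul, eval_C] at ha
    have ha0 : a ≠ 0 := fun h => by simp [h] at ha
    refine ⟨a, ha0, ?_⟩
    field_simp
    linear_combination ha
  obtain ⟨a₁, ha₁, e₁⟩ := hroot s₁
  obtain ⟨a₂, ha₂, e₂⟩ := hroot (-c0 - s₁)
  have quad : ∀ a s : L, a ≠ 0 → a + a⁻¹ = s → (X - C a) * (X - C a⁻¹) = X ^ 2 - C s * X + 1 := by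
    intro a s ha hs
    have h1 : (C a * C a⁻¹ : L[X]) = 1 := by rw [← C_mul, mul_inv_cancel₀ ha, C_1]
    rw [← hs, C_add]
    linear_combination h1
  refine ⟨a₁, a₂, ha₁, ha₂, ?_, fun k hk => ?_⟩
  · rw [hχ, quad a₁ _ ha₁ e₁, quad a₂ _ ha₂ e₂]
    have h := congrArg C hs₁
    simp only [map_add, map_mul, map_pow, map_sub, map_neg, map_zero] at h ⊢
    have h2 : (C (2 : L) : L[X]) = 2 := map_ofNat C 2
    rw [h2] at h
    linear_combination X ^ 2 * h
  · rw [e₁, e₂]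
    obtain ⟨p, hp⟩ := CharP.exists F
    obtain ⟨m, hpp, hcard⟩ := FiniteField.card F p
    haveI := Fact.mk hpp
    haveI : CharP L p := charP_of_injective_algebraMap (algebraMap F L).injective p
    have hfix : ∀ x : F, (algebraMap F L x) ^ k = algebraMap F L x := fun x => by
      rw [← map_pow, hk, FiniteField.pow_card]
    have hadd : ∀ x y : L, (x + y) ^ k = x ^ k + y ^ k := fun x y => by
      rw [hk, hcard]; exact add_pow_char_pow x y p _
    have hc : c0 ^ k = c0 := by rw [hc0]; exact hfix _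
    have hd' : (d0 - 2) ^ k = d0 - 2 := by
      rw [hd0, show (algebraMap F L (χ.coeff 2) - 2 : L) = algebraMap F L (χ.coeff 2 - 2) by
        rw [map_sub, map_ofNat]]
      exact hfix _
    have hsum : s₁ ^ k + (-c0 - s₁) ^ k = -c0 := by
      rw [← hadd, add_sub_cancel, hk, hcard]
      rw [hk, hcard] at hc
      have := add_pow_char_pow c0 (-c0) p (m : ℕ)
      rw [add_neg_cancel, zero_pow (pow_pos hpp.pos _).ne', hc] at this
      linear_combination -this
    have hq : (s₁ ^ k - s₁) * (s₁ ^ k - (-c0 - s₁)) = 0 := by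
      have h := congrArg (· ^ k) hs₁
      simp only [hadd, mul_pow, hc, hd', zero_pow (hk ▸ Fintype.card_pos (α := F)).ne', ← pow_mul] at h
      rw [pow_mul'] at h
      linear_combination h - hs₁
    rcases eq_or_ne (s₁ ^ k) s₁ with h | h
    · exact Or.inl ⟨h, by linear_combination hsum - h⟩
    · have h' := sub_eq_zero.1 ((mul_eq_zero.1 hq).resolve_left (sub_ne_zero.2 h))
      exact Or.inr ⟨h', by linear_combination hsum - h', fun e => h (h'.trans e.symm)⟩

/-- A power of every element of `Sp₄(q)` is a sign, the exponent one of the maximal orders. -/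
theorem exists_scalar (p : ℕ) [hp : Fact p.Prime] [CharP F p] (g : Matrix.symplecticGroup (Fin 2) F) :
    ∃ (N : ℕ) (c : F), N ∈ spec p (Fintype.card F) ∧ c * c = 1 ∧
      (g ^ N).1 = c • (1 : Matrix (Fin 2 ⊕ Fin 2) (Fin 2 ⊕ Fin 2) F) := by
  classical
  let L := AlgebraicClosure F
  let φ : F →+* L := algebraMap F L
  haveI : CharP L p := charP_of_injective_algebraMap φ.injective p
  obtain ⟨m, -, hq⟩ := FiniteField.card F p
  set q := Fintype.card F with hqdef
  have hq2 : 2 ≤ q := Fintype.one_lt_card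
  obtain ⟨hdp, hdm, hdqp, hdqm⟩ := del_dvd (p := p) hq
  set χ := (g.1).charpoly
  obtain ⟨a₁, a₂, ha₁, ha₂, hfac, hconj⟩ := exists_factor (L := L) χ (g.1).charpoly_monic
    (by rw [Matrix.charpoly_natDegree_eq_dim, card_symp_index]) (CfsgLib.Classical.SemiSympExists.charpoly_symp g)
  -- descent
  have key : ∀ (N : ℕ) (c : L), N ∈ spec p q → c * c = 1 →
      (χ.map φ) ∣ X ^ N - C c → ∃ (N : ℕ) (c : F), N ∈ spec p q ∧ c * c = 1 ∧
        (g ^ N).1 = c • (1 : Matrix (Fin 2 ⊕ Fin 2) (Fin 2 ⊕ Fin 2) F) := by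
    intro N c hN hc hdvd
    have hann : aeval (g.1.map φ) (χ.map φ) = 0 := by
      rw [← Matrix.charpoly_map]; exact Matrix.aeval_self_charpoly _
    have h := pow_eq_of_dvd hann hdvd
    obtain ⟨c', hc', rfl⟩ : ∃ c' : F, c' * c' = 1 ∧ φ c' = c := by
      rcases mul_self_eq_one_iff.1 hc with rfl | rfl
      · exact ⟨1, one_mul 1, map_one φ⟩
      · exact ⟨-1, by ring, by simp⟩
    exact ⟨N, c', hN, hc', by rw [SubmonoidClass.coe_pow]; exact descend φ g.1 h⟩
  rw [hfac] at key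
  rcases hconj q rfl with ⟨h1, h2⟩ | ⟨h12, h21, hne⟩
  · -- both sums fixed
    have pm : ∀ a : L, a ≠ 0 → (a + a⁻¹) ^ q = a + a⁻¹ → a ^ (q - 1) = 1 ∨ a ^ (q + 1) = 1 := by
      intro a ha h
      refine pow_pm ha (by omega) (root_conj ha ?_)
      rw [← h, hq, frob_add]
    by_cases hs : a₁ + a₁⁻¹ = a₂ + a₂⁻¹
    · have hsame : ((X - C a₂) * (X - C a₂⁻¹) : L[X]) = (X - C a₁) * (X - C a₁⁻¹) := by
        have e : ∀ a : L, a ≠ 0 → ((X - C a) * (X - C a⁻¹) : L[X]) = X * X - C (a + a⁻¹) * X + 1 := fun a ha => by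
          have h1 : (C a * C a⁻¹ : L[X]) = 1 := by rw [← C_mul, mul_inv_cancel₀ ha, C_1]
          rw [C_add]
          linear_combination h1
        rw [e a₂ ha₂, e a₁ ha₁, hs]
      rw [hsame] at key
      by_cases he : a₁ = a₁⁻¹
      · -- one eigenvalue
        have hsq := sq_of_self_inv ha₁ he
        refine key (p ^ Nat.clog p 4) a₁ (mem_spec_unip p q) hsq ?_
        have hpow : a₁ ^ p ^ Nat.clog p 4 = a₁ := by
          induction Nat.clog p 4 with
          | zero => simp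
          | succ k ih => rw [pow_succ, pow_mul, ih, self_pow_char p hsq]
        rw [← he, show (X ^ p ^ Nat.clog p 4 - C a₁ : L[X]) = (X - C a₁) ^ p ^ Nat.clog p 4 by
          rw [sub_pow_char_pow, ← C_pow, hpow],
          show ((X - C a₁) * (X - C a₁) * ((X - C a₁) * (X - C a₁)) : L[X]) = (X - C a₁) ^ 4 by ring]
        exact pow_dvd_pow _ (Nat.le_pow_clog hp.out.one_lt 4)
      · -- two double eigenvalues
        obtain ⟨M, hM, hpM⟩ : ∃ M, a₁ ^ M = 1 ∧ (M = q - 1 ∨ M = q + 1) := by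
          rcases pm a₁ ha₁ h1 with h | h
          · exact ⟨_, h, Or.inl rfl⟩
          · exact ⟨_, h, Or.inr rfl⟩
        have hd1 : ((X - C a₁) * (X - C a₁⁻¹) : L[X]) ∣ X ^ M - C 1 :=
          pair_dvd he hM (by rw [inv_pow, hM, inv_one])
        refine key (p * M) 1 (by rcases hpM with rfl | rfl; exacts [mem_spec_pminus p q, mem_spec_pplus p q])
          (one_mul 1) ?_
        rw [mul_comm p M, pow_mul, ← one_pow (M := L) p, C_pow, ← sub_pow_char]
        calc _ ∣ (X ^ M - C 1) * (X ^ M - C 1) := mul_dvd_mul hd1 hd1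
          _ ∣ _ := by rw [← pow_two]; exact pow_dvd_pow _ hp.out.two_le
    · have hne4 : a₁ ≠ a₂ ∧ a₁ ≠ a₂⁻¹ ∧ a₁⁻¹ ≠ a₂ ∧ a₁⁻¹ ≠ a₂⁻¹ := by
        refine ⟨fun e => hs (by rw [e]), fun e => hs (by rw [e, inv_inv, add_comm]),
          fun e => hs (by rw [← e, inv_inv, add_comm]), fun e => hs (by rw [inv_inj.1 e])⟩
      have hcop : IsCoprime ((X - C a₁) * (X - C a₁⁻¹) : L[X]) ((X - C a₂) * (X - C a₂⁻¹)) :=
        IsCoprime.mul_left ((coprime_linear hne4.1).mul_right (coprime_linear hne4.2.1))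
          ((coprime_linear hne4.2.2.1).mul_right (coprime_linear hne4.2.2.2))
      by_cases hd : a₁ = a₁⁻¹ ∨ a₂ = a₂⁻¹
      · obtain ⟨M, hM₁, hM₂, hpM⟩ : ∃ M, a₁ ^ M = 1 ∧ a₂ ^ M = 1 ∧ (M = q - 1 ∨ M = q + 1) := by
          have aux : ∀ a : L, a ≠ 0 → a = a⁻¹ → a ^ (q - 1) = 1 ∧ a ^ (q + 1) = 1 := by
            intro a ha he
            have hsq := sq_of_self_inv ha he
            rcases hp.out.eq_two_or_odd' with rfl | hodd
            · simp [eq_one_of_two hsq]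
            · have hqo : Odd q := hq ▸ hodd.pow
              obtain ⟨j, hj⟩ := hqo
              exact ⟨by rw [show q - 1 = 2 * j by omega, pow_mul, sq, hsq, one_pow],
                by rw [show q + 1 = 2 * (j + 1) by omega, pow_mul, sq, hsq, one_pow]⟩
          rcases hd with he | he
          · obtain ⟨e1, e2⟩ := aux _ ha₁ he
            rcases pm a₂ ha₂ h2 with h | h
            · exact ⟨_, e1, h, Or.inl rfl⟩
            · exact ⟨_, e2, h, Or.inr rfl⟩
          · obtain ⟨e1, e2⟩ := aux _ ha₂ he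
            rcases pm a₁ ha₁ h1 with h | h
            · exact ⟨_, h, e1, Or.inl rfl⟩
            · exact ⟨_, h, e2, Or.inr rfl⟩
        refine key (p * M) 1 (by rcases hpM with rfl | rfl; exacts [mem_spec_pminus p q, mem_spec_pplus p q])
          (one_mul 1) ?_
        rw [mul_comm p M, pow_mul, ← one_pow (M := L) p, C_pow, ← sub_pow_char]
        refine (hcop.mul_dvd ?_ ?_).trans (pow_dvd_pow _ hp.out.two_le)
        · rw [pow_two]; exact mul_dvd_mul (linear_dvd hM₁) (linear_dvd (by rw [inv_pow, hM₁, inv_one]))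
        · rw [pow_two]; exact mul_dvd_mul (linear_dvd hM₂) (linear_dvd (by rw [inv_pow, hM₂, inv_one]))
      · -- four eigenvalues
        push_neg at hd
        obtain ⟨hN1, hN2⟩ : (q - 1) ∣ (q ^ 2 - 1) / del p ∧ (q + 1) ∣ (q ^ 2 - 1) / del p := by
          have e : q ^ 2 - 1 = (q + 1) * (q - 1) := by rw [← Nat.sq_sub_sq, one_pow]
          rw [e]
          exact ⟨by rw [mul_comm, Nat.mul_div_assoc _ hdp]; exact dvd_mul_right _ _,
            by rw [Nat.mul_div_assoc _ hdm]; exact dvd_mul_right _ _⟩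
        have hpow : ∀ a : L, a ≠ 0 → (a + a⁻¹) ^ q = a + a⁻¹ → a ^ ((q ^ 2 - 1) / del p) = 1 := fun a ha h => by
          rcases pm a ha h with e | e
          · exact pow_of_dvd e hN1
          · exact pow_of_dvd e hN2
        have p1 := hpow a₁ ha₁ h1
        have p2 := hpow a₂ ha₂ h2
        exact key _ 1 (mem_spec_minus p q) (one_mul 1)
          (hcop.mul_dvd (pair_dvd hd.1 p1 (by rw [inv_pow, p1, inv_one]))
            (pair_dvd hd.2 p2 (by rw [inv_pow, p2, inv_one])))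
  · -- the sums are interchanged
    have hnd : ∀ a b : L, a ≠ 0 → (a + a⁻¹) ^ q = b + b⁻¹ → (b + b⁻¹) ≠ a + a⁻¹ → a ≠ a⁻¹ := by
      intro a b ha h hne he
      have hsq := sq_of_self_inv ha he
      have haq : a ^ q = a := by
        rw [hq]
        induction (m : ℕ) with
        | zero => simp
        | succ k ih => rw [pow_succ, pow_mul, ih, self_pow_char p hsq]
      rw [hq, frob_add, ← hq, haq] at h
      exact hne h.symm
    have hd₁ := hnd a₁ a₂ ha₁ h12 hne.symm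
    have hd₂ := hnd a₂ a₁ ha₂ h21 hne
    have hq1 : (a₁ ^ q) ^ q = a₁ ∨ (a₁ ^ q) ^ q = a₁⁻¹ := by
      rw [← pow_mul]
      refine root_conj ha₁ ?_
      rw [hq, ← pow_add, ← frob_add, pow_add, pow_mul, ← hq, h12, h21]
    have hrel : a₁ ^ q = a₂ ∨ a₁ ^ q = a₂⁻¹ := by
      have h := h12
      rw [hq, frob_add, ← hq] at h
      have hk : a₁ ^ q ≠ 0 := pow_ne_zero _ ha₁
      have : (a₁ ^ q - a₂) * (a₁ ^ q - a₂⁻¹) = 0 := by
        have e1 := mul_inv_cancel₀ hk
        have e2 := mul_inv_cancel₀ ha₂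
        linear_combination (a₁ ^ q) * h + (-1 : L) * e1 + e2
      rcases mul_eq_zero.1 this with h | h
      · exact Or.inl (sub_eq_zero.1 h)
      · exact Or.inr (sub_eq_zero.1 h)
    obtain ⟨N, hN, hdN⟩ : ∃ N, N ∈ spec p q ∧ a₁ ^ (del p * N) = 1 := by
      rw [← pow_mul, ← sq] at hq1
      rcases pow_pm ha₁ (Nat.one_le_pow _ _ (by omega)) hq1 with h | h
      · exact ⟨_, mem_spec_minus p q, by rw [Nat.mul_div_cancel' hdqm]; exact h⟩
      · exact ⟨_, mem_spec_plus p q, by rw [Nat.mul_div_cancel' hdqp]; exact h⟩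
    obtain ⟨hsign, hsign2⟩ := sign_of_pow hdN
    set c := a₁ ^ N
    have hcinv : c⁻¹ = c := inv_eq_of_mul_eq_one_right hsign
    have hcq : c ^ q = c := by
      rcases hp.out.eq_two_or_odd' with h2 | hodd
      · rw [hsign2 h2, one_pow]
      · exact pow_of_sq hsign (hq ▸ hodd.pow)
    have hc₂ : a₂ ^ N = c := by
      have e : (a₁ ^ q) ^ N = c := by rw [← pow_mul, mul_comm, pow_mul, hcq]
      rcases hrel with h | h
      · rw [← h, e]
      · rw [← inv_inv (a₂ ^ N), ← inv_pow, ← h, e, hcinv]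
    have hs : a₁ + a₁⁻¹ ≠ a₂ + a₂⁻¹ := hne
    have hne4 : a₁ ≠ a₂ ∧ a₁ ≠ a₂⁻¹ ∧ a₁⁻¹ ≠ a₂ ∧ a₁⁻¹ ≠ a₂⁻¹ :=
      ⟨fun e => hs (by rw [e]), fun e => hs (by rw [e, inv_inv, add_comm]),
        fun e => hs (by rw [← e, inv_inv, add_comm]), fun e => hs (by rw [inv_inj.1 e])⟩
    refine key N c hN hsign ((IsCoprime.mul_left ((coprime_linear hne4.1).mul_right (coprime_linear hne4.2.1))
      ((coprime_linear hne4.2.2.1).mul_right (coprime_linear hne4.2.2.2))).mul_dvd ?_ ?_)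
    · exact pair_dvd hd₁ rfl (by rw [inv_pow, hcinv])
    · exact pair_dvd hd₂ hc₂ (by rw [inv_pow, hc₂, hcinv])

end Upper

/-! ### The spectrum -/

variable {F : Type*} [Field F] [Fintype F]

theorem orderOf_dvd_of_scalar (y : Matrix.symplecticGroup (Fin 2) F) {N : ℕ} {c : F}
    (h : (y ^ N).1 = c • (1 : Matrix (Fin 2 ⊕ Fin 2) (Fin 2 ⊕ Fin 2) F)) :
    orderOf (QuotientGroup.mk' (Subgroup.center (Matrix.symplecticGroup (Fin 2) F)) y) ∣ N :=
  orderOf_dvd_of_pow_eq_one (by rw [← map_pow]; exact SympSpectrum.mk_eq_one_of_smul _ c h)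

theorem range_orderOf (p : ℕ) [hp : Fact p.Prime] [CharP F p] :
    Set.range (orderOf : Cfsg.PSp 2 F → ℕ) = spec p (Fintype.card F) := by
  classical
  obtain ⟨m, -, hq⟩ := FiniteField.card F p
  set q := Fintype.card F with hqdef
  have hq2 : 2 ≤ q := Fintype.one_lt_card
  obtain ⟨hdp, hdm, hdqp, hdqm⟩ := del_dvd (p := p) hq
  refine Set.Subset.antisymm ?_ ?_
  · rintro _ ⟨y, rfl⟩
    obtain ⟨g, rfl⟩ := QuotientGroup.mk'_surjective _ y
    obtain ⟨N, c, hN, -, hg⟩ := exists_scalar p g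
    exact spec_of_dvd (orderOf_dvd_of_scalar g hg) hN
  · haveI : Finite (Cfsg.PSp 2 F) := inferInstance
    have hwit : ∀ N ∈ maxOrders p q, ∃ y : Cfsg.PSp 2 F, N ∣ orderOf y := by
      have hpi : ∀ s : Matrix.symplecticGroup (Fin 2) F,
          orderOf s ∣ del p * orderOf (QuotientGroup.mk' (Subgroup.center (Matrix.symplecticGroup (Fin 2) F)) s) := by
        intro s
        rw [del]
        split_ifs with h2
        · subst h2
          rw [one_mul]
          obtain ⟨c, hc, hs⟩ := SympSpectrum.sign_of_mk_eq_one (n := 2) (by norm_num) (s ^ orderOf (QuotientGroup.mk'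
            (Subgroup.center (Matrix.symplecticGroup (Fin 2) F)) s)) (by rw [map_pow, pow_orderOf_eq_one])
          rw [eq_one_of_two hc, one_smul] at hs
          exact orderOf_dvd_of_pow_eq_one (Subtype.ext hs)
        · exact SympSpectrum.orderOf_dvd_two_mul (by norm_num) s
      have hd0 : 0 < del p := by rw [del]; split_ifs <;> norm_num
      obtain ⟨sp, hsp⟩ := SympSpectrum.exists_orderOf_plus (F := F) p 2 (by norm_num)
      obtain ⟨sm, hsm⟩ := SympSpectrum.exists_orderOf_minus (F := F) p 2 (by norm_num)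
      obtain ⟨t1, ht1⟩ := SympSpectrum.exists_orderOf_plus (F := F) p 1 (by norm_num)
      obtain ⟨t2, ht2⟩ := SympSpectrum.exists_orderOf_minus (F := F) p 1 (by norm_num)
      obtain ⟨u2, hu2⟩ := SympSpectrum.exists_orderOf_unipotent (F := F) p 2 (by norm_num)
      obtain ⟨u1, hu1⟩ := SympSpectrum.exists_orderOf_unipotent (F := F) p 1 (by norm_num)
      have hu1' : orderOf u1 = p ^ 1 := by
        rw [hu1, Nat.clog_eq_one (le_refl _) hp.out.two_le]
      rw [pow_one] at ht1 ht2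
      have hpq : p ∣ q := hq ▸ dvd_pow_self p m.ne_zero
      have hmix : ∀ (t : Matrix.symplecticGroup (Fin 1) F) (o : ℕ), orderOf t = o → o.Coprime p →
          ∃ y : Cfsg.PSp 2 F, p * o ∣ orderOf y := by
        intro t o ht hcop
        rcases hp.out.eq_two_or_odd' with h2 | hodd
        · subst h2
          refine ⟨QuotientGroup.mk' _ (SympSpectrum.spSum₂ 1 1 (t, u1)), ?_⟩
          set k := orderOf (QuotientGroup.mk' (Subgroup.center (Matrix.symplecticGroup (Fin 2) F))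
            (SympSpectrum.spSum₂ 1 1 (t, u1))) with hk
          obtain ⟨c, hc, hs⟩ := SympSpectrum.sign_of_mk_eq_one (n := 2) (by norm_num)
            (SympSpectrum.spSum₂ 1 1 (t, u1) ^ k) (by rw [map_pow, hk, pow_orderOf_eq_one])
          rw [← map_pow] at hs
          obtain ⟨e1, e2⟩ := SympSpectrum.spSum₂_eq_smul (s := t ^ k) (u := u1 ^ k) hs
          rw [eq_one_of_two hc, one_smul] at e1 e2
          refine hcop.symm.mul_dvd_of_dvd_of_dvd ?_ (ht ▸ orderOf_dvd_of_pow_eq_one (Subtype.ext e1))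
          rw [← pow_one 2, ← hu1']
          exact orderOf_dvd_of_pow_eq_one (Subtype.ext e2)
        · obtain ⟨y, hy1, hy2⟩ := SympSpectrum.exists_mixed (n := 2) p (fun h => by subst h; revert hodd; decide) le_rfl rfl t u1
            le_rfl hu1'
          rw [pow_one] at hy2
          exact ⟨y, hcop.symm.mul_dvd_of_dvd_of_dvd hy2 (ht ▸ hy1)⟩
      intro N hN
      simp only [maxOrders, List.mem_cons, List.not_mem_nil, or_false] at hN
      rcases hN with rfl | rfl | rfl | rfl | rfl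
      · refine ⟨QuotientGroup.mk' _ sp, Nat.dvd_of_mul_dvd_mul_left hd0 ?_⟩
        rw [Nat.mul_div_cancel' hdqp, ← hsp]
        exact hpi sp
      · refine ⟨QuotientGroup.mk' _ sm, Nat.dvd_of_mul_dvd_mul_left hd0 ?_⟩
        rw [Nat.mul_div_cancel' hdqm, ← hsm]
        exact hpi sm
      · refine hmix t1 _ ht1 ?_
        refine ((hp.out.coprime_iff_not_dvd).2 fun hd => ?_).symm
        exact hp.out.one_lt.ne' (Nat.dvd_one.1 ((Nat.dvd_add_right hpq).1 hd))
      · refine hmix t2 _ ht2 ?_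
        refine ((hp.out.coprime_iff_not_dvd).2 fun hd => ?_).symm
        have hd1 : p ∣ (q - 1) + 1 := by rw [Nat.sub_add_cancel (by omega)]; exact hpq
        exact hp.out.one_lt.ne' (Nat.dvd_one.1 ((Nat.dvd_add_right hd).1 hd1))
      · refine ⟨QuotientGroup.mk' _ u2, ?_⟩
        have h := hpi u2
        rw [hu2] at h
        refine (Nat.Coprime.dvd_of_dvd_mul_left ?_ h)
        rw [del]
        split_ifs with h2
        · exact Nat.coprime_one_right _
        · exact (Nat.Coprime.pow_left _ ((Nat.coprime_primes hp.out Nat.prime_two).2 h2))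
    rintro d ⟨N, hN, hd⟩
    obtain ⟨y, hy⟩ := hwit N hN
    exact mem_range_orderOf_of_dvd y (orderOf_pos y).ne' (hd.trans hy)

end CfsgLib.KnownC.Spec.SpFour
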