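import Cfsg.Agent.Lib.KnownC.FibrePower
import Cfsg.Agent.Lib.KnownC.Spec.SpFourOrders
import Cfsg.Agent.Lib.Recog.SemidirectSpectrum

/-!
Affine groups over `SL₂(q²)`: the general spectrum criterion, the linear maps `X ↦ A X Bᵀ` and the eigenvalues of a
fixed vector.
-/

set_option autoImplicit false

namespace CfsgLib.KnownC.Spec.SpFour

open Matrix CfsgLib.KnownC.Spec.TwoRoot
open scoped Kronecker

/-! ### Affine groups -/

section Affine

variable {K W : Type*} [Field K] [AddCommGroup W] [Module K W]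

/-- The norm of `w` under `x`. -/
noncomputable def norm (x : W ≃ₗ[K] W) (w : W) : W := ∑ i ∈ Finset.range (orderOf x), (x ^ i) w

theorem pow_fixed {x : W ≃ₗ[K] W} {w : W} (h : x w = w) (i : ℕ) : (x ^ i) w = w := by
  induction i with
  | zero => rfl
  | succ i ih =>
    rw [pow_succ]
    show (x ^ i) (x w) = w
    rw [h, ih]

theorem norm_of_fixed {x : W ≃ₗ[K] W} {w : W} (h : x w = w) : norm x w = (orderOf x : K) • w := by
  rw [norm, Finset.sum_congr rfl fun i _ => pow_fixed h i, Finset.sum_const, Finset.card_range,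
    Nat.cast_smul_eq_nsmul]

theorem fixed_norm (x : W ≃ₗ[K] W) (w : W) : x (norm x w) = norm x w := by
  rw [norm, map_sum]
  have h1 := Finset.sum_range_succ' (fun i => (x ^ i) w) (orderOf x)
  rw [Finset.sum_range_succ, pow_orderOf_eq_one, pow_zero] at h1
  refine Eq.trans (Finset.sum_congr rfl fun i _ => ?_) (add_right_cancel h1).symm
  rw [pow_succ']
  rfl

theorem exists_large_affine [Finite W] (p : ℕ) [hp : Fact p.Prime] [CharP K p] (M : Subgroup (W ≃ₗ[K] W))
    (S : Set ℕ) (hS : ∀ d N : ℕ, d ∣ N → N ∈ S → d ∈ S)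
    (h1 : ∀ x ∈ M, orderOf x ∈ S)
    (h2 : ∀ x ∈ M, ∀ w, norm x w ≠ 0 → p * orderOf x ∈ S)
    (h3 : ∀ d ∈ S, ∃ x ∈ M, d ∣ orderOf x ∨ ∃ w, norm x w ≠ 0 ∧ d ∣ p * orderOf x)
    (hne : ∃ w : W, w ≠ 0) (N : ℕ) :
    ∃ (H : Type) (_ : Group H) (_ : Fintype H), N < Fintype.card H ∧ Set.range (orderOf : H → ℕ) = S := by
  haveI : Finite (W ≃ₗ[K] W) := Finite.of_injective _ DFunLike.coe_injective
  haveI : Finite M := inferInstance
  haveI : Finite (Multiplicative W) := Finite.of_equiv W Multiplicative.ofAdd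
  let G := Multiplicative W ⋊[CfsgLib.Recog.mulAutOfAction M W] M
  haveI : Finite G := Finite.of_equiv _ SemidirectProduct.equivProd.symm
  let K' : Subgroup G := (SemidirectProduct.inl : Multiplicative W →* G).range
  haveI : K'.Normal := by
    show (SemidirectProduct.inl : Multiplicative W →* G).range.Normal
    rw [SemidirectProduct.range_inl_eq_ker_rightHom]; infer_instance
  have hexp : ∀ a : W, p • a = 0 := fun a => by
    rw [← Nat.cast_smul_eq_nsmul K, CharP.cast_eq_zero, zero_smul]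
  have hK'p : IsPGroup p K' := by
    rintro ⟨_, v, rfl⟩
    refine ⟨1, Subtype.ext ?_⟩
    show (SemidirectProduct.inl v : G) ^ p ^ 1 = 1
    rw [pow_one, ← map_pow, show v ^ p = 1 from Multiplicative.toAdd.injective (by rw [toAdd_pow, hexp]; rfl),
      map_one]
  have hne' : K' ≠ ⊥ := by
    intro he
    obtain ⟨d, hd⟩ := hne
    have hm : (SemidirectProduct.inl (Multiplicative.ofAdd d) : G) ∈ K' := ⟨_, rfl⟩
    rw [he, Subgroup.mem_bot] at hm
    exact hd (Multiplicative.ofAdd.injective (SemidirectProduct.inl_injective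
      (hm.trans (map_one (SemidirectProduct.inl : Multiplicative W →* G)).symm)))
  obtain ⟨H, i1, i2, hcard, hR⟩ := FibrePower.exists_large K' hp.out hK'p hne' N
  refine ⟨H, i1, i2, hcard, hR.trans ?_⟩
  have hsum : ∀ (x : M) (w : W), (∑ i ∈ Finset.range (orderOf x), x ^ i • w) = norm x.1 w := fun x w => by
    rw [norm, Subgroup.orderOf_coe]
    rfl
  refine Set.Subset.antisymm ?_ fun d hd => ?_
  · rintro _ ⟨g, rfl⟩
    rcases CfsgLib.Recog.orderOf_semidirect hp.out hexp g with ⟨-, h⟩ | ⟨hn, h⟩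
    · rw [h, ← Subgroup.orderOf_coe]; exact h1 _ g.right.2
    · rw [h, ← Subgroup.orderOf_coe]
      exact h2 _ g.right.2 g.left.toAdd (by rwa [← hsum])
  · obtain ⟨x, hx, h | ⟨w, hw, h⟩⟩ := h3 d hd
    · refine mem_range_orderOf_of_dvd (SemidirectProduct.inr ⟨x, hx⟩ : G) (orderOf_pos _).ne' ?_
      rw [orderOf_injective _ SemidirectProduct.inr_injective, ← Subgroup.orderOf_coe]
      exact h
    · refine mem_range_orderOf_of_dvd (⟨Multiplicative.ofAdd w, ⟨x, hx⟩⟩ : G) (orderOf_pos _).ne' ?_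
      rcases CfsgLib.Recog.orderOf_semidirect hp.out hexp (⟨Multiplicative.ofAdd w, ⟨x, hx⟩⟩ : G) with
        ⟨h0, -⟩ | ⟨-, ho⟩
      · exact absurd ((hsum ⟨x, hx⟩ w).symm.trans h0) hw
      · rw [ho, ← Subgroup.orderOf_coe]; exact h

end Affine

/-! ### `X ↦ A X Bᵀ` -/

section Rho

variable {K : Type*} [CommRing K] {ι : Type*} [Fintype ι] [DecidableEq ι] {G : Type*} [Group G]

/-- The linear maps `X ↦ A(g) X B(g)ᵀ`. -/
def rho (A B : G →* Matrix ι ι K) : G →* (Matrix ι ι K ≃ₗ[K] Matrix ι ι K) where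
  toFun g :=
    { toFun := fun X => A g * X * (B g)ᵀ
      map_add' := fun X Y => by rw [mul_add, add_mul]
      map_smul' := fun c X => by rw [RingHom.id_apply, mul_smul_comm, smul_mul_assoc]
      invFun := fun X => A g⁻¹ * X * (B g⁻¹)ᵀ
      left_inv := fun X => by
        simp only [← mul_assoc, ← map_mul, inv_mul_cancel, map_one, one_mul]
        rw [mul_assoc, ← transpose_mul, ← map_mul, inv_mul_cancel, map_one, transpose_one, mul_one]
      right_inv := fun X => by
        simp only [← mul_assoc, ← map_mul, mul_inv_cancel, map_one, one_mul]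
        rw [mul_assoc, ← transpose_mul, ← map_mul, mul_inv_cancel, map_one, transpose_one, mul_one] }
  map_one' := LinearEquiv.ext fun X => by
    show A 1 * X * (B 1)ᵀ = X
    rw [map_one, map_one, transpose_one, one_mul, mul_one]
  map_mul' g h := LinearEquiv.ext fun X => by
    show A (g * h) * X * (B (g * h))ᵀ = A g * (A h * X * (B h)ᵀ) * (B g)ᵀ
    rw [map_mul, map_mul, transpose_mul]
    simp only [mul_assoc]

theorem rho_apply (A B : G →* Matrix ι ι K) (g : G) (X : Matrix ι ι K) :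
    rho A B g X = A g * X * (B g)ᵀ := rfl

theorem rho_eq_one_of_scalar {A B : G →* Matrix ι ι K} {g : G} {c d : K} (hA : A g = c • 1) (hB : B g = d • 1)
    (h : c * d = 1) : rho A B g = 1 := LinearEquiv.ext fun X => by
  show A g * X * (B g)ᵀ = X
  rw [hA, hB, transpose_smul, transpose_one, smul_mul_assoc, one_mul, smul_mul_assoc, mul_smul_comm, mul_one,
    smul_smul, h, one_smul]

end Rho

theorem scalar_of_rho {K : Type*} [Field K] {ι : Type*} [Fintype ι] [DecidableEq ι] [Nonempty ι] {G : Type*}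
    [Group G] {A B : G →* Matrix ι ι K} {g : G} (h : rho A B g = 1) : ∃ α : K, α ≠ 0 ∧ A g = α • 1 := by
  obtain ⟨j₀⟩ := ‹Nonempty ι›
  have he : ∀ i a, A g a i * B g j₀ j₀ = if a = i then 1 else 0 := by
    intro i a
    have h0 : A g * Matrix.single i j₀ 1 * (B g)ᵀ = Matrix.single i j₀ 1 := LinearEquiv.congr_fun h _
    have h1 := congrFun (congrFun h0 a) j₀
    rw [Matrix.mul_assoc] at h1
    simp only [Matrix.mul_apply, Matrix.single_apply, ite_mul, one_mul, zero_mul, mul_ite, mul_zero,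
      transpose_apply] at h1
    simp only [eq_comm (a := a)]
    simpa [ite_and, Finset.sum_ite_eq] using h1
  have hb : B g j₀ j₀ ≠ 0 := fun e => by
    have := he j₀ j₀
    rw [e, mul_zero, if_pos rfl] at this
    exact zero_ne_one this
  refine ⟨(B g j₀ j₀)⁻¹, inv_ne_zero hb, Matrix.ext fun a i => ?_⟩
  rw [Matrix.smul_apply, Matrix.one_apply, smul_eq_mul, ← mul_left_inj' hb, he]
  split_ifs <;> simp [hb]

/-! ### Annihilated operators -/

section Ops

variable {L : Type*} [Field L] {ι : Type*} [Fintype ι] [DecidableEq ι]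

theorem ann_transpose {M : Matrix ι ι L} {a : L} (h : Ann M a) : Ann Mᵀ a := by
  refine ⟨h.1, ?_⟩
  have := congrArg Matrix.transpose h.2
  simpa [transpose_sub, transpose_add, transpose_mul] using this

theorem ann_mulLeft {M : Matrix ι ι L} {a : L} (h : Ann M a) : Ann (LinearMap.mulLeft L M) a := by
  refine ⟨h.1, LinearMap.ext fun Y => ?_⟩
  have e := congrArg (fun Z : Matrix ι ι L => Z * Y) h.2
  simp only [add_mul, sub_mul, smul_mul_assoc, one_mul, zero_mul, mul_assoc] at e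
  simpa using e

theorem ann_mulRight {M : Matrix ι ι L} {a : L} (h : Ann M a) : Ann (LinearMap.mulRight L M) a := by
  refine ⟨h.1, LinearMap.ext fun Y => ?_⟩
  have e := congrArg (fun Z : Matrix ι ι L => Y * Z) h.2
  simp only [mul_add, mul_sub, mul_smul_comm, mul_one, mul_zero, ← mul_assoc] at e
  simpa using e

theorem commute_mulLeft {M N : Matrix ι ι L} (h : Commute M N) :
    Commute (LinearMap.mulLeft L M) (LinearMap.mulLeft L N) := by
  refine LinearMap.ext fun Y => ?_
  show M * (N * Y) = N * (M * Y)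
  rw [← mul_assoc, h.eq, mul_assoc]

theorem commute_mulRight {M N : Matrix ι ι L} (h : Commute M N) :
    Commute (LinearMap.mulRight L M) (LinearMap.mulRight L N) := by
  refine LinearMap.ext fun Y => ?_
  show Y * N * M = Y * M * N
  rw [mul_assoc, ← h.eq, mul_assoc]

variable {κ : Type*} [Fintype κ] [DecidableEq κ]

theorem ann_kron_left {M : Matrix ι ι L} {a : L} (h : Ann M a) : Ann (M ⊗ₖ (1 : Matrix κ κ L)) a := by
  refine ⟨h.1, ?_⟩
  rw [← mul_kronecker_mul, one_mul]
  refine Matrix.ext fun i j => ?_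
  have e := congrFun (congrFun h.2 i.1) j.1
  simp only [Matrix.add_apply, Matrix.sub_apply, Matrix.smul_apply, Matrix.zero_apply, smul_eq_mul] at e
  by_cases h1 : i.1 = j.1 <;> by_cases h2 : i.2 = j.2 <;>
    simp [Matrix.one_apply, h1, h2, Prod.ext_iff] at e ⊢ <;> exact e

theorem ann_kron_right {M : Matrix ι ι L} {a : L} (h : Ann M a) : Ann ((1 : Matrix κ κ L) ⊗ₖ M) a := by
  refine ⟨h.1, ?_⟩
  rw [← mul_kronecker_mul, one_mul]
  refine Matrix.ext fun i j => ?_
  have e := congrFun (congrFun h.2 i.2) j.2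
  simp only [Matrix.add_apply, Matrix.sub_apply, Matrix.smul_apply, Matrix.zero_apply, smul_eq_mul] at e
  by_cases h1 : i.1 = j.1 <;> by_cases h2 : i.2 = j.2 <;>
    simp [Matrix.one_apply, h1, h2, Prod.ext_iff] at e ⊢ <;> exact e

theorem commute_kron (M N : Matrix ι ι L) :
    Commute (M ⊗ₖ (1 : Matrix ι ι L)) ((1 : Matrix ι ι L) ⊗ₖ N) := by
  show _ * _ = _ * _
  rw [← mul_kronecker_mul, ← mul_kronecker_mul, one_mul, mul_one, one_mul, mul_one]

/-- A fixed point of `Y ↦ A Y B` gives a relation between the eigenvalues of `A` and `B`. -/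
theorem weight_two {A B Y : Matrix ι ι L} {a b : L} (hA : Ann A a) (hB : Ann B b) (hY : Y ≠ 0)
    (h : A * Y * B = Y) : ∃ e f : L, (e = a ∨ e = a⁻¹) ∧ (f = b ∨ f = b⁻¹) ∧ e * f = 1 := by
  obtain ⟨ε, hε, hprod⟩ := exists_weight
    [(LinearMap.mulLeft L A, a), (LinearMap.mulRight L B, b)] Y 1 hY
    (by
      simp only [List.mem_cons, List.not_mem_nil, or_false]
      rintro y (rfl | rfl)
      exacts [ann_mulLeft hA, ann_mulRight hB])
    (by
      simp only [List.mem_cons, List.not_mem_nil, or_false]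
      rintro y (rfl | rfl) z (rfl | rfl)
      exacts [Commute.refl _, LinearMap.commute_mulLeft_right _ _, (LinearMap.commute_mulLeft_right _ _).symm,
        Commute.refl _])
    (by simpa [mul_assoc] using h)
  cases hε with
  | cons he hε' => cases hε' with
    | cons hf hnil => cases hnil; exact ⟨_, _, he, hf, by simpa using hprod⟩

/-- The same for `Y ↦ (A₁ A₂) Y (B₂ B₁)`. -/
theorem weight_four {A₁ A₂ B₁ B₂ Y : Matrix ι ι L} {a₁ a₂ b₁ b₂ : L} (hA₁ : Ann A₁ a₁) (hA₂ : Ann A₂ a₂)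
    (hB₁ : Ann B₁ b₁) (hB₂ : Ann B₂ b₂) (hA : Commute A₁ A₂) (hB : Commute B₁ B₂) (hY : Y ≠ 0)
    (h : A₁ * A₂ * Y * (B₂ * B₁) = Y) :
    ∃ e₁ e₂ f₁ f₂ : L, (e₁ = a₁ ∨ e₁ = a₁⁻¹) ∧ (e₂ = a₂ ∨ e₂ = a₂⁻¹) ∧ (f₁ = b₁ ∨ f₁ = b₁⁻¹) ∧
      (f₂ = b₂ ∨ f₂ = b₂⁻¹) ∧ e₁ * (e₂ * (f₁ * f₂)) = 1 := by
  obtain ⟨ε, hε, hprod⟩ := exists_weight
    [(LinearMap.mulLeft L A₁, a₁), (LinearMap.mulLeft L A₂, a₂), (LinearMap.mulRight L B₁, b₁),
      (LinearMap.mulRight L B₂, b₂)] Y 1 hY
    (by
      simp only [List.mem_cons, List.not_mem_nil, or_false]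
      rintro y (rfl | rfl | rfl | rfl)
      exacts [ann_mulLeft hA₁, ann_mulLeft hA₂, ann_mulRight hB₁, ann_mulRight hB₂])
    (by
      simp only [List.mem_cons, List.not_mem_nil, or_false]
      have l := commute_mulLeft hA
      have r := commute_mulRight hB
      have c := fun M N : Matrix ι ι L => LinearMap.commute_mulLeft_right (R := L) M N
      rintro y (rfl | rfl | rfl | rfl) z (rfl | rfl | rfl | rfl)
      exacts [Commute.refl _, l, c _ _, c _ _, l.symm, Commute.refl _, c _ _, c _ _, (c _ _).symm, (c _ _).symm,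
        Commute.refl _, r, (c _ _).symm, (c _ _).symm, r.symm, Commute.refl _])
    (by simpa [mul_assoc] using h)
  cases hε with
  | cons h₁ hε => cases hε with
    | cons h₂ hε => cases hε with
      | cons h₃ hε => cases hε with
        | cons h₄ hε => cases hε; exact ⟨_, _, _, _, h₁, h₂, h₃, h₄, by simpa [mul_assoc] using hprod⟩

end Ops

/-! ### Elements of `SL₂` -/

section SLTwo

variable {K L : Type*} [Field K] [Field L] (φ : K →+* L)

theorem ann_map (g : Matrix.SpecialLinearGroup (Fin 2) K) {a : L} (ha : a ≠ 0)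
    (hat : a + a⁻¹ = φ g.1.trace) : Ann (g.1.map φ) a := by
  refine ⟨ha, ?_⟩
  rw [hat]
  have := congrArg φ.mapMatrix (cayley g)
  simp only [map_add, map_sub, map_mul, map_one, map_zero] at this
  rw [← this]
  simp [RingHom.mapMatrix_apply, Matrix.map_smul' _ _ _ φ.map_mul]

theorem trace_map {K' : Type*} [Field K'] (f : K →+* K') (g : Matrix.SpecialLinearGroup (Fin 2) K) :
    (Matrix.SpecialLinearGroup.map f g).1.trace = f g.1.trace := by
  show (g.1.map f).trace = f g.1.trace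
  simp [Matrix.trace_fin_two]

theorem sign_descend {c : L} (hc : c * c = 1) : ∃ c' : K, c' * c' = 1 ∧ φ c' = c := by
  rcases mul_self_eq_one_iff.1 hc with rfl | rfl
  · exact ⟨1, one_mul 1, map_one φ⟩
  · exact ⟨-1, by ring, by simp⟩

theorem pow_scalar {p N : ℕ} (g : Matrix.SpecialLinearGroup (Fin 2) K) {a : L} (h : Ann (g.1.map φ) a)
    (hne : a ≠ a⁻¹) (hN : a ^ (del p * N) = 1) : ∃ c : K, c * c = 1 ∧ g.1 ^ N = c • 1 := by
  obtain ⟨hc, -⟩ := sign_of_pow hN
  obtain ⟨c, hc', hcφ⟩ := sign_descend φ hc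
  exact ⟨c, hc', descend φ g.1 (h.pow_eq hne (hcφ.symm) (by rw [← map_mul, hc', map_one]))⟩

theorem unipotent (g : Matrix.SpecialLinearGroup (Fin 2) K) {a : L} (h : Ann (g.1.map φ) a) (he : a = a⁻¹) :
    ∃ (c : K) (M : Matrix (Fin 2) (Fin 2) K), c * c = 1 ∧ M * M = 0 ∧ g.1 = c • (1 + M) := by
  obtain ⟨c, hc, rfl⟩ := sign_descend φ (sq_of_self_inv h.1 he)
  refine ⟨c, c • g.1 - 1, hc, ?_, by rw [add_sub_cancel, smul_smul, hc, one_smul]⟩
  have hn := h.nil he
  have e : (g.1 - c • 1) * (g.1 - c • 1) = 0 := by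
    refine Matrix.map_injective φ.injective ?_
    dsimp only
    rw [Matrix.map_mul, Matrix.map_zero _ (map_zero φ)]
    have e1 : (g.1 - c • 1).map φ = g.1.map φ - φ c • 1 := by
      ext i j
      by_cases hij : i = j <;> simp [hij]
    rw [e1, hn]
  have e2 : (c • g.1 - 1) = c • (g.1 - c • 1) := by rw [smul_sub, smul_smul, hc, one_smul]
  rw [e2, smul_mul_smul_comm, e, smul_zero]

theorem pow_of_nil {c : K} {M : Matrix (Fin 2) (Fin 2) K} (hM : M * M = 0) (i : ℕ) :
    (c • (1 + M)) ^ i = c ^ i • (1 + (i : K) • M) := by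
  induction i with
  | zero => simp
  | succ i ih =>
    rw [pow_succ, ih, smul_mul_smul_comm, ← pow_succ]
    congr 1
    rw [add_mul, one_mul, smul_mul_assoc, mul_add, mul_one, hM, add_zero, Nat.cast_succ, add_smul, one_smul]
    abel

theorem pow_char_of_nil (p : ℕ) [Fact p.Prime] [CharP K p] {c : K} {M : Matrix (Fin 2) (Fin 2) K}
    (hM : M * M = 0) (hc : c * c = 1) : (c • (1 + M)) ^ p = c • 1 := by
  rw [pow_of_nil hM, CharP.cast_eq_zero, zero_smul, add_zero, self_pow_char p hc]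

end SLTwo

end CfsgLib.KnownC.Spec.SpFour
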