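import Cfsg.Agent.Lib.KnownC.Spec.DFourRep
import Cfsg.Agent.Lib.KnownC.Spec.SpFourModelBase

/-!
Arbitrarily large groups with the spectrum of `³D₄(2)`.
-/

set_option autoImplicit false
set_option maxRecDepth 100000
set_option maxHeartbeats 1000000

namespace CfsgLib.KnownC.Spec.DFour

open Matrix Cfsg.Lie CfsgLib.Chev

local notation "M8" => Matrix (Fin 8) (Fin 8) K8
local notation "W8" => Fin 8 → K8

/-- The transpose of code lists. -/
def transN (A : List (List ℕ)) : List (List ℕ) :=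
  List.ofFn fun j : Fin 8 => List.ofFn fun i : Fin 8 => (A.getD i.1 []).getD j.1 0

theorem transN_toN (A : M8) : transN (toN A) = toN Aᵀ := by
  simp only [transN, toN, toL, List.map_ofFn]
  congr 1
  funext j
  simp only [Function.comp, List.map_ofFn]
  congr 1
  funext i
  simp [List.getD_eq_getElem?_getD, i.2, j.2, -List.ofFn_succ, Matrix.transpose_apply]

/-- Powers by codes. -/
def powN (Mc : List (List ℕ)) : ℕ → List (List ℕ)
  | 0 => toN 1
  | k + 1 => mmul nOps (powN Mc k) Mc

theorem powN_eq (A : M8) (k : ℕ) : powN (transN (toN A)) k = toN (A ^ k) := by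
  induction k with
  | zero => rfl
  | succ k ih => rw [powN, ih, transN_toN, pow_succ, ← map_mul_toL]; rfl

/-- The root elements of the witnesses. -/
def witU (b g s : K8) : List (ℕ × K8) := (14, b) :: uTail kOps ⟨1, b, g, 0, 0, 0, s⟩

/-- The witnesses: the order, the word, the parameters. -/
def wit : List (ℕ × List (Fin 2) × K8 × K8 × K8) :=
  [(8, [], 1, 0, 1), (12, [1], 1, 0, 1), (18, [1], 1, 0, ⟨false, true, false⟩), (28, [1], 1, 0, ⟨true, true, false⟩),
   (13, [1, 0], 1, ⟨false, true, false⟩, 0), (21, [1, 0], 0, ⟨true, true, false⟩, 0)]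

/-- The image of a witness. -/
def witList (x : ℕ × List (Fin 2) × K8 × K8 × K8) : List (ℕ × K8) :=
  x.2.1.flatMap oList8 ++ witU x.2.2.1 x.2.2.2.1 x.2.2.2.2

theorem wit_orders : ∀ x ∈ wit,
    (powN (transN (chainN (witList x))) x.1 = toN 1) ∧
      (∀ m ∈ [1, 2, 3, 4, 6, 7, 9, 14], m ∣ x.1 → m ≠ x.1 → powN (transN (chainN (witList x))) m ≠ toN 1) ∧
      x.2.2.1 * x.2.2.1 = x.2.2.1 := by
  decide +kernel

theorem nList_wit : ∀ N ∈ nList, ∃ x ∈ wit, x.1 = N := by decide +kernel

theorem orderOf_of_powL {A : M8} {N : ℕ} (hN : N ∈ nList) (h1 : powN (transN (toN A)) N = toN 1)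
    (h2 : ∀ m ∈ [1, 2, 3, 4, 6, 7, 9, 14], m ∣ N → m ≠ N → powN (transN (toN A)) m ≠ toN 1) : orderOf A = N := by
  simp only [powN_eq] at h1 h2
  have hd := orderOf_dvd_of_pow_eq_one (toN_injective h1)
  have hN0 : 0 < N := by fin_cases hN <;> norm_num
  by_contra hne
  refine h2 (orderOf A) ?_ hd hne (by rw [pow_orderOf_eq_one])
  have : ∀ N ∈ nList, ∀ m ∈ Nat.divisors N, m ≠ N → m ∈ [1, 2, 3, 4, 6, 7, 9, 14] := by decide +kernel
  exact this N hN _ (Nat.mem_divisors.2 ⟨hd, hN0.ne'⟩) hne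

section

variable {K : Type*} [Field K] [Fintype K] [CharP K 2] (e : K ≃+* K8)

include e

omit e in
theorem group_of_mem (hK : Fintype.card K = 8) : twistedD4 K 2 ≤ chevD4.group K := by
  obtain ⟨A, hG, -, -, -, -⟩ := exists_setupD4 K (q := 2) Nat.prime_two.isPrimePow (by rw [hK]; norm_num)
  rw [← hG]
  exact (A.sys (hasComm_of_mem (by simp))).le_group

/-- The representation of `³D₄(2)`. -/
noncomputable def thetaL (hK : Fintype.card K = 8) : ↥(twistedD4 K 2) →* M8 :=
  (theta e).comp (Subgroup.inclusion (group_of_mem hK))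

/-- The action on the natural module. -/
noncomputable def psi (hK : Fintype.card K = 8) : ↥(twistedD4 K 2) →* (W8 ≃ₗ[K8] W8) where
  toFun g :=
    { toFun := fun v => thetaL e hK g *ᵥ v
      map_add' := fun u v => Matrix.mulVec_add _ u v
      map_smul' := fun c v => Matrix.mulVec_smul _ c v
      invFun := fun v => thetaL e hK g⁻¹ *ᵥ v
      left_inv := fun v => by
        show thetaL e hK g⁻¹ *ᵥ (thetaL e hK g *ᵥ v) = v
        rw [Matrix.mulVec_mulVec, ← map_mul, inv_mul_cancel, map_one, Matrix.one_mulVec]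
      right_inv := fun v => by
        show thetaL e hK g *ᵥ (thetaL e hK g⁻¹ *ᵥ v) = v
        rw [Matrix.mulVec_mulVec, ← map_mul, mul_inv_cancel, map_one, Matrix.one_mulVec] }
  map_one' := LinearEquiv.ext fun v => by
    show thetaL e hK 1 *ᵥ v = v
    rw [map_one, Matrix.one_mulVec]
  map_mul' g h := LinearEquiv.ext fun v => by
    show thetaL e hK (g * h) *ᵥ v = thetaL e hK g *ᵥ (thetaL e hK h *ᵥ v)
    rw [map_mul, Matrix.mulVec_mulVec]

theorem exists_witness (hK : Fintype.card K = 8) : ∀ N ∈ nList, ∃ g : ↥(twistedD4 K 2), orderOf (thetaL e hK g) = N := by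
  intro N hN
  obtain ⟨x, hx, rfl⟩ := nList_wit N hN
  obtain ⟨h1, h2, hb⟩ := wit_orders x hx
  have hq : Fintype.card K = 2 ^ 3 := by rw [hK]; norm_num
  obtain ⟨A, hG, -, -, hr, ho⟩ := exists_setupD4 K (q := 2) Nat.prime_two.isPrimePow hq
  obtain ⟨-, na, nb, -⟩ := Triality.pieces (K := K) (q := 2) Nat.prime_two.isPrimePow hq
  have hs0 : chevD4.simple 0 = 18 ∧ chevD4.simple 1 = 14 ∧ chevD4.simple 2 = 13 ∧ chevD4.simple 3 = 12 := by
    decide +kernel
  obtain ⟨s0, s1, s2, s3⟩ := hs0
  have hword : ∀ l : List (Fin 2), ∃ n ∈ twistedD4 K 2, Img e n (l.flatMap oList8) := by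
    intro l
    induction l with
    | nil => exact ⟨1, one_mem _, img_one e⟩
    | cons o l ih =>
      obtain ⟨n, hn, hi⟩ := ih
      fin_cases o
      · refine ⟨_ * n, mul_mem nb hn, img_mul e ?_ hi⟩
        have := img_nI e (K := K) ⟨1, by decide⟩
        simpa [Good.wordN, oList8, s1] using this
      · refine ⟨_ * n, mul_mem na hn, img_mul e ?_ hi⟩
        have := img_mul e (img_mul e (img_nI e (K := K) ⟨3, by decide⟩) (img_nI e (K := K) ⟨2, by decide⟩))
          (img_nI e (K := K) ⟨0, by decide⟩)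
        simpa [Good.wordN, oList8, s0, s2, s3, mul_assoc] using this
  obtain ⟨n, hn, hni⟩ := hword x.2.1
  obtain ⟨b, hb'⟩ : ∃ b : K, b = e.symm x.2.2.1 := ⟨_, rfl⟩
  obtain ⟨g0, hg'⟩ : ∃ g : K, g = e.symm x.2.2.2.1 := ⟨_, rfl⟩
  obtain ⟨t0, ht'⟩ : ∃ t : K, t = e.symm x.2.2.2.2 := ⟨_, rfl⟩
  let v : Triality.V9 K := ⟨b, g0, g0 ^ 2, (g0 ^ 2) ^ 2, 0, 0, 0, 0, 0⟩
  have hcompat : Triality.Compat 2 v ∧ Triality.TC 2 (Triality.T3.of 2 t0) := by
    refine ⟨⟨?_, rfl, rfl, ?_, ?_, ?_, ?_⟩, Triality.tc_of 2 t0⟩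
    · show b ^ 2 = b
      rw [hb', ← map_pow, sq, hb]
    all_goals simp [v]
  have hu := (Triality.mem_iff Nat.prime_two.isPrimePow hq (v, Triality.T3.of 2 t0)).2 hcompat
  have hmem := mul_mem hn hu
  have hU : Img e (Triality.elt (v, Triality.T3.of 2 t0)) (witU x.2.2.1 x.2.2.2.1 x.2.2.2.2) := by
    have h9 := img_mul e (img_x e (r := 14) (by norm_num) v.b) (img_mul e (img_x e (r := 19) (by norm_num) v.g0)
      (img_mul e (img_x e (r := 16) (by norm_num) v.g1) (img_mul e (img_x e (r := 15) (by norm_num) v.g2)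
      (img_mul e (img_x e (r := 21) (by norm_num) v.d0) (img_mul e (img_x e (r := 17) (by norm_num) v.d1)
      (img_mul e (img_x e (r := 20) (by norm_num) v.d2) (img_mul e (img_x e (r := 22) (by norm_num) v.e)
      (img_x e (r := 23) (by norm_num) v.z))))))))
    have := img_mul e h9 (img_mul e (img_x e (r := 18) (by norm_num) (Triality.T3.of 2 t0).t0)
      (img_mul e (img_x e (r := 13) (by norm_num) (Triality.T3.of 2 t0).t1)
        (img_x e (r := 12) (by norm_num) (Triality.T3.of 2 t0).t2)))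
    simp only [v, Triality.T3.of, hb', hg', ht', map_pow, map_mul, map_zero, RingEquiv.apply_symm_apply, sq] at this ⊢
    simp only [witU, uTail, kOps, mul_zero]
    exact this
  obtain ⟨hG', hval⟩ := img_mul e hni hU
  refine ⟨⟨_, hmem⟩, ?_⟩
  refine orderOf_of_powL hN ?_ ?_
  · rw [show thetaL e hK ⟨_, hmem⟩ = chain (witList x) from hval, ← chainN_eq]
    exact h1
  · intro m hm hd hne
    rw [show thetaL e hK ⟨_, hmem⟩ = chain (witList x) from hval, ← chainN_eq]
    exact h2 m hm hd hne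

/-- `³D₄(2)` and the natural module give unboundedly many groups with the same spectrum. -/
theorem exists_large (hK : Fintype.card K = 8) (B : ℕ) :
    ∃ (H : Type) (_ : Group H) (_ : Fintype H), B < Fintype.card H ∧
      Set.range (orderOf : H → ℕ) = Set.range (orderOf : ↥(twistedD4 K 2) → ℕ) := by
  classical
  haveI : Fact (Nat.Prime 2) := ⟨Nat.prime_two⟩
  haveI : Finite (GL chevD4.Idx K) := inferInstance
  have hq : Fintype.card K = 2 ^ 3 := by rw [hK]; norm_num
  haveI := (CfsgLib.Chev.twistedD4_simple K Nat.prime_two.isPrimePow hq).1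
  -- faithfulness
  have hinj : Function.Injective (thetaL e hK) := by
    rw [← MonoidHom.ker_eq_bot_iff]
    refine (Subgroup.Normal.eq_bot_or_eq_top (MonoidHom.normal_ker _)).resolve_right fun htop => ?_
    obtain ⟨g, hg⟩ := exists_witness e hK 8 (by decide)
    have : g ∈ (thetaL e hK).ker := htop ▸ Subgroup.mem_top g
    rw [MonoidHom.mem_ker] at this
    rw [this, orderOf_one] at hg
    omega
  have hpsi : Function.Injective (psi e hK) := fun g h hgh => hinj (by
    ext i j
    have := congrArg (fun f : W8 ≃ₗ[K8] W8 => f (Pi.single j 1) i) hgh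
    change (thetaL e hK g *ᵥ Pi.single j 1) i = (thetaL e hK h *ᵥ Pi.single j 1) i at this
    simpa [Matrix.mulVec_single] using this)
  have hord : ∀ g, orderOf (psi e hK g) = orderOf g := fun g => orderOf_injective _ hpsi g
  have hordT : ∀ g, orderOf (thetaL e hK g) = orderOf g := fun g => orderOf_injective _ hinj g
  have hmax : ∀ N ∈ nList, ∃ g : ↥(twistedD4 K 2), orderOf g = N := fun N hN => by
    obtain ⟨g, hg⟩ := exists_witness e hK N hN
    exact ⟨g, by rw [← hordT, hg]⟩
  refine SpFour.exists_large_affine 2 (psi e hK).range (Set.range (orderOf : ↥(twistedD4 K 2) → ℕ)) ?_ ?_ ?_ ?_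
    ⟨Pi.single 0 1, fun h => one_ne_zero (α := K8) (by simpa using congrFun h 0)⟩ B
  · rintro d _ hd ⟨g, rfl⟩
    exact mem_range_orderOf_of_dvd g (orderOf_pos g).ne' hd
  · rintro _ ⟨g, rfl⟩
    exact ⟨g, (hord g).symm⟩
  · rintro _ ⟨g, rfl⟩ w hw
    obtain ⟨N, hN, hsum⟩ := exists_geom e hK g.2 (group_of_mem hK g.2)
    have hsum' : ∑ t ∈ Finset.range N, thetaL e hK g ^ t = 0 := hsum
    have hAN : thetaL e hK g ^ N = 1 := by
      have := geom_sum_mul (thetaL e hK g) N
      rw [hsum', zero_mul] at this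
      exact sub_eq_zero.1 this.symm
    obtain ⟨k, hk⟩ : orderOf g ∣ N := by rw [← hordT]; exact orderOf_dvd_of_pow_eq_one hAN
    set n := orderOf g
    set S := ∑ t ∈ Finset.range n, thetaL e hK g ^ t
    have hS : ∑ t ∈ Finset.range (n * k), thetaL e hK g ^ t = k • S := by
      clear hk
      induction k with
      | zero => simp
      | succ k ih =>
        rw [Nat.mul_succ, Finset.sum_range_add, ih, succ_nsmul]
        congr 1
        refine Finset.sum_congr rfl fun t _ => ?_
        rw [pow_add, pow_mul, show thetaL e hK g ^ n = 1 by rw [← map_pow, pow_orderOf_eq_one, map_one], one_pow,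
          one_mul]
    rw [← hk, hsum'] at hS
    have hnorm : SpFour.norm (psi e hK g) w = S *ᵥ w := by
      rw [SpFour.norm, hord, Matrix.sum_mulVec]
      refine Finset.sum_congr rfl fun t _ => ?_
      rw [← map_pow, ← map_pow]
      rfl
    rcases Nat.even_or_odd' k with ⟨j, rfl | rfl⟩
    · obtain ⟨g', hg'⟩ := hmax N hN
      rw [hord]
      exact mem_range_orderOf_of_dvd g' (orderOf_pos g').ne' ⟨j, by rw [hg', hk]; ring⟩
    · refine absurd ?_ hw
      have h2 : (2 * j + 1 : ℕ) • S = S := by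
        rw [← Nat.cast_smul_eq_nsmul K8]
        push_cast
        rw [CharTwo.two_eq_zero, zero_mul, zero_add, one_smul]
      rw [hnorm, ← h2, ← hS, Matrix.zero_mulVec]
  · rintro d ⟨g, rfl⟩
    exact ⟨psi e hK g, ⟨g, rfl⟩, Or.inl (by rw [hord])⟩

end

end CfsgLib.KnownC.Spec.DFour
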