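import Cfsg.Agent.Lib.KnownC.Spec.DFourBits

/-!
The candidates `h P_w U(u)` of `³D₄(2)` in the eight-dimensional representation, generically and bitsliced.
-/

set_option autoImplicit false
set_option maxRecDepth 100000
-- one kernel evaluation at a time keeps the memory small
set_option Elab.async false

namespace CfsgLib.KnownC.Spec.DFour

variable {α : Type}

/-- The nonzero places of the root elements. -/
def cells : List ((ℕ × ℕ) × (ℕ × ℕ)) :=
  [((5, 0), (4, 1)), ((6, 0), (4, 2)), ((3, 0), (4, 7)), ((7, 0), (4, 3)), ((2, 0), (4, 6)), ((1, 0), (4, 5)),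
   ((6, 1), (5, 2)), ((3, 1), (5, 7)), ((7, 1), (5, 3)), ((2, 1), (5, 6)), ((3, 2), (6, 7)), ((7, 2), (6, 3)),
   ((3, 6), (2, 7)), ((2, 3), (7, 6)), ((1, 2), (6, 5)), ((3, 5), (1, 7)), ((1, 3), (7, 5)), ((2, 5), (1, 6)),
   ((0, 1), (5, 4)), ((0, 2), (6, 4)), ((3, 4), (0, 7)), ((0, 3), (7, 4)), ((2, 4), (0, 6)), ((1, 4), (0, 5))]

/-- An entry of a root element. -/
def uEntry (o : Ops α) (r : ℕ) (t : α) (i j : Fin 8) : α :=
  if i = j then o.one
  else if ((i : ℕ), (j : ℕ)) = (cells.getD r default).1 ∨ ((i : ℕ), (j : ℕ)) = (cells.getD r default).2 then t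
  else o.zero

/-- A root element by rows. -/
def uRows (o : Ops α) (r : ℕ) (t : α) : List (List α) :=
  List.ofFn fun i : Fin 8 => List.ofFn fun j : Fin 8 => uEntry o r t i j

/-- A root element by columns. -/
def uCols (o : Ops α) (r : ℕ) (t : α) : List (List α) :=
  List.ofFn fun j : Fin 8 => List.ofFn fun i : Fin 8 => uEntry o r t i j

/-- A parameter: `a`, `b`, `g`, `d`, `e`, `z`, `s`. -/
structure Param (α : Type) where
  /-- torus -/
  a : α
  /-- root 14 -/
  b : α
  /-- roots 19, 16, 15 -/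
  g : α
  /-- roots 21, 17, 20 -/
  d : α
  /-- root 22 -/
  e : α
  /-- root 23 -/
  z : α
  /-- roots 18, 13, 12 -/
  s : α

/-- The root elements of `U(u)`, after the first. -/
def uTail (o : Ops α) (p : Param α) : List (ℕ × α) :=
  [(19, p.g), (16, o.mul p.g p.g), (15, o.mul (o.mul p.g p.g) (o.mul p.g p.g)), (21, p.d), (17, o.mul p.d p.d),
   (20, o.mul (o.mul p.d p.d) (o.mul p.d p.d)), (22, p.e), (23, p.z), (18, p.s), (13, o.mul p.s p.s),
   (12, o.mul (o.mul p.s p.s) (o.mul p.s p.s))]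

/-- `U(u)`. -/
def uMatList (o : Ops α) (p : Param α) : List (List α) :=
  (uTail o p).foldl (fun A rt => mmul o A (uCols o rt.1 rt.2)) (uRows o 14 p.b)

/-- The diagonal of the torus element. -/
def hDiag (o : Ops α) (a : α) : List α :=
  let a2 := o.mul a a
  let a4 := o.mul a2 a2
  let ai := o.mul a4 a2
  [a, ai, ai, a2, ai, a, a, o.mul ai ai]

/-- The permutations of the twelve Weyl elements. -/
def perms : List (List ℕ) :=
  [[0, 1, 2, 3, 4, 5, 6, 7], [1, 0, 6, 7, 5, 4, 2, 3], [0, 2, 1, 3, 4, 6, 5, 7], [1, 6, 0, 7, 5, 2, 4, 3],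
   [2, 0, 5, 7, 6, 4, 1, 3], [6, 1, 4, 3, 2, 5, 0, 7], [2, 5, 0, 7, 6, 1, 4, 3], [6, 4, 1, 3, 2, 0, 5, 7],
   [5, 2, 4, 3, 1, 6, 0, 7], [4, 6, 5, 7, 0, 2, 1, 3], [5, 4, 2, 3, 1, 0, 6, 7], [4, 5, 6, 7, 0, 1, 2, 3]]

/-- The candidate `h P U`. -/
def cand (o : Ops α) (π : List ℕ) (p : Param α) : List (List α) :=
  let U := uMatList o p
  List.zipWith (fun h k => (U.getD k []).map (o.mul h)) (hDiag o p.a) π

/-- The bit column of bit `k`, doubled `n` times. -/
def colDbl (k : ℕ) : ℕ → ℕ
  | 0 => (2 ^ 2 ^ k - 1) <<< 2 ^ k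
  | n + 1 => Nat.lor (colDbl k n) (colDbl k n <<< (2 ^ (k + 1) * 2 ^ n))

/-- The bit column. -/
def col (k : ℕ) : ℕ := colDbl k (14 - k)

/-- All parameters at once. -/
def vParam : Param V3 :=
  ⟨⟨col 12, col 13, col 14⟩, ⟨col 0, 0, 0⟩, ⟨col 1, col 2, col 3⟩, ⟨col 4, col 5, col 6⟩, ⟨col 7, 0, 0⟩,
   ⟨col 8, 0, 0⟩, ⟨col 9, col 10, col 11⟩⟩

/-- Where the torus parameter is nonzero. -/
def validMask : ℕ := Nat.lor (col 12) (Nat.lor (col 13) (col 14))

/-- The check of one Weyl element. -/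
def checkW (w : ℕ) : Bool := Nat.beq (badMask validMask (cand vOps (perms.getD w []) vParam)) 0

theorem checkW_0 : checkW 0 = true := by decide +kernel

theorem checkW_1 : checkW 1 = true := by decide +kernel

theorem checkW_2 : checkW 2 = true := by decide +kernel

theorem checkW_3 : checkW 3 = true := by decide +kernel

theorem checkW_4 : checkW 4 = true := by decide +kernel

theorem checkW_5 : checkW 5 = true := by decide +kernel

theorem checkW_6 : checkW 6 = true := by decide +kernel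

theorem checkW_7 : checkW 7 = true := by decide +kernel

theorem checkW_8 : checkW 8 = true := by decide +kernel

theorem checkW_9 : checkW 9 = true := by decide +kernel

theorem checkW_10 : checkW 10 = true := by decide +kernel

theorem checkW_11 : checkW 11 = true := by decide +kernel

theorem checkW_all : ∀ w : Fin 12, checkW w.1 = true := by
  intro w
  fin_cases w
  exacts [checkW_0, checkW_1, checkW_2, checkW_3, checkW_4, checkW_5, checkW_6, checkW_7, checkW_8, checkW_9, checkW_10, checkW_11]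

end CfsgLib.KnownC.Spec.DFour
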