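import Mathlib

/-!
Elements of order thirteen of `GL₄(8)` and the tensor product of the natural module with a Frobenius twist.
-/

set_option autoImplicit false

namespace CfsgLib.KnownC.Spec

open Matrix Polynomial

variable {F : Type*} [Field F]

local notation "M4" => Matrix (Fin 4) (Fin 4)

theorem exists_eigen {A : M4 F} {L : Type*} [Field L] [Algebra F L] {μ : L} (h : aeval μ A.charpoly = 0) :
    ∃ v : Fin 4 → L, v ≠ 0 ∧ A.map (algebraMap F L) *ᵥ v = μ • v := by
  have h1 : (A.map (algebraMap F L)).charpoly.eval μ = 0 := by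
    rw [Matrix.charpoly_map, Polynomial.eval_map, ← Polynomial.aeval_def, h]
  rw [Matrix.eval_charpoly] at h1
  obtain ⟨v, hv, hv0⟩ := Matrix.exists_mulVec_eq_zero_iff.2 h1
  refine ⟨v, hv, ?_⟩
  rw [Matrix.sub_mulVec, sub_eq_zero] at hv0
  rw [← hv0]
  ext i
  simp [Matrix.scalar_apply, Matrix.mulVec_diagonal]

theorem root_of_eigen {A : M4 F} {L : Type*} [Field L] [Algebra F L] {μ : L} {v : Fin 4 → L} (hv : v ≠ 0)
    (h : A.map (algebraMap F L) *ᵥ v = μ • v) : aeval μ A.charpoly = 0 := by
  rw [Polynomial.aeval_def, ← Polynomial.eval_map, ← Matrix.charpoly_map, Matrix.eval_charpoly]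
  refine Matrix.exists_mulVec_eq_zero_iff.1 ⟨v, hv, ?_⟩
  rw [Matrix.sub_mulVec, h, sub_eq_zero]
  ext i
  simp [Matrix.scalar_apply, Matrix.mulVec_diagonal]

theorem pow_mulVec_eigen {L : Type*} [Field L] {B : M4 L} {μ : L} {v : Fin 4 → L} (h : B *ᵥ v = μ • v) (n : ℕ) :
    (B ^ n) *ᵥ v = μ ^ n • v := by
  induction n with
  | zero => simp
  | succ n ih => rw [pow_succ, ← Matrix.mulVec_mulVec, h, Matrix.mulVec_smul, ih, smul_smul, pow_succ, mul_comm]

/-- A matrix of order thirteen over `GF(8)` fixes no nonzero `X` under `X ↦ g X (g^φ)ᵀ`. -/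
theorem fpf_thirteen [Fintype F] [CharP F 2] (hF : Fintype.card F = 8) {g : M4 F} (hg : g ^ 13 = 1) (hg1 : g ≠ 1)
    {X : M4 F} (hX : g * X * (g.map (frobenius F 2))ᵀ = X) : X = 0 := by
  classical
  let L := AlgebraicClosure F
  let P := g.charpoly
  have hPd : P.natDegree = 4 := by simp [P, Matrix.charpoly_natDegree_eq_dim]
  haveI : CharP L 2 := charP_of_injective_algebraMap (algebraMap F L).injective 2
  have hpow : ∀ μ : L, aeval μ P = 0 → μ ^ 13 = 1 := fun μ hμ => by
    obtain ⟨v, hv, he⟩ := exists_eigen hμ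
    have h13 := pow_mulVec_eigen he 13
    rw [← Matrix.map_pow, hg, Matrix.map_one _ (map_zero _) (map_one _), Matrix.one_mulVec] at h13
    have h0 : (μ ^ 13 - 1) • v = 0 := by rw [sub_smul, one_smul, ← h13, sub_self]
    exact sub_eq_zero.1 ((smul_eq_zero.1 h0).resolve_right hv)
  have hfr : ∀ μ : L, aeval μ P = 0 → aeval (μ ^ 8) P = 0 := fun μ hμ => by
    let σ : L →ₐ[F] L :=
      { iterateFrobenius L 2 3 with
        commutes' := fun x => by
          show iterateFrobenius L 2 3 (algebraMap F L x) = algebraMap F L x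
          rw [iterateFrobenius_def, ← map_pow, show (2 : ℕ) ^ 3 = Fintype.card F by rw [hF]; norm_num,
            FiniteField.pow_card] }
    have h1 := Polynomial.aeval_algHom_apply σ μ P
    rw [hμ, map_zero] at h1
    have e : σ μ = μ ^ 8 := by
      show iterateFrobenius L 2 3 μ = μ ^ 8
      rw [iterateFrobenius_def]; norm_num
    rwa [e] at h1
  have hne : (P.map (algebraMap F L)) ≠ 0 :=
    Polynomial.map_ne_zero (g.charpoly_monic).ne_zero
  obtain ⟨ζ, hζ, hζ1⟩ : ∃ ζ : L, aeval ζ P = 0 ∧ ζ ≠ 1 := by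
    by_contra hno
    push Not at hno
    have hs : (P.map (algebraMap F L)).roots.card = 4 := by
      rw [IsAlgClosed.card_roots_eq_natDegree, Polynomial.natDegree_map, hPd]
    have hall : (P.map (algebraMap F L)).roots = Multiset.replicate 4 1 :=
      Multiset.eq_replicate.2 ⟨hs, fun x hx => hno x (by
        rw [Polynomial.aeval_def, ← Polynomial.eval_map]; exact (Polynomial.mem_roots hne).1 hx)⟩
    have hP : P.map (algebraMap F L) = ((Polynomial.X - C (1 : F)) ^ 4).map (algebraMap F L) := by
      conv_lhs => rw [(IsAlgClosed.splits (P.map (algebraMap F L))).eq_prod_roots_of_monic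
        (g.charpoly_monic.map _)]
      rw [hall, Multiset.map_replicate, Multiset.prod_replicate]
      simp
    have hP' : P = (Polynomial.X - C (1 : F)) ^ 4 := Polynomial.map_injective _ (algebraMap F L).injective hP
    have h4 : (g - 1) ^ 4 = 0 := by
      have := g.aeval_self_charpoly
      rw [show g.charpoly = P from rfl, hP', map_pow, map_sub, aeval_X, aeval_C, map_one] at this
      exact this
    have h41 : g ^ 4 = 1 := by
      haveI : CharP (M4 F) 2 := charP_of_injective_algebraMap (algebraMap F (M4 F)).injective 2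
      rw [show (g - 1) ^ 4 = (g - 1) ^ (2 ^ 2) from rfl, sub_pow_char_pow_of_commute 2 2 (Commute.one_right g), one_pow,
        sub_eq_zero] at h4
      exact h4
    refine hg1 ?_
    calc g = g ^ 13 := by rw [show (13 : ℕ) = 4 * 3 + 1 from rfl, pow_succ, pow_mul, h41, one_pow, one_mul]
      _ = 1 := hg
  have ho : orderOf ζ = 13 := by
    haveI : Fact (Nat.Prime 13) := ⟨by norm_num⟩
    exact orderOf_eq_prime (hpow ζ hζ) hζ1
  have hinj : ∀ a b : ℕ, ζ ^ a = ζ ^ b ↔ a % 13 = b % 13 := fun a b => by
    have hfin : IsOfFinOrder ζ := isOfFinOrder_iff_pow_eq_one.2 ⟨13, by norm_num, hpow ζ hζ⟩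
    rw [hfin.pow_inj_mod, ho]
  have hroots : ∀ μ : L, aeval μ P = 0 → ∃ a ∈ ([1, 8, 12, 5] : List ℕ), μ = ζ ^ a := by
    intro μ hμ
    by_contra hno
    push Not at hno
    let R : Finset L := {ζ ^ 1, ζ ^ 8, ζ ^ 12, ζ ^ 5, μ}
    have hcard : R.card = 5 := by
      simp only [R]
      rw [Finset.card_insert_of_notMem, Finset.card_insert_of_notMem, Finset.card_insert_of_notMem,
        Finset.card_insert_of_notMem, Finset.card_singleton] <;>
        simp only [Finset.mem_insert, Finset.mem_singleton, not_or, hinj] <;>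
        simp [(hno 1 (by simp)).symm, (hno 8 (by simp)).symm, (hno 12 (by simp)).symm, (hno 5 (by simp)).symm,
          show ¬ ζ = μ from fun e => hno 1 (by simp) (by rw [pow_one]; exact e.symm)]
    have h8 := hfr ζ hζ
    have h64 := hfr _ h8
    have h512 := hfr _ h64
    rw [← pow_mul] at h64
    rw [← pow_mul, ← pow_mul] at h512
    have e1 : ζ ^ (8 * 8) = ζ ^ 12 := (hinj _ _).2 rfl
    have e2 : ζ ^ (8 * (8 * 8)) = ζ ^ 5 := (hinj _ _).2 rfl
    rw [e1] at h64
    rw [e2] at h512
    have hle : R.val ≤ (P.map (algebraMap F L)).roots := (Multiset.le_iff_subset R.nodup).2 fun x hx => by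
      rw [Polynomial.mem_roots hne, Polynomial.IsRoot.def, Polynomial.eval_map, ← Polynomial.aeval_def]
      simp only [Finset.mem_val, R, Finset.mem_insert, Finset.mem_singleton] at hx
      rcases hx with rfl | rfl | rfl | rfl | rfl
      · rwa [pow_one]
      all_goals assumption
    have h5 := (Multiset.card_le_card hle).trans (Polynomial.card_roots' _)
    rw [Polynomial.natDegree_map, hPd, ← Finset.card_def, hcard] at h5
    omega
  -- the inverse transpose of the twist
  let g' : M4 F := g.map (frobenius F 2)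
  let h : M4 F := (g' ^ 12)ᵀ
  have hg' : g' ^ 13 = 1 := by
    rw [← Matrix.map_pow, hg, Matrix.map_one _ (map_zero _) (map_one _)]
  have hgh : g'ᵀ * h = 1 := by
    rw [← Matrix.transpose_mul, ← pow_succ, hg', Matrix.transpose_one]
  have hint : g * X = X * h := by
    calc g * X = g * X * (g'ᵀ * h) := by rw [hgh, mul_one]
      _ = X * h := by rw [← mul_assoc, hX]
  have hcop : IsCoprime P h.charpoly := by
    rw [Polynomial.isCoprime_iff_aeval_ne_zero_of_isAlgClosed (k := F) (K := L)]
    intro μ
    by_contra hno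
    push Not at hno
    obtain ⟨hμP, hμQ⟩ := hno
    obtain ⟨v, hv, he⟩ := exists_eigen hμQ
    have h1 : g'ᵀ.map (algebraMap F L) *ᵥ (μ • v) = v := by
      rw [← he, Matrix.mulVec_mulVec, ← Matrix.map_mul, hgh, Matrix.map_one _ (map_zero _) (map_one _),
        Matrix.one_mulVec]
    have hμ0 : μ ≠ 0 := fun e => hv (by rw [← h1, e, zero_smul, Matrix.mulVec_zero])
    rw [Matrix.mulVec_smul] at h1
    have h2 : g'ᵀ.map (algebraMap F L) *ᵥ v = μ⁻¹ • v := by
      conv_rhs => rw [← h1, smul_smul, inv_mul_cancel₀ hμ0, one_smul]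
    have h3 := root_of_eigen hv h2
    obtain ⟨ν, hν⟩ := IsAlgClosed.exists_pow_nat_eq μ⁻¹ (n := 2) (by norm_num)
    have h4 : aeval ν P = 0 := by
      rw [Matrix.charpoly_transpose, show g'.charpoly = P.map (frobenius F 2) from Matrix.charpoly_map g _,
        Polynomial.aeval_def, Polynomial.eval₂_map, ← hν] at h3
      have hc : (algebraMap F L).comp (frobenius F 2) = (frobenius L 2).comp (algebraMap F L) := by
        ext x
        simp [frobenius_def, map_pow]
      rw [hc, show ν ^ 2 = frobenius L 2 ν from rfl, ← Polynomial.hom_eval₂, ← Polynomial.aeval_def] at h3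
      exact (frobenius L 2).injective (h3.trans (map_zero _).symm)
    obtain ⟨a, ha, rfl⟩ := hroots μ hμP
    obtain ⟨b, hb, rfl⟩ := hroots ν h4
    have h5 : ζ ^ (a + 2 * b) = ζ ^ 0 := by
      rw [pow_add, pow_zero, mul_comm 2 b, pow_mul, hν, mul_inv_cancel₀ hμ0]
    rw [hinj] at h5
    fin_cases ha <;> fin_cases hb <;> simp at h5
  obtain ⟨u, w, huw⟩ := hcop
  have hPg : aeval g P = 0 := g.aeval_self_charpoly
  have hint' : ∀ f : F[X], aeval g f * X = X * aeval h f := by
    intro f
    induction f using Polynomial.induction_on' with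
    | add p q hp hq => rw [map_add, map_add, add_mul, mul_add, hp, hq]
    | monomial n c =>
      rw [Polynomial.aeval_monomial, Polynomial.aeval_monomial, mul_assoc, ← Algebra.smul_def, ← Algebra.smul_def,
        mul_smul_comm]
      congr 1
      induction n with
      | zero => simp
      | succ n ih => rw [pow_succ, pow_succ, mul_assoc, hint, ← mul_assoc, ih, mul_assoc]
  have hu : aeval h u * aeval h P = 1 := by
    have := congrArg (aeval h) huw
    rwa [map_add, map_mul, map_mul, map_one, h.aeval_self_charpoly, mul_zero, add_zero] at this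
  have hz : X * aeval h P = 0 := by rw [← hint', hPg, zero_mul]
  calc X = X * aeval h (P * u) := by rw [mul_comm P u, map_mul, hu, mul_one]
    _ = 0 := by rw [map_mul, ← mul_assoc, hz, zero_mul]

end CfsgLib.KnownC.Spec
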