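import Cfsg.Agent.Lib.KnownC.SympSpectrum

/-!
Element orders of `PSp₆(3)`: a bound from palindromic sextics and witnesses.
-/

set_option autoImplicit false
set_option maxRecDepth 20000
set_option synthInstance.maxSize 4096
set_option synthInstance.maxHeartbeats 200000

namespace CfsgLib.KnownC.Spec.PSpSixThree

open Matrix Polynomial

abbrev F3 := ZMod 3
abbrev M6 := Matrix (Fin 3 ⊕ Fin 3) (Fin 3 ⊕ Fin 3) F3
abbrev Sp := Matrix.symplecticGroup (Fin 3) F3

/-- Powers of a root of `X^6 + a X^5 + b X^4 + c X^3 + b X^2 + a X + 1`. -/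
def red (a b c : F3) : ℕ → F3 × F3 × F3 × F3 × F3 × F3
  | 0 => (1, 0, 0, 0, 0, 0)
  | k + 1 => match red a b c k with
    | (p, q, r, s, t, u) => (-u, p - u * a, q - u * b, r - u * c, s - u * b, t - u * a)

theorem red_spec (a b c : F3) (g : M6)
    (hg : g ^ 6 + a • g ^ 5 + b • g ^ 4 + c • g ^ 3 + b • g ^ 2 + a • g + 1 = 0) (k : ℕ) :
    g ^ k = (red a b c k).1 • 1 + (red a b c k).2.1 • g + (red a b c k).2.2.1 • g ^ 2 +
      (red a b c k).2.2.2.1 • g ^ 3 + (red a b c k).2.2.2.2.1 • g ^ 4 + (red a b c k).2.2.2.2.2 • g ^ 5 := by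
  induction k with
  | zero => simp [red]
  | succ k ih =>
    have h6 : g ^ 6 = -(a • g ^ 5 + b • g ^ 4 + c • g ^ 3 + b • g ^ 2 + a • g + 1) := by
      rw [eq_neg_iff_add_eq_zero, ← hg]; abel
    have key : ∀ p q r s t u : F3,
        (p • (1 : M6) + q • g + r • g ^ 2 + s • g ^ 3 + t • g ^ 4 + u • g ^ 5) * g =
        p • g + q • g ^ 2 + r • g ^ 3 + s • g ^ 4 + t • g ^ 5 + u • g ^ 6 := fun p q r s t u => by
      simp only [add_mul, smul_mul_assoc, one_mul, ← sq, ← pow_succ]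
    rw [pow_succ, ih, key, h6]
    simp only [red]
    module

/-- Exponents. -/
def expos : List ℕ := [8, 9, 12, 13, 14, 15, 18, 20, 24, 30, 36]

theorem red_good : ∀ a b c : F3, ∃ k ∈ expos,
    red a b c k = (1, 0, 0, 0, 0, 0) ∨ red a b c k = (-1, 0, 0, 0, 0, 0) := by
  decide +kernel

theorem exists_pow_eq (A : Sp) : ∃ k ∈ expos, (A : M6) ^ k = 1 ∨ (A : M6) ^ k = -1 := by
  set g : M6 := (A : M6) with hgdef
  have hd : g.charpoly.natDegree = 6 := by rw [g.charpoly_natDegree_eq_dim]; rfl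
  have hrev : g.charpoly.reverse = g.charpoly := CfsgLib.Classical.SemiSympExists.charpoly_symp A
  have hc : ∀ i, i ≤ 6 → g.charpoly.coeff (6 - i) = g.charpoly.coeff i := fun i hi => by
    conv_rhs => rw [← hrev, Polynomial.coeff_reverse, hd, Polynomial.revAt_le hi]
  have h6 : g.charpoly.coeff 6 = 1 := by rw [← hd]; exact g.charpoly_monic.coeff_natDegree
  have h := g.aeval_self_charpoly
  rw [Polynomial.aeval_eq_sum_range, hd] at h
  simp only [Finset.sum_range_succ, Finset.sum_range_zero, zero_add, pow_zero, pow_one, h6, one_smul] at h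
  have e0 : g.charpoly.coeff 0 = 1 := (hc 0 (by norm_num)).symm.trans h6
  have e1 : g.charpoly.coeff 5 = g.charpoly.coeff 1 := hc 1 (by norm_num)
  have e2 : g.charpoly.coeff 4 = g.charpoly.coeff 2 := hc 2 (by norm_num)
  rw [e0, e1, e2, one_smul] at h
  obtain ⟨k, hk, hr⟩ := red_good (g.charpoly.coeff 1) (g.charpoly.coeff 2) (g.charpoly.coeff 3)
  refine ⟨k, hk, ?_⟩
  have hs := red_spec _ _ (g.charpoly.coeff 3) g (by rw [← h]; abel) k
  rcases hr with hr | hr <;> rw [hr] at hs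
  · left; simpa using hs
  · right; simpa using hs

/-- Witnesses. -/
def m13 : M6 := Matrix.fromBlocks !![0, 1, 1; 1, 1, 0; 0, 0, 1] !![2, 1, 0; 1, 2, 1; 1, 0, 0] !![1, 2, 1; 2, 0, 2; 1, 1, 1] !![2, 1, 1; 0, 2, 2; 0, 1, 2]
/-- Witness. -/
def m14 : M6 := Matrix.fromBlocks !![2, 2, 2; 1, 0, 2; 1, 0, 0] !![2, 1, 2; 2, 2, 2; 2, 2, 0] !![2, 2, 2; 1, 0, 0; 1, 0, 2] !![2, 0, 2; 2, 0, 2; 0, 0, 0]
/-- Witness. -/
def m30 : M6 := Matrix.fromBlocks !![2, 1, 0; 2, 2, 0; 1, 0, 1] !![0, 0, 1; 1, 1, 2; 1, 2, 2] !![0, 1, 0; 1, 2, 1; 2, 2, 0] !![2, 0, 0; 1, 2, 0; 1, 1, 0]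

theorem mem13 : m13 ∈ Sp := SymplecticGroup.mem_iff.2 (by decide +kernel)
theorem mem14 : m14 ∈ Sp := SymplecticGroup.mem_iff.2 (by decide +kernel)
theorem mem30 : m30 ∈ Sp := SymplecticGroup.mem_iff.2 (by decide +kernel)

variable {F : Type*} [Field F]

theorem J_map {K L : Type*} [Field K] [Field L] (e : K →+* L) :
    (Matrix.J (Fin 3) K).map e = Matrix.J (Fin 3) L := by
  simp [Matrix.J, Matrix.fromBlocks_map, Matrix.map_neg]

theorem map_mem {K L : Type*} [Field K] [Field L] (e : K →+* L)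
    {A : Matrix (Fin 3 ⊕ Fin 3) (Fin 3 ⊕ Fin 3) K} (hA : A ∈ Matrix.symplecticGroup (Fin 3) K) :
    A.map e ∈ Matrix.symplecticGroup (Fin 3) L := by
  rw [SymplecticGroup.mem_iff, ← J_map e, ← Matrix.transpose_map, ← Matrix.map_mul, ← Matrix.map_mul,
    SymplecticGroup.mem_iff.1 hA]

/-- `Sp₆(ZMod 3) → PSp₆(F)`. -/
def toPSp (e : F3 ≃+* F) : Sp →* Cfsg.PSp 3 F :=
  (QuotientGroup.mk' _).comp
    { toFun := fun A => ⟨(A : M6).map e, map_mem (e : F3 →+* F) A.2⟩
      map_one' := Subtype.ext (by simp)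
      map_mul' := fun A B => Subtype.ext (Matrix.map_mul (f := (e : F3 →+* F))) }

theorem toPSp_surjective (e : F3 ≃+* F) : Function.Surjective (toPSp e) := fun x => by
  obtain ⟨B, rfl⟩ := QuotientGroup.mk'_surjective _ x
  refine ⟨⟨(B.1).map e.symm, map_mem (e.symm : F →+* F3) B.2⟩, ?_⟩
  refine congrArg (QuotientGroup.mk' _) (Subtype.ext ?_)
  ext i j
  exact e.apply_symm_apply _

theorem toPSp_eq_one_iff (e : F3 ≃+* F) (A : Sp) :
    toPSp e A = 1 ↔ (A : M6) = 1 ∨ (A : M6) = -1 := by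
  constructor
  · intro h
    obtain ⟨c, hc, hA⟩ := CfsgLib.KnownC.SympSpectrum.sign_of_mk_eq_one (n := 3) (by norm_num) _ h
    rcases mul_self_eq_one_iff.1 hc with rfl | rfl
    · left
      refine Matrix.map_injective e.injective ?_
      show (A : M6).map e = (1 : M6).map e
      rw [Matrix.map_one _ (map_zero e) (map_one e)]
      exact hA.trans (one_smul _ _)
    · right
      refine Matrix.map_injective e.injective ?_
      show (A : M6).map e = (-1 : M6).map e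
      rw [Matrix.map_neg _ (fun _ => map_neg e _), Matrix.map_one _ (map_zero e) (map_one e)]
      exact hA.trans (neg_one_smul _ _)
  · rintro (h | h)
    · refine CfsgLib.KnownC.SympSpectrum.mk_eq_one_of_smul _ 1 ?_
      show (A : M6).map e = _
      rw [h, Matrix.map_one _ (map_zero e) (map_one e), one_smul]
    · refine CfsgLib.KnownC.SympSpectrum.mk_eq_one_of_smul _ (-1) ?_
      show (A : M6).map e = _
      rw [h, Matrix.map_neg _ (fun _ => map_neg e _), Matrix.map_one _ (map_zero e) (map_one e), neg_one_smul]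

/-- Every element order divides one of `expos`. -/
theorem orderOf_dvd [Fintype F] (hF : Fintype.card F = 3) (x : Cfsg.PSp 3 F) : ∃ k ∈ expos, orderOf x ∣ k := by
  have e : F3 ≃+* F := ZMod.ringEquivOfPrime F Nat.prime_three hF
  obtain ⟨A, rfl⟩ := toPSp_surjective e x
  obtain ⟨k, hk, h⟩ := exists_pow_eq A
  refine ⟨k, hk, ?_⟩
  rw [orderOf_dvd_iff_pow_eq_one, ← map_pow, toPSp_eq_one_iff, SubmonoidClass.coe_pow]
  exact h

theorem exists_of_witness [Fintype F] (hF : Fintype.card F = 3) {n : ℕ} (m : M6) (hm : m ∈ Sp) (hn : 0 < n)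
    (h1 : m ^ n = 1 ∨ m ^ n = -1) (h2 : ∀ d ∈ n.properDivisors, ¬ (m ^ d = 1 ∨ m ^ d = -1)) :
    ∃ x : Cfsg.PSp 3 F, orderOf x = n := by
  have e : F3 ≃+* F := ZMod.ringEquivOfPrime F Nat.prime_three hF
  have hiff : ∀ k, toPSp e ⟨m, hm⟩ ^ k = 1 ↔ (m ^ k = 1 ∨ m ^ k = -1) := fun k => by
    rw [← map_pow, toPSp_eq_one_iff, SubmonoidClass.coe_pow]
  refine ⟨toPSp e ⟨m, hm⟩, ?_⟩
  have hd := orderOf_dvd_of_pow_eq_one ((hiff n).2 h1)
  rcases (Nat.le_of_dvd hn hd).eq_or_lt with h | h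
  · exact h
  · exact absurd ((hiff _).1 (pow_orderOf_eq_one _)) (h2 _ (Nat.mem_properDivisors.2 ⟨hd, h⟩))

theorem exists_orderOf [Fintype F] (hF : Fintype.card F = 3) :
    (∃ x : Cfsg.PSp 3 F, orderOf x = 13) ∧ (∃ x : Cfsg.PSp 3 F, orderOf x = 14) ∧
      (∃ x : Cfsg.PSp 3 F, orderOf x = 30) :=
  ⟨exists_of_witness hF m13 mem13 (by norm_num) (by decide +kernel) (by decide +kernel),
    exists_of_witness hF m14 mem14 (by norm_num) (by decide +kernel) (by decide +kernel),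
    exists_of_witness hF m30 mem30 (by norm_num) (by decide +kernel) (by decide +kernel)⟩

end CfsgLib.KnownC.Spec.PSpSixThree
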