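import Cfsg.Agent.Lib.KnownC.Spec.SpFourModelBase

/-!
Affine groups with the spectrum of `PSp₄(q)`: `SL₂(q²)` on `2 ⊗ 2^(q)` (`q` even), extended by the transposition
(`p ≥ 5`), and on `2 ⊗ 2^(3) ⊗ 2^(q) ⊗ 2^(q)` (`q = 3^m`, `m` even).
-/

set_option autoImplicit false
set_option maxHeartbeats 800000

namespace CfsgLib.KnownC.Spec.SpFour

open Matrix Polynomial CfsgLib.Recog CfsgLib.KnownC.Spec.TwoRoot
open scoped Kronecker

section

variable {K : Type*} [Field K]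

/-- `SL₂(K)`. -/
local notation "SL" => Matrix.SpecialLinearGroup (Fin 2) K
local notation "M2" => Matrix (Fin 2) (Fin 2) K
local notation "M4" => Matrix (Fin 2 × Fin 2) (Fin 2 × Fin 2) K

/-- The matrix of an element. -/
def val : SL →* M2 where
  toFun g := g.1
  map_one' := rfl
  map_mul' _ _ := rfl

variable (p : ℕ) [hp : Fact p.Prime] [CharP K p] (m : ℕ)

/-- `g ↦ g^(q)`. -/
def sig : SL →* SL := Matrix.SpecialLinearGroup.map (iterateFrobenius K p m)

theorem sig_trace (g : SL) : (sig p m g).1.trace = g.1.trace ^ p ^ m := by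
  rw [sig, trace_map, iterateFrobenius_def]

theorem sig_apply (g : SL) (i j : Fin 2) : (sig p m g).1 i j = g.1 i j ^ p ^ m := by
  show iterateFrobenius K p m (g.1 i j) = _
  rw [iterateFrobenius_def]

theorem sig_scalar {g : SL} {c : K} (hc : c * c = 1) (h : g.1 = c • 1) : (sig p m g).1 = c • 1 := by
  have hcq : c ^ p ^ m = c := by
    induction m with
    | zero => simp
    | succ k ih => rw [pow_succ, pow_mul, ih, self_pow_char p hc]
  ext i j
  rw [sig_apply, h]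
  by_cases hij : i = j
  · simp [hij, hcq]
  · simp [hij, zero_pow (pow_pos hp.out.pos _).ne']

/-- `2 ⊗ 2^(q)`. -/
def two : SL →* (M2 ≃ₗ[K] M2) := rho val (val.comp (sig p m))

/-- The left factor `g ⊗ g^(3)`. -/
def left4 : SL →* M4 where
  toFun g := g.1 ⊗ₖ (sig p 1 g).1
  map_one' := by rw [map_one]; exact one_kronecker_one
  map_mul' g h := by rw [map_mul]; exact mul_kronecker_mul _ _ _ _

/-- The right factor `g^(q) ⊗ g^(q)`. -/
def right4 : SL →* M4 where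
  toFun g := (sig p m g).1 ⊗ₖ (sig p m g).1
  map_one' := by rw [map_one]; exact one_kronecker_one
  map_mul' g h := by rw [map_mul]; exact mul_kronecker_mul _ _ _ _

/-- `2 ⊗ 2^(p) ⊗ 2^(q) ⊗ 2^(q)`. -/
def four : SL →* (M4 ≃ₗ[K] M4) := rho (left4 p) (right4 p m)

theorem two_scalar {g : SL} {c : K} (hc : c * c = 1) (h : g.1 = c • 1) : two p m g = 1 :=
  rho_eq_one_of_scalar (c := c) (d := c) h (sig_scalar p m hc h) hc

theorem four_scalar {g : SL} {c : K} (hc : c * c = 1) (h : g.1 = c • 1) : four p m g = 1 := by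
  refine rho_eq_one_of_scalar (c := c * c) (d := c * c) ?_ ?_ (by rw [hc, one_mul])
  · show g.1 ⊗ₖ (sig p 1 g).1 = _
    rw [h, sig_scalar p 1 hc h, smul_kronecker, kronecker_smul, one_kronecker_one, smul_smul]
  · show (sig p m g).1 ⊗ₖ (sig p m g).1 = _
    rw [sig_scalar p m hc h, smul_kronecker, kronecker_smul, one_kronecker_one, smul_smul]

theorem sign_of_scalar {g : SL} {c : K} (h : g.1 = c • 1) : c * c = 1 := by
  have hd := g.2
  rw [h, Matrix.det_fin_two] at hd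
  simpa using hd

theorem two_ker {g : SL} (h : two p m g = 1) : ∃ c : K, c * c = 1 ∧ g.1 = c • 1 := by
  obtain ⟨c, -, hc⟩ := scalar_of_rho h
  exact ⟨c, sign_of_scalar hc, hc⟩

theorem four_ker {g : SL} (h : four p m g = 1) : ∃ c : K, c * c = 1 ∧ g.1 = c • 1 := by
  obtain ⟨α, hα, hc⟩ := scalar_of_rho h
  have e : ∀ a i b j, g.1 a b * g.1 i j ^ p ^ 1 = α * (if a = b ∧ i = j then 1 else 0) := by
    intro a i b j
    have h1 := congrFun (congrFun hc (a, i)) (b, j)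
    rw [Matrix.smul_apply, Matrix.one_apply] at h1
    simpa [left4, kroneckerMap_apply, sig_apply] using h1
  have e00 := e 0 0 0 0
  have e11 := e 1 0 1 0
  have e01 := e 0 0 1 0
  have e10 := e 1 0 0 0
  simp only [Fin.isValue, and_self, if_true, mul_one, zero_ne_one, one_ne_zero, false_and, if_false, mul_zero]
    at e00 e11 e01 e10
  have hne : g.1 0 0 ^ p ^ 1 ≠ 0 := fun h0 => hα (by rw [← e00, h0, mul_zero])
  refine ⟨g.1 0 0, ?_⟩
  have hsc : g.1 = g.1 0 0 • 1 := by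
    ext i j
    fin_cases i <;> fin_cases j <;> simp
    · exact (mul_eq_zero.1 e01).resolve_right hne
    · exact (mul_eq_zero.1 e10).resolve_right hne
    · exact mul_right_cancel₀ hne (e11.trans e00.symm)
  exact ⟨sign_of_scalar hsc, hsc⟩

theorem orderOf_dvd {W : Type*} [AddCommGroup W] [Module K W] (r : SL →* (W ≃ₗ[K] W))
    (hr : ∀ (g : SL) (c : K), c * c = 1 → g.1 = c • 1 → r g = 1) {g : SL} {N : ℕ}
    (h : ∃ c : K, c * c = 1 ∧ g.1 ^ N = c • 1) : orderOf (r g) ∣ N := by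
  obtain ⟨c, hc, hg⟩ := h
  exact orderOf_dvd_of_pow_eq_one (by rw [← map_pow]; exact hr _ c hc ((map_pow val g N).trans hg))

end

variable {K : Type*} [Field K] [Fintype K] (p : ℕ) [hp : Fact p.Prime] [CharP K p] (m : ℕ)

local notation "q" => p ^ m
local notation "SL" => Matrix.SpecialLinearGroup (Fin 2) K
local notation "L" => AlgebraicClosure K
local notation "φ" => algebraMap K (AlgebraicClosure K)

instance : CharP (AlgebraicClosure K) p :=
  charP_of_injective_algebraMap (algebraMap K (AlgebraicClosure K)).injective p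

variable (hK : Fintype.card K = (p ^ m) ^ 2)

include hK

theorem pow_q_q (x : K) : (x ^ q) ^ q = x := by
  rw [← pow_mul, ← sq, ← hK, FiniteField.pow_card]

theorem sig_sig (g : SL) : sig p m (sig p m g) = g :=
  Subtype.ext (Matrix.ext fun i j => by rw [sig_apply, sig_apply, pow_q_q p m hK])

theorem root_Q {g : SL} {a : L} (ha : a ≠ 0) (hat : a + a⁻¹ = φ g.1.trace) :
    a ^ (q ^ 2 - 1) = 1 ∨ a ^ (q ^ 2 + 1) = 1 := by
  rw [← pow_mul]
  exact root_pm φ p (m * 2) ha hat (by rw [pow_mul, ← hK, FiniteField.pow_card])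

omit hK in
theorem ann_sig (k : ℕ) {g : SL} {a : L} (h : Ann (g.1.map φ) a) (hat : a + a⁻¹ = φ g.1.trace) :
    Ann ((sig p k g).1.map φ) (a ^ p ^ k) :=
  ann_map φ _ (pow_ne_zero _ h.1) (by rw [sig_trace, map_pow, ← hat, frob_add])

theorem orderOf_mem {W : Type*} [AddCommGroup W] [Module K W] (r : SL →* (W ≃ₗ[K] W))
    (hr : ∀ (g : SL) (c : K), c * c = 1 → g.1 = c • 1 → r g = 1) (g : SL) : orderOf (r g) ∈ spec p q := by
  obtain ⟨-, -, hp', hm'⟩ := del_dvd (p := p) (m := m) rfl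
  obtain ⟨a, ha, hat⟩ := exists_ann φ g
  by_cases he : a = a⁻¹
  · obtain ⟨c, M, hc, hM, hg⟩ := unipotent φ g ha he
    refine spec_of_dvd ((orderOf_dvd r hr ⟨c, hc, ?_⟩).trans
      (dvd_pow_self p (Nat.clog_pos hp.out.one_lt (by norm_num : 1 < 4)).ne')) (mem_spec_unip p q)
    rw [hg, pow_char_of_nil p hM hc]
  · rcases root_Q p m hK ha.1 hat with h | h
    · exact spec_of_dvd (orderOf_dvd r hr (pow_scalar φ g ha he (by rw [Nat.mul_div_cancel' hm']; exact h)))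
        (mem_spec_minus p q)
    · exact spec_of_dvd (orderOf_dvd r hr (pow_scalar φ g ha he (by rw [Nat.mul_div_cancel' hp']; exact h)))
        (mem_spec_plus p q)

omit hK in
theorem two_fixed {g : SL} {X : Matrix (Fin 2) (Fin 2) K} (hX : X ≠ 0) (h : two p m g X = X) {a : L}
    (ha : Ann (g.1.map φ) a) (hat : a + a⁻¹ = φ g.1.trace) : a ^ (q - 1) = 1 ∨ a ^ (q + 1) = 1 := by
  have hY : X.map φ ≠ 0 := fun e => hX (Matrix.map_injective (φ).injective (e.trans (Matrix.map_zero _ (map_zero φ)).symm))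
  have hfix : g.1.map φ * X.map φ * ((sig p m g).1.map φ)ᵀ = X.map φ := by
    rw [← Matrix.transpose_map, ← Matrix.map_mul, ← Matrix.map_mul]
    exact congrArg (fun Z : Matrix (Fin 2) (Fin 2) K => Z.map φ) h
  obtain ⟨e, f, he, hf, hef⟩ := weight_two ha (ann_transpose (ann_sig p m ha hat)) hY hfix
  refine pow_pm ha.1 (Nat.one_le_pow _ _ hp.out.pos) ?_
  have hf' : f = e⁻¹ := eq_inv_of_mul_eq_one_right hef
  rcases he with rfl | rfl <;> rcases hf with rfl | rfl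
  · exact Or.inr hf'
  · exact Or.inl (inv_inj.1 hf')
  · exact Or.inl (hf'.trans (inv_inv a))
  · exact Or.inr (by rw [← inv_inv (a ^ q), hf', inv_inv])

omit hK in
theorem four_fixed {g : SL} {X : Matrix (Fin 2 × Fin 2) (Fin 2 × Fin 2) K} (hX : X ≠ 0) (h : four p m g X = X)
    {a : L} (ha : Ann (g.1.map φ) a) (hat : a + a⁻¹ = φ g.1.trace) :
    ∃ e f₁ f₂ : L, (e = a * a ^ p ∨ e = a / a ^ p ∨ e = a ^ p / a ∨ e = (a * a ^ p)⁻¹) ∧
      (f₁ = a ^ q ∨ f₁ = (a ^ q)⁻¹) ∧ (f₂ = a ^ q ∨ f₂ = (a ^ q)⁻¹) ∧ e * (f₁ * f₂) = 1 := by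
  have hY : X.map φ ≠ 0 := fun e => hX (Matrix.map_injective (φ).injective (e.trans (Matrix.map_zero _ (map_zero φ)).symm))
  have hmap : ∀ A B : Matrix (Fin 2) (Fin 2) K, (A ⊗ₖ B).map φ = A.map φ ⊗ₖ B.map φ := fun A B => by
    ext i j; simp [kroneckerMap_apply]
  have hfix : (g.1.map φ ⊗ₖ (1 : Matrix (Fin 2) (Fin 2) L)) * ((1 : Matrix (Fin 2) (Fin 2) L) ⊗ₖ (sig p 1 g).1.map φ) *
      X.map φ * ((((sig p m g).1.map φ)ᵀ ⊗ₖ (1 : Matrix (Fin 2) (Fin 2) L)) *
        ((1 : Matrix (Fin 2) (Fin 2) L) ⊗ₖ ((sig p m g).1.map φ)ᵀ)) = X.map φ := by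
    rw [← mul_kronecker_mul, ← mul_kronecker_mul, one_mul, mul_one, mul_one, one_mul, kroneckerMap_transpose,
      ← hmap, ← hmap, ← Matrix.transpose_map, ← Matrix.map_mul, ← Matrix.map_mul]
    exact congrArg (fun Z : Matrix (Fin 2 × Fin 2) (Fin 2 × Fin 2) K => Z.map φ) h
  have h1 : Ann ((sig p 1 g).1.map φ) (a ^ p) := by simpa using ann_sig p 1 ha hat
  have hs := ann_transpose (ann_sig p m ha hat)
  obtain ⟨e₁, e₂, f₁, f₂, h₁, h₂, h₃, h₄, hprod⟩ := weight_four (ann_kron_left ha) (ann_kron_right h1)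
    (ann_kron_right hs) (ann_kron_left hs) (commute_kron _ _) (commute_kron _ _).symm hY hfix
  refine ⟨e₁ * e₂, f₁, f₂, ?_, h₃, h₄, by rw [mul_assoc]; exact hprod⟩
  rcases h₁ with rfl | rfl <;> rcases h₂ with rfl | rfl
  · exact Or.inl rfl
  · exact Or.inr (Or.inl (div_eq_mul_inv _ _).symm)
  · exact Or.inr (Or.inr (Or.inl (by rw [div_eq_mul_inv, mul_comm])))
  · exact Or.inr (Or.inr (Or.inr (mul_inv _ _).symm))

theorem four_pm (h3 : p = 3) (hm : Even m) {g : SL} {X : Matrix (Fin 2 × Fin 2) (Fin 2 × Fin 2) K} (hX : X ≠ 0)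
    (h : four p m g X = X) {a : L} (ha : Ann (g.1.map φ) a) (hat : a + a⁻¹ = φ g.1.trace) :
    a ^ (2 * 2) = 1 ∨ a ^ (2 * (q - 1)) = 1 ∨ a ^ (2 * (q + 1)) = 1 := by
  obtain ⟨e, f₁, f₂, he, hf₁, hf₂, hprod⟩ := four_fixed p m hX h ha hat
  have ha0 := ha.1
  set b := a ^ 2 with hb
  have hb0 : b ≠ 0 := pow_ne_zero _ ha0
  have he' : e = b ∨ e = b⁻¹ ∨ e = b ^ 2 ∨ e = (b ^ 2)⁻¹ := by
    subst h3
    rcases he with rfl | rfl | rfl | rfl
    · exact Or.inr (Or.inr (Or.inl (by rw [hb]; ring)))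
    · exact Or.inr (Or.inl (by rw [hb]; field_simp))
    · exact Or.inl (by rw [hb]; field_simp)
    · exact Or.inr (Or.inr (Or.inr (by rw [hb]; congr 1; ring)))
  have hf : f₁ * f₂ = 1 ∨ f₁ * f₂ = b ^ q ∨ f₁ * f₂ = (b ^ q)⁻¹ := by
    have e2 : b ^ q = a ^ q * a ^ q := by rw [hb, ← pow_mul, mul_comm, pow_mul, sq]
    rcases hf₁ with rfl | rfl <;> rcases hf₂ with rfl | rfl
    · exact Or.inr (Or.inl e2.symm)
    · exact Or.inl (mul_inv_cancel₀ (pow_ne_zero _ ha0))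
    · exact Or.inl (inv_mul_cancel₀ (pow_ne_zero _ ha0))
    · exact Or.inr (Or.inr (by rw [e2, mul_inv]))
  have hfe : f₁ * f₂ = e⁻¹ := eq_inv_of_mul_eq_one_right hprod
  have hbQ : b ^ (q ^ 2) = b ∨ b ^ (q ^ 2) = b⁻¹ := by
    rcases root_Q p m hK ha0 hat with h | h
    · left
      have ea : a ^ (q ^ 2) = a := by
        calc a ^ (q ^ 2) = a ^ ((q ^ 2 - 1) + 1) := by
              rw [Nat.sub_add_cancel (Nat.one_le_pow 2 _ (pow_pos hp.out.pos _))]
          _ = a := by rw [pow_succ, h, one_mul]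
      rw [hb, ← pow_mul, mul_comm, pow_mul, ea]
    · right
      refine eq_inv_of_mul_eq_one_left ?_
      rw [← pow_succ, hb, ← pow_mul, mul_comm, pow_mul, h, one_pow]
  -- the exceptional relations
  have hexc : b ^ q = b ^ 2 ∨ b ^ q = (b ^ 2)⁻¹ → b ^ 2 = 1 := by
    intro hq
    have h4 : b ^ (q ^ 2) = b ^ 4 := by
      rw [sq (p ^ m), pow_mul]
      rcases hq with h | h
      · rw [h, ← pow_mul, mul_comm 2, pow_mul, h, ← pow_mul]
      · rw [h, inv_pow, ← pow_mul, mul_comm 2, pow_mul, h, inv_pow, inv_inv, ← pow_mul]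
    rcases hbQ with hh | hh <;> rw [h4] at hh
    · have e3 : b ^ 3 = 1 := mul_right_cancel₀ hb0 (by rw [one_mul, ← pow_succ]; exact hh)
      subst h3
      have : b - 1 = 0 := eq_zero_of_pow_eq_zero (n := 3) (by rw [sub_pow_char, e3, one_pow, sub_self])
      rw [sub_eq_zero.1 this, one_pow]
    · have e5 : b ^ 5 = 1 := by rw [pow_succ, hh, inv_mul_cancel₀ hb0]
      obtain ⟨k, rfl⟩ := hm
      subst h3
      have hQ5 : ((3 : ℕ) ^ (k + k)) ^ 2 % 5 = 1 := by
        rw [← pow_mul, show (k + k) * 2 = 4 * k by omega, pow_mul, Nat.pow_mod]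
        norm_num
      have hself : b ^ (((3 : ℕ) ^ (k + k)) ^ 2) = b := by
        rw [← Nat.div_add_mod (((3 : ℕ) ^ (k + k)) ^ 2) 5, hQ5, pow_succ, pow_mul, e5, one_pow, one_mul]
      have hinv : b⁻¹ = b := hh.symm.trans (h4.symm.trans hself)
      calc b ^ 2 = b * b⁻¹ := by rw [hinv, sq]
        _ = 1 := mul_inv_cancel₀ hb0
  have hqb : b ^ q = b ∨ b ^ q = b⁻¹ ∨ b ^ 2 = 1 := by
    rcases hf with h | h | h <;> rw [hfe] at h <;> rcases he' with rfl | rfl | rfl | rfl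
    · exact Or.inr (Or.inr (by rw [inv_eq_one.1 h, one_pow]))
    · exact Or.inr (Or.inr (by rw [inv_inv] at h; rw [h, one_pow]))
    · exact Or.inr (Or.inr (inv_eq_one.1 h))
    · exact Or.inr (Or.inr (by rwa [inv_inv] at h))
    · exact Or.inr (Or.inl h.symm)
    · exact Or.inl (by rw [inv_inv] at h; exact h.symm)
    · exact Or.inr (Or.inr (hexc (Or.inr h.symm)))
    · exact Or.inr (Or.inr (hexc (Or.inl (by rw [inv_inv] at h; exact h.symm))))
    · exact Or.inl (inv_inj.1 h).symm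
    · exact Or.inr (Or.inl (by rw [inv_inv] at h; exact inv_eq_iff_eq_inv.1 h.symm))
    · exact Or.inr (Or.inr (hexc (Or.inl (inv_inj.1 h).symm)))
    · exact Or.inr (Or.inr (hexc (Or.inr (by rw [inv_inv] at h; exact inv_eq_iff_eq_inv.1 h.symm))))
  have e2 : ∀ k, b ^ k = a ^ (2 * k) := fun k => by rw [hb, ← pow_mul]
  rcases hqb with h | h | h
  · rcases pow_pm hb0 (Nat.one_le_pow _ _ hp.out.pos) (Or.inl h) with h' | h' <;> rw [e2] at h'
    exacts [Or.inr (Or.inl h'), Or.inr (Or.inr h')]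
  · rcases pow_pm hb0 (Nat.one_le_pow _ _ hp.out.pos) (Or.inr h) with h' | h' <;> rw [e2] at h'
    exacts [Or.inr (Or.inl h'), Or.inr (Or.inr h')]
  · exact Or.inl (by rw [← e2]; exact h)

end CfsgLib.KnownC.Spec.SpFour
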