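import Cfsg.Agent.Lib.KnownC.Spec.SpFourSpectrum

/-!
Groups with the spectrum of `PSp₄(q)`, `p ≥ 5`: `PSL₂(q²)` extended by the transposition on `2 ⊗ 2^(q)`.
-/

set_option autoImplicit false
set_option maxHeartbeats 800000

namespace CfsgLib.KnownC.Spec.SpFour

open Matrix CfsgLib.Recog CfsgLib.KnownC.Spec.TwoRoot

variable {K : Type*} [Field K] [Fintype K] (p : ℕ) [hp : Fact p.Prime] [CharP K p] (m : ℕ)

local notation "q" => p ^ m
local notation "SL" => Matrix.SpecialLinearGroup (Fin 2) K
local notation "M2" => Matrix (Fin 2) (Fin 2) K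
local notation "φ" => algebraMap K (AlgebraicClosure K)
local notation "dg" => CfsgLib.KnownC.SympSpectrum.diagHom K

/-- The transposition. -/
def tau : M2 ≃ₗ[K] M2 where
  toFun X := Xᵀ
  map_add' _ _ := rfl
  map_smul' _ _ := rfl
  invFun X := Xᵀ
  left_inv _ := rfl
  right_inv _ := rfl

omit [Fintype K] in
theorem tau_apply (X : M2) : (tau (K := K)) X = Xᵀ := rfl

omit [Fintype K] in
theorem tau_tau : (tau (K := K)) * tau = 1 := LinearEquiv.ext fun _ => rfl

omit [Fintype K] in
theorem two_tau_ne_one (g : SL) : two p m g * tau ≠ 1 := by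
  intro h
  have e : ∀ i j k l : Fin 2, g.1 k j * g.1 l i ^ q = if i = k ∧ j = l then 1 else 0 := by
    intro i j k l
    have h1 := congrFun (congrFun (LinearEquiv.congr_fun h (Matrix.single i j (1 : K))) k) l
    change (two p m g ((Matrix.single i j (1 : K))ᵀ) : M2) k l = Matrix.single i j (1 : K) k l at h1
    rw [Matrix.transpose_single, two_single, Matrix.single_apply] at h1
    exact h1
  have e1 := e 0 0 0 0
  simp only [and_self, if_true] at e1
  have hne : g.1 0 0 ^ q ≠ 0 := fun h0 => by rw [h0, mul_zero] at e1; exact zero_ne_one e1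
  have e2 := e 0 0 1 0
  have e3 := e 0 1 1 0
  simp only [Fin.isValue, zero_ne_one, one_ne_zero, false_and, and_false, if_false] at e2 e3
  have h10 : g.1 1 0 = 0 := (mul_eq_zero.1 e2).resolve_right hne
  have h11 : g.1 1 1 = 0 := (mul_eq_zero.1 e3).resolve_right hne
  have hd := g.2
  rw [Matrix.det_fin_two, h10, h11] at hd
  simp at hd

omit [Fintype K] hp [CharP K p] in
theorem val_pow (g : SL) (i : ℕ) : (g ^ i).1 = g.1 ^ i := map_pow (val (K := K)) g i

variable (hK : Fintype.card K = (p ^ m) ^ 2)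

include hK

theorem tau_two (g : SL) : tau * two p m g = two p m (sig p m g) * tau := LinearEquiv.ext fun X => by
  show (g.1 * X * ((sig p m g).1)ᵀ)ᵀ = (sig p m g).1 * Xᵀ * ((sig p m (sig p m g)).1)ᵀ
  rw [sig_sig p m hK, transpose_mul, transpose_mul, transpose_transpose, Matrix.mul_assoc]

theorem tau_sq (g : SL) : (two p m g * tau) ^ 2 = two p m (g * sig p m g) := by
  rw [sq, mul_assoc (two p m g), ← mul_assoc tau, tau_two p m hK, mul_assoc (two p m (sig p m g)), tau_tau, mul_one,
    ← map_mul]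

theorem tau_pow (g : SL) (j : ℕ) :
    (two p m g * tau) ^ (2 * j) = two p m ((g * sig p m g) ^ j) ∧
      (two p m g * tau) ^ (2 * j + 1) = two p m ((g * sig p m g) ^ j * g) * tau := by
  refine ⟨by rw [pow_mul, tau_sq p m hK, map_pow], ?_⟩
  rw [pow_succ, pow_mul, tau_sq p m hK, ← map_pow, ← mul_assoc, ← map_mul]

theorem trace_fixed (g : SL) : (g * sig p m g).1.trace ^ q = (g * sig p m g).1.trace := by
  rw [← sig_trace, map_mul, sig_sig p m hK]
  exact Matrix.trace_mul_comm _ _

theorem even_of_pow (g : SL) {k : ℕ} (h : (two p m g * tau) ^ k = 1) :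
    ∃ j, k = 2 * j ∧ ∃ c : K, c * c = 1 ∧ ((g * sig p m g) ^ j).1 = c • 1 := by
  obtain ⟨j, rfl | rfl⟩ := Nat.even_or_odd' k
  · rw [(tau_pow p m hK g j).1] at h
    exact ⟨j, rfl, two_ker p m h⟩
  · rw [(tau_pow p m hK g j).2] at h
    exact absurd h (two_tau_ne_one p m _)

/-- `SL₂(q²)` and the transposition. -/
def outer : Subgroup (M2 ≃ₗ[K] M2) where
  carrier := {x | ∃ g : SL, x = two p m g ∨ x = two p m g * tau}
  one_mem' := ⟨1, Or.inl (map_one _).symm⟩
  mul_mem' := by
    rintro x y ⟨g, rfl | rfl⟩ ⟨h, rfl | rfl⟩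
    · exact ⟨g * h, Or.inl (map_mul _ _ _).symm⟩
    · exact ⟨g * h, Or.inr (by rw [map_mul, mul_assoc])⟩
    · exact ⟨g * sig p m h, Or.inr (by rw [map_mul, mul_assoc, tau_two p m hK, ← mul_assoc])⟩
    · exact ⟨g * sig p m h, Or.inl (by
        rw [map_mul, mul_assoc, ← mul_assoc tau, tau_two p m hK, mul_assoc, tau_tau, mul_one])⟩
  inv_mem' := by
    rintro x ⟨g, rfl | rfl⟩
    · exact ⟨g⁻¹, Or.inl (map_inv _ _).symm⟩
    · refine ⟨sig p m g⁻¹, Or.inr (inv_eq_of_mul_eq_one_right ?_)⟩
      rw [mul_assoc, ← mul_assoc tau, tau_two p m hK, sig_sig p m hK, mul_assoc, tau_tau, mul_one, ← map_mul,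
        mul_inv_cancel, map_one]

omit hK in
theorem sums_zero (h5 : 5 ≤ p) : (∑ i ∈ Finset.range p, (i : K)) = 0 ∧ (∑ i ∈ Finset.range p, (i : K) * i) = 0 := by
  have h1 : ∀ n : ℕ, 2 * (∑ i ∈ Finset.range n, (i : K)) = n * (n - 1) := by
    intro n
    induction n with
    | zero => simp
    | succ n ih => rw [Finset.sum_range_succ, mul_add, ih]; push_cast; ring
  have h2 : ∀ n : ℕ, 6 * (∑ i ∈ Finset.range n, (i : K) * i) = n * (n - 1) * (2 * n - 1) := by
    intro n
    induction n with
    | zero => simp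
    | succ n ih => rw [Finset.sum_range_succ, mul_add, ih]; push_cast; ring
  have hne : ∀ k : ℕ, ¬ p ∣ k → (k : K) ≠ 0 := fun k hk e => hk ((CharP.cast_eq_zero_iff K p k).1 e)
  have n2 : ((2 : ℕ) : K) ≠ 0 := hne 2 fun hd => by have := Nat.le_of_dvd (by norm_num) hd; omega
  have n6 : ((6 : ℕ) : K) ≠ 0 := hne 6 fun hd => by
    rcases (Nat.Prime.dvd_mul hp.out).1 (show p ∣ 2 * 3 from hd) with h | h
    · have := Nat.le_of_dvd (by norm_num) h; omega
    · have := Nat.le_of_dvd (by norm_num) h; omega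
  refine ⟨(mul_eq_zero.1 (?_ : ((2 : ℕ) : K) * _ = 0)).resolve_left n2,
    (mul_eq_zero.1 (?_ : ((6 : ℕ) : K) * _ = 0)).resolve_left n6⟩
  · push_cast; rw [h1, CharP.cast_eq_zero, zero_mul]
  · push_cast; rw [h2, CharP.cast_eq_zero, zero_mul, zero_mul]

omit hK in
theorem unip_sum (h5 : 5 ≤ p) {g : SL} {c : K} {M : M2} (hc : c * c = 1) (hM : M * M = 0) (hg : g.1 = c • (1 + M))
    (w : M2) : ∑ i ∈ Finset.range p, ((two p m g) ^ i) w = 0 := by
  obtain ⟨s1, s2⟩ := sums_zero (K := K) p h5
  have hcq : c ^ q = c := pow_of_sq hc ((hp.out.odd_of_ne_two (by omega)).pow)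
  have hterm : ∀ i : ℕ, ((two p m g) ^ i) w = w + (i : K) • (M * w + w * (M.map (iterateFrobenius K p m))ᵀ) +
      ((i : K) * i) • (M * w * (M.map (iterateFrobenius K p m))ᵀ) := by
    intro i
    rw [← map_pow, two_apply]
    have h1 : (g ^ i).1 = c ^ i • (1 + (i : K) • M) := by
      refine (val_pow g i).trans ?_
      show g.1 ^ i = _
      rw [hg, pow_of_nil hM]
    have hci : c ^ i * c ^ i = 1 := by rw [← mul_pow, hc, one_pow]
    have h2 : (sig p m (g ^ i)).1 = c ^ i • (1 + (i : K) • M.map (iterateFrobenius K p m)) := by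
      ext a b
      rw [sig_apply, h1, ← iterateFrobenius_def]
      simp only [Matrix.smul_apply, Matrix.add_apply, smul_eq_mul, map_mul, map_add, map_pow, map_natCast,
        Matrix.map_apply]
      rw [show iterateFrobenius K p m c = c by rw [iterateFrobenius_def, hcq]]
      congr 2
      by_cases hab : a = b <;> simp [Matrix.one_apply, hab]
    rw [h1, h2]
    simp only [transpose_smul, transpose_add, transpose_one, smul_mul_assoc, mul_smul_comm, add_mul, mul_add,
      one_mul, mul_one, smul_add, smul_smul, hci, one_smul]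
    rw [show c ^ i * (i : K) * c ^ i = i by rw [mul_right_comm, hci, one_mul],
      show c ^ i * (i : K) * (c ^ i * i) = (i : K) * i by rw [mul_mul_mul_comm, hci, one_mul]]
    rw [show c ^ i * (c ^ i * (i : K)) = i by rw [← mul_assoc, hci, one_mul]]
    abel
  rw [Finset.sum_congr rfl fun i _ => hterm i]
  simp only [Finset.sum_add_distrib, ← Finset.sum_smul, s1, s2, zero_smul, add_zero, Finset.sum_const,
    Finset.card_range]
  rw [← Nat.cast_smul_eq_nsmul K, CharP.cast_eq_zero, zero_smul]

variable (hm : 1 ≤ m)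
include hm

/-- `p ≥ 5`. -/
theorem large_odd (h5 : 5 ≤ p) (B : ℕ) :
    ∃ (H : Type) (_ : Group H) (_ : Fintype H), B < Fintype.card H ∧
      Set.range (orderOf : H → ℕ) = spec p q := by
  have hdel : del p = 2 := by simp [del, show p ≠ 2 by omega]
  have hc1 : Nat.clog p 4 = 1 := Nat.clog_eq_one (by norm_num) (by omega)
  obtain ⟨hn1, hn2⟩ := not_dvd_q p m hm
  obtain ⟨hdp, hdm, -, -⟩ := del_dvd (p := p) (m := m) rfl
  rw [hdel] at hdp hdm
  have hqodd : Odd q := (hp.out.odd_of_ne_two (by omega)).pow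
  have hq2 := two_le_q p m hm
  have scal : ∀ (g : SL) (c : K), c * c = 1 → g.1 = c • 1 → two p m g = 1 := fun _ _ hc h => two_scalar p m hc h
  have small : ∀ n, n ∣ 2 → p * n ∈ spec p q := fun n hn =>
    spec_of_dvd (mul_dvd_mul_left p (hn.trans hdp)) (mem_spec_pplus p q)
  refine exists_large_affine p (outer p m hK) (spec p q) (fun _ _ => spec_of_dvd) ?_ ?_ ?_
    ⟨Matrix.single 0 0 1, single_ne 0 0⟩ B
  · rintro _ ⟨g, rfl | rfl⟩
    · exact orderOf_mem p m hK _ scal g
    · obtain ⟨a, ha, hat⟩ := exists_ann φ (g * sig p m g)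
      by_cases he : a = a⁻¹
      · obtain ⟨c, M, hc, hM, hg⟩ := unipotent φ _ ha he
        refine spec_of_dvd (orderOf_dvd_of_pow_eq_one (n := 2 * p) ?_)
          (spec_of_dvd (mul_comm 2 p ▸ mul_dvd_mul_left p hdp) (mem_spec_pplus p q))
        rw [(tau_pow p m hK g p).1]
        exact scal _ c hc ((val_pow _ p).trans (by
          show (g * sig p m g).1 ^ p = _
          rw [hg, pow_char_of_nil p hM hc]))
      · have fin : ∀ N, 2 ∣ N → a ^ N = 1 → orderOf (two p m g * tau) ∣ N := by
          rintro _ ⟨j, rfl⟩ h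
          refine orderOf_dvd_of_pow_eq_one ?_
          rw [(tau_pow p m hK g j).1, map_pow]
          obtain ⟨c, hc, hs⟩ := pow_scalar (p := p) φ _ ha he (by rw [hdel]; exact h)
          rw [← map_pow]
          exact scal _ c hc ((val_pow _ j).trans hs)
        rcases root_pm φ p m ha.1 hat (trace_fixed p m hK g) with h | h
        · exact spec_of_dvd ((fin _ hdm h).trans (dvd_mul_left _ p)) (mem_spec_pminus p q)
        · exact spec_of_dvd ((fin _ hdp h).trans (dvd_mul_left _ p)) (mem_spec_pplus p q)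
  · rintro _ ⟨g, rfl | rfl⟩ w hw
    · obtain ⟨a, ha, hat⟩ := exists_ann φ g
      by_cases he : a = a⁻¹
      · obtain ⟨c, M, hc, hM, hg⟩ := unipotent φ g ha he
        have hd : orderOf (two p m g) ∣ p := orderOf_dvd _ scal ⟨c, hc, by rw [hg, pow_char_of_nil p hM hc]⟩
        rcases (Nat.dvd_prime hp.out).1 hd with h | h
        · exact small _ (h ▸ one_dvd 2)
        · exact absurd (by rw [norm, h]; exact unip_sum p m h5 hc hM hg w) hw
      · have fin : ∀ N, 2 ∣ N → a ^ N = 1 → orderOf (two p m g) ∣ N := by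
          rintro _ ⟨j, rfl⟩ h
          exact (orderOf_dvd _ scal (pow_scalar (p := p) φ g ha he (by rw [hdel]; exact h))).trans (dvd_mul_left j 2)
        rcases two_fixed p m hw (fixed_norm _ w) ha hat with h | h
        · exact spec_of_dvd (mul_dvd_mul_left p (fin _ hdm h)) (mem_spec_pminus p q)
        · exact spec_of_dvd (mul_dvd_mul_left p (fin _ hdp h)) (mem_spec_pplus p q)
    · obtain ⟨a, ha, hat⟩ := exists_ann φ (g * sig p m g)
      by_cases he : a = a⁻¹
      · obtain ⟨c, M, hc, hM, hg⟩ := unipotent φ _ ha he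
        set x := two p m g * tau with hx
        have hd : orderOf x ∣ 2 * p := orderOf_dvd_of_pow_eq_one (by
          rw [hx, (tau_pow p m hK g p).1]
          exact scal _ c hc ((val_pow _ p).trans (by
            show (g * sig p m g).1 ^ p = _
            rw [hg, pow_char_of_nil p hM hc])))
        by_cases hpd : p ∣ orderOf x
        · exfalso
          have h2 : 2 ∣ orderOf x := by
            obtain ⟨j, hj, -⟩ := even_of_pow p m hK g (pow_orderOf_eq_one x)
            exact ⟨j, hj⟩
          have ho : orderOf x = 2 * p :=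
            Nat.dvd_antisymm hd (((Nat.coprime_primes Nat.prime_two hp.out).2 (by omega)).mul_dvd_of_dvd_of_dvd h2 hpd)
          have hsplit : ∀ n : ℕ, ∑ i ∈ Finset.range (2 * n), (x ^ i) w =
              ∑ i ∈ Finset.range n, ((two p m (g * sig p m g)) ^ i) (w + x w) := by
            intro n
            induction n with
            | zero => simp
            | succ n ih =>
              rw [show 2 * (n + 1) = 2 * n + 1 + 1 by ring, Finset.sum_range_succ, Finset.sum_range_succ,
                Finset.sum_range_succ (f := fun i => ((two p m (g * sig p m g)) ^ i) (w + x w)), ih, map_add, add_assoc]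
              congr 1
              rw [← tau_sq p m hK, ← hx, ← pow_mul, pow_succ]
              rfl
          refine hw ?_
          rw [norm, ho, hsplit]
          exact unip_sum p m h5 hc hM hg _
        · refine small _ (Nat.Coprime.dvd_of_dvd_mul_right ?_ hd)
          exact ((hp.out.coprime_iff_not_dvd).2 hpd).symm
      · have fin : ∀ N, 2 ∣ N → a ^ N = 1 → orderOf (two p m g * tau) ∣ N := by
          rintro _ ⟨j, rfl⟩ h
          refine orderOf_dvd_of_pow_eq_one ?_
          rw [(tau_pow p m hK g j).1]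
          obtain ⟨c, hc, hs⟩ := pow_scalar (p := p) φ _ ha he (by rw [hdel]; exact h)
          exact scal _ c hc ((val_pow _ j).trans hs)
        rcases root_pm φ p m ha.1 hat (trace_fixed p m hK g) with h | h
        · exact spec_of_dvd (mul_dvd_mul_left p (fin _ hdm h)) (mem_spec_pminus p q)
        · exact spec_of_dvd (mul_dvd_mul_left p (fin _ hdp h)) (mem_spec_pplus p q)
  · obtain ⟨⟨g₁, hg₁⟩, ⟨g₂, hg₂⟩⟩ := tor_witness p m hK (two p m) (fun g h => two_ker p m h)
    obtain ⟨b, hb⟩ := exists_unit (K := K) (d := Fintype.card K - 1) dvd_rfl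
    have hbQ : (b : K) ^ (q * q) = b := by rw [← sq, ← hK, FiniteField.pow_card]
    have hb0 : (b : K) ≠ 0 := b.ne_zero
    have hbq0 : (b : K) ^ q ≠ 0 := pow_ne_zero _ hb0
    have hQ1 : Fintype.card K - 1 = (q - 1) * (q + 1) := by
      rw [hK, mul_comm, ← Nat.sq_sub_sq, one_pow]
    have hbord : ∀ k : ℕ, (b : K) ^ k = 1 → (q - 1) * (q + 1) ∣ k := fun k h => hQ1 ▸ hb ▸ unit_dvd h
    have mixed : ∀ (g : SL) (N : ℕ) (u : Kˣ), (g * sig p m g).1 = (dg u).1 → 2 ∣ N → ¬ p ∣ N →
        (u : K) ^ N = 1 → (∀ j : ℕ, (u : K) ^ (2 * j) = 1 → N ∣ 2 * j) → ∀ w : M2, w ≠ 0 →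
        two p m g wᵀ = w → ∃ x ∈ outer p m hK, ∃ w, norm x w ≠ 0 ∧ p * N ∣ p * orderOf x := by
      intro g N u hu hN2 hpN huN hdvd w hw0 hfix
      have hsq : g * sig p m g = dg u := Subtype.ext hu
      refine ⟨two p m g * tau, ⟨g, Or.inr rfl⟩, w, norm_ne p hw0 hfix (N := N) ?_ hpN, mul_dvd_mul_left p ?_⟩
      · obtain ⟨j, rfl⟩ := hN2
        refine orderOf_dvd_of_pow_eq_one ?_
        rw [(tau_pow p m hK g j).1, hsq]
        have hc : (u : K) ^ j * (u : K) ^ j = 1 := by rw [← pow_add, ← two_mul, huN]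
        exact scal _ _ hc ((val_pow _ j).trans (diag_scalar hc rfl))
      · obtain ⟨j, hj, hs⟩ := even_of_pow p m hK g (pow_orderOf_eq_one (two p m g * tau))
        rw [hj]
        refine hdvd j ?_
        rw [hsq] at hs
        rw [two_mul, pow_add]
        exact diag_of_scalar hs
    rintro d ⟨N, hN, hd⟩
    simp only [maxOrders, List.mem_cons, List.not_mem_nil, or_false] at hN
    rw [hc1, pow_one] at hN
    have plus : ∃ x ∈ outer p m hK, ∃ w, norm x w ≠ 0 ∧ p * (q + 1) ∣ p * orderOf x := by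
      let g : SL := ⟨!![0, (b : K); -(b : K)⁻¹, 0], by simp [Matrix.det_fin_two, hb0]⟩
      refine mixed g (q + 1) (-(b * (b ^ q)⁻¹)) ?_ hdp hn1 ?_ ?_
        (Matrix.single 0 0 1 + ((b : K) * (b : K) ^ q)⁻¹ • Matrix.single 1 1 1) ?_ ?_
      · ext i j
        show (g.1 * (sig p m g).1) i j = _
        rw [dg_val, Matrix.mul_apply, Fin.sum_univ_two, sig_apply, sig_apply]
        fin_cases i <;> fin_cases j <;>
          simp [g, zero_pow (pow_pos hp.out.pos m).ne', hqodd.neg_pow, inv_pow, mul_comm, inv_neg]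
      · simp only [Units.val_neg, Units.val_mul, Units.val_inv_eq_inv_val, Units.val_pow_eq_pow_val]
        rw [(hqodd.add_one).neg_pow, mul_pow, inv_pow, ← pow_mul, mul_add, mul_one, pow_add _ (q * q), hbQ,
          pow_succ, mul_comm ((b : K)) ((b : K) ^ q), mul_inv_cancel₀ (mul_ne_zero hbq0 hb0)]
      · intro j h
        simp only [Units.val_neg, Units.val_mul, Units.val_inv_eq_inv_val, Units.val_pow_eq_pow_val] at h
        rw [(even_two_mul j).neg_pow, mul_pow, inv_pow, mul_inv_eq_one₀ (pow_ne_zero _ hbq0), ← pow_mul] at h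
        have h1 : (b : K) ^ ((q - 1) * (2 * j)) = 1 := by
          refine mul_right_cancel₀ (pow_ne_zero (2 * j) hb0) ?_
          rw [one_mul, ← pow_add, ← Nat.succ_mul, Nat.succ_eq_add_one, Nat.sub_add_cancel (by omega)]
          exact h.symm
        exact Nat.dvd_of_mul_dvd_mul_left (by omega) (hbord _ h1)
      · intro e
        have := congrFun (congrFun e 0) 0
        simp [Matrix.single_apply] at this
      · rw [transpose_add, transpose_smul, transpose_single, transpose_single, map_add, map_smul]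
        ext i j
        simp only [Matrix.add_apply, Matrix.smul_apply, two_single]
        fin_cases i <;> fin_cases j <;>
          simp [g, zero_pow (pow_pos hp.out.pos m).ne', hqodd.neg_pow] <;> field_simp
    rcases hN with rfl | rfl | rfl | rfl | hN
    · exact ⟨_, ⟨g₁, Or.inl rfl⟩, Or.inl (hd.trans hg₁)⟩
    · exact ⟨_, ⟨g₂, Or.inl rfl⟩, Or.inl (hd.trans hg₂)⟩
    · obtain ⟨x, hx, w, hw, hdv⟩ := plus
      exact ⟨x, hx, Or.inr ⟨w, hw, hd.trans hdv⟩⟩
    · obtain ⟨x, hx, w, hw, hdv⟩ := mixed (dg b) (q - 1) (b ^ (q + 1)) (by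
          ext i j
          show ((dg b).1 * (sig p m (dg b)).1) i j = _
          rw [dg_val (b ^ (q + 1)), Matrix.mul_apply, Fin.sum_univ_two, sig_apply, sig_apply, dg_val]
          fin_cases i <;> fin_cases j <;> simp [zero_pow (pow_pos hp.out.pos m).ne', pow_succ', inv_pow, mul_comm])
        hdm hn2
        (by rw [Units.val_pow_eq_pow_val, ← pow_mul, mul_comm, ← hQ1]
            exact FiniteField.pow_card_sub_one_eq_one _ hb0)
        (fun j h => by
          rw [Units.val_pow_eq_pow_val, ← pow_mul] at h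
          have h1 := hbord _ h
          rw [mul_comm (q - 1)] at h1
          exact Nat.dvd_of_mul_dvd_mul_left (Nat.succ_pos _) h1)
        (Matrix.single 0 1 1 + ((b : K) ^ q / b) • Matrix.single 1 0 1)
        (fun e => by
          have := congrFun (congrFun e 0) 1
          simp [Matrix.single_apply] at this)
        (by
          rw [transpose_add, transpose_smul, transpose_single, transpose_single, map_add, map_smul]
          ext i j
          simp only [Matrix.add_apply, Matrix.smul_apply, two_single]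
          fin_cases i <;> fin_cases j <;>
            simp [dg_val, zero_pow (pow_pos hp.out.pos m).ne'] <;> field_simp)
      exact ⟨x, hx, Or.inr ⟨w, hw, hd.trans hdv⟩⟩
    · obtain ⟨x, hx, w, hw, hdv⟩ := plus
      rw [hN] at hd
      exact ⟨x, hx, Or.inr ⟨w, hw, hd.trans ((dvd_mul_right p _).trans hdv)⟩⟩

end CfsgLib.KnownC.Spec.SpFour
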