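import Cfsg.Agent.Lib.KnownC.Spec.SpFourModel

/-!
Arbitrarily large groups with the spectrum of `PSp₄(q)`, `q ≠ 3 ^ (2 t + 1)`.
-/

set_option autoImplicit false
set_option maxHeartbeats 800000

namespace CfsgLib.KnownC.Spec.SpFour

open Matrix CfsgLib.Recog CfsgLib.KnownC.Spec.TwoRoot
open scoped Kronecker

variable {K : Type*} [Field K] [Fintype K] (p : ℕ) [hp : Fact p.Prime] [CharP K p] (m : ℕ)

local notation "q" => p ^ m
local notation "SL" => Matrix.SpecialLinearGroup (Fin 2) K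
local notation "M2" => Matrix (Fin 2) (Fin 2) K
local notation "M4" => Matrix (Fin 2 × Fin 2) (Fin 2 × Fin 2) K
local notation "φ" => algebraMap K (AlgebraicClosure K)
local notation "dg" => CfsgLib.KnownC.SympSpectrum.diagHom K

omit [Fintype K] in
theorem two_apply (g : SL) (X : M2) : two p m g X = g.1 * X * ((sig p m g).1)ᵀ := rfl

omit [Fintype K] in
theorem two_single (g : SL) (i j k l : Fin 2) :
    (two p m g (Matrix.single i j (1 : K)) : M2) k l = g.1 k i * g.1 l j ^ q := by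
  rw [two_apply, Matrix.mul_assoc]
  simp only [Matrix.mul_apply, Matrix.single_apply, ite_mul, one_mul, zero_mul, mul_ite, mul_zero, transpose_apply,
    sig_apply]
  simp [ite_and, Finset.sum_ite_eq]

omit [Fintype K] in
theorem four_single (g : SL) (i j k l : Fin 2 × Fin 2) :
    (four p m g (Matrix.single i j (1 : K)) : M4) k l =
      g.1 k.1 i.1 * g.1 k.2 i.2 ^ p * (g.1 l.1 j.1 ^ q * g.1 l.2 j.2 ^ q) := by
  show (left4 p g * (Matrix.single i j (1 : K)) * (right4 p m g)ᵀ : M4) k l = _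
  rw [Matrix.mul_assoc]
  simp only [Matrix.mul_apply, Matrix.single_apply, ite_mul, one_mul, zero_mul, mul_ite, mul_zero, transpose_apply]
  simp [ite_and, Finset.sum_ite_eq, left4, right4, kroneckerMap_apply, sig_apply]

omit [Fintype K] in
theorem single_ne {ι : Type*} [DecidableEq ι] (i j : ι) : (Matrix.single i j (1 : K)) ≠ 0 := fun e => by
  have := congrFun (congrFun e i) j
  simp at this

omit [Fintype K] in
theorem norm_ne {W : Type*} [AddCommGroup W] [Module K W] {x : W ≃ₗ[K] W} {w : W} (hw : w ≠ 0) (h : x w = w)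
    {N : ℕ} (hN : orderOf x ∣ N) (hpN : ¬ p ∣ N) : norm x w ≠ 0 := by
  rw [norm_of_fixed h]
  refine smul_ne_zero (fun e => hpN ?_) hw
  exact ((CharP.cast_eq_zero_iff K p _).1 e).trans hN

omit [Fintype K] hp [CharP K p] in
theorem diag_scalar {a : Kˣ} {k : ℕ} {c : K} (hc : c * c = 1) (h : (a : K) ^ k = c) : (dg a).1 ^ k = c • 1 := by
  show (val (dg a)) ^ k = _
  rw [← map_pow, ← map_pow]
  show (!![((a ^ k : Kˣ) : K), 0; 0, (((a ^ k)⁻¹ : Kˣ) : K)] : M2) = _
  have hi : c⁻¹ = c := inv_eq_of_mul_eq_one_right hc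
  ext i j
  fin_cases i <;> fin_cases j <;> simp [h, hi]

omit [Fintype K] hp [CharP K p] in
theorem dg_val (a : Kˣ) : (dg a).1 = !![(a : K), 0; 0, (a : K)⁻¹] := by
  show (!![(a : K), 0; 0, ((a⁻¹ : Kˣ) : K)] : M2) = _
  rw [Units.val_inv_eq_inv_val]

omit [Fintype K] hp [CharP K p] in
theorem diag_of_scalar {a : Kˣ} {k : ℕ} (h : ∃ c : K, c * c = 1 ∧ (dg a ^ k).1 = c • 1) :
    (a : K) ^ k * (a : K) ^ k = 1 := by
  obtain ⟨c, hc, h⟩ := h
  rw [← map_pow, dg_val] at h
  have h0 : ((a ^ k : Kˣ) : K) = c := by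
    have := congrFun (congrFun h 0) 0
    simpa using this
  rw [← Units.val_pow_eq_pow_val, h0, hc]

theorem exists_unit {d : ℕ} (h : d ∣ Fintype.card K - 1) : ∃ a : Kˣ, orderOf a = d := by
  obtain ⟨γ, hγ⟩ := IsCyclic.exists_ofOrder_eq_natCard (α := Kˣ)
  rw [Nat.card_units, Nat.card_eq_fintype_card] at hγ
  exact ⟨γ ^ (orderOf γ / d), orderOf_pow_orderOf_div (orderOf_pos γ).ne' (hγ ▸ h)⟩

omit [Fintype K] in
theorem unit_dvd {a : Kˣ} {k : ℕ} (h : (a : K) ^ k = 1) : orderOf a ∣ k :=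
  orderOf_dvd_of_pow_eq_one (Units.ext (by rw [Units.val_pow_eq_pow_val, h, Units.val_one]))

/-- An element of a torus of order `q² ± 1`. -/
theorem exists_tor {N : ℕ} (hN : N = Fintype.card K - 1 ∨ N = Fintype.card K + 1) :
    ∃ g : SL, ∀ k : ℕ, (∃ c : K, c * c = 1 ∧ (g ^ k).1 = c • 1) → N ∣ del p * k := by
  classical
  have hQ : 2 ≤ Fintype.card K := Fintype.one_lt_card
  obtain ⟨n, -, hcard⟩ := FiniteField.card K p
  have hpQ : p ∣ Fintype.card K := hcard ▸ dvd_pow_self p n.ne_zero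
  have hpN : ¬ p ∣ N := by
    intro hd
    rcases hN with rfl | rfl
    · have h1 : p ∣ (Fintype.card K - 1) + 1 := by rw [Nat.sub_add_cancel (by omega)]; exact hpQ
      exact hp.out.one_lt.ne' (Nat.dvd_one.1 ((Nat.dvd_add_right hd).1 h1))
    · exact hp.out.one_lt.ne' (Nat.dvd_one.1 ((Nat.dvd_add_right hpQ).1 hd))
  haveI : NeZero (N : AlgebraicClosure K) := ⟨fun e => hpN ((CharP.cast_eq_zero_iff _ p N).1 e)⟩
  obtain ⟨a, ha⟩ := IsAlgClosed.exists_root (Polynomial.cyclotomic N (AlgebraicClosure K))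
    (Polynomial.degree_cyclotomic_pos N _ (Nat.pos_of_ne_zero fun e => hpN (e ▸ dvd_zero p))).ne'
  have hprim : IsPrimitiveRoot a N := Polynomial.isRoot_cyclotomic_iff.1 ha
  have ha0 : a ≠ 0 := hprim.ne_zero (fun e => hpN (e ▸ dvd_zero p))
  have hfix : (a + a⁻¹) ^ Fintype.card K = a + a⁻¹ := by
    rw [hcard, frob_add, ← hcard]
    rcases hN with h | h
    · have e : a ^ Fintype.card K = a := by
        calc a ^ Fintype.card K = a ^ (N + 1) := by rw [h, Nat.sub_add_cancel (by omega)]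
          _ = a := by rw [pow_succ, hprim.pow_eq_one, one_mul]
      rw [e]
    · have e : a ^ Fintype.card K = a⁻¹ := eq_inv_of_mul_eq_one_left (by rw [← pow_succ, ← h, hprim.pow_eq_one])
      rw [e, inv_inv, add_comm]
  obtain ⟨t, ht⟩ : ∃ t : K, φ t = a + a⁻¹ := by
    by_contra hne
    push_neg at hne
    let S : Finset (AlgebraicClosure K) := insert (a + a⁻¹) (Finset.univ.image φ)
    have hS : S.card = Fintype.card K + 1 := by
      rw [Finset.card_insert_of_notMem (by simpa using hne), Finset.card_image_of_injective _ (φ).injective,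
        Finset.card_univ]
    have hle : S.val ⊆ (Polynomial.X ^ Fintype.card K - Polynomial.X : Polynomial (AlgebraicClosure K)).roots := by
      intro x hx
      rw [Polynomial.mem_roots (FiniteField.X_pow_card_sub_X_ne_zero _ hQ)]
      simp only [Polynomial.IsRoot, Polynomial.eval_sub, Polynomial.eval_pow, Polynomial.eval_X, sub_eq_zero]
      have hx' : x ∈ S := hx
      rcases Finset.mem_insert.1 hx' with rfl | hx
      · exact hfix
      · obtain ⟨y, -, rfl⟩ := Finset.mem_image.1 hx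
        rw [← map_pow, FiniteField.pow_card]
    have := Polynomial.card_le_degree_of_subset_roots hle
    rw [hS, FiniteField.X_pow_card_sub_X_natDegree_eq _ hQ] at this
    omega
  let g0 : SL := ⟨!![0, -1; 1, t], by simp [Matrix.det_fin_two]⟩
  refine ⟨g0, ?_⟩
  rintro k ⟨c, hc, hk⟩
  have hv : ∀ i : ℕ, ((!![0, -1; 1, t] : M2).map φ) ^ i *ᵥ ![1, -a] = a ^ i • ![1, -a] := by
    intro i
    induction i with
    | zero => simp
    | succ i ih =>
      rw [pow_succ', ← Matrix.mulVec_mulVec, ih, Matrix.mulVec_smul, pow_succ, mul_smul]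
      congr 1
      ext j
      have h1 := mul_inv_cancel₀ ha0
      fin_cases j <;> simp [Matrix.mulVec, dotProduct, Fin.sum_univ_two, ht]
      linear_combination (-1 : AlgebraicClosure K) * h1
  have hmap : ((!![0, -1; 1, t] : M2).map φ) ^ k = φ c • 1 := by
    have e : (!![0, -1; 1, t] : M2) ^ k = c • 1 := (map_pow val g0 k).symm.trans hk
    rw [← RingHom.mapMatrix_apply, ← map_pow, e]
    ext i j
    by_cases hij : i = j <;> simp [hij]
  have hck := congrFun (hv k) 0
  rw [hmap] at hck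
  simp [Matrix.smul_mulVec, -algebraMap_smul] at hck
  refine hprim.dvd_of_pow_eq_one _ ?_
  rw [mul_comm, pow_mul, ← hck, ← map_pow]
  rw [show c ^ del p = 1 by
    rw [del]
    split_ifs with h2
    · subst h2; rw [eq_one_of_two hc, one_pow]
    · rw [sq, hc], map_one]

section

variable (hK : Fintype.card K = (p ^ m) ^ 2) (hm : 1 ≤ m)

include hm hK

omit hK in
theorem two_le_q : 2 ≤ q := hp.out.two_le.trans (Nat.le_self_pow (by omega) p)

omit hK in
theorem not_dvd_q : ¬ p ∣ q + 1 ∧ ¬ p ∣ q - 1 := by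
  have hq := two_le_q p m hm
  have hpq : p ∣ q := dvd_pow_self p (by omega)
  refine ⟨fun hd => hp.out.one_lt.ne' (Nat.dvd_one.1 ((Nat.dvd_add_right hpq).1 hd)), fun hd => ?_⟩
  have h1 : p ∣ (q - 1) + 1 := by rw [Nat.sub_add_cancel (by omega)]; exact hpq
  exact hp.out.one_lt.ne' (Nat.dvd_one.1 ((Nat.dvd_add_right hd).1 h1))

omit hm in
theorem dvd_card_sub : (q + 1) ∣ Fintype.card K - 1 ∧ (q - 1) ∣ Fintype.card K - 1 := by
  rw [hK, show (q) ^ 2 - 1 = (q + 1) * (q - 1) by rw [← Nat.sq_sub_sq, one_pow]]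
  exact ⟨dvd_mul_right _ _, dvd_mul_left _ _⟩

omit hm in
theorem tor_witness {W : Type*} [AddCommGroup W] [Module K W] (r : SL →* (W ≃ₗ[K] W))
    (hker : ∀ g : SL, r g = 1 → ∃ c : K, c * c = 1 ∧ g.1 = c • 1) :
    (∃ g : SL, (q ^ 2 + 1) / del p ∣ orderOf (r g)) ∧ (∃ g : SL, (q ^ 2 - 1) / del p ∣ orderOf (r g)) := by
  obtain ⟨-, -, hp', hm'⟩ := del_dvd (p := p) (m := m) rfl
  have key : ∀ N, (N = Fintype.card K - 1 ∨ N = Fintype.card K + 1) → del p ∣ N →
      ∃ g : SL, N / del p ∣ orderOf (r g) := by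
    intro N hN hd
    obtain ⟨g, hg⟩ := exists_tor p hN
    refine ⟨g, Nat.div_dvd_iff_dvd_mul hd (by rw [del]; split_ifs <;> norm_num) |>.2 (hg _ ?_)⟩
    exact hker _ (by rw [map_pow, pow_orderOf_eq_one])
  exact ⟨key _ (Or.inr (by rw [hK])) hp', key _ (Or.inl (by rw [hK])) hm'⟩

/-- `q` even. -/
theorem large_even (h2 : p = 2) (B : ℕ) :
    ∃ (H : Type) (_ : Group H) (_ : Fintype H), B < Fintype.card H ∧
      Set.range (orderOf : H → ℕ) = spec p q := by
  have hc2 : Nat.clog p 4 = 2 := by subst h2; decide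
  have hdel : del p = 1 := by simp [del, h2]
  obtain ⟨hn1, hn2⟩ := not_dvd_q p m hm
  refine exists_large_affine p (two p m : SL →* (M2 ≃ₗ[K] M2)).range (spec p q) (fun _ _ => spec_of_dvd) ?_ ?_ ?_
    ⟨Matrix.single 0 0 1, single_ne 0 0⟩ B
  · rintro _ ⟨g, rfl⟩
    exact orderOf_mem p m hK _ (fun _ _ hc h => two_scalar p m hc h) g
  · rintro _ ⟨g, rfl⟩ w hw
    obtain ⟨a, ha, hat⟩ := exists_ann φ g
    by_cases he : a = a⁻¹
    · obtain ⟨c, M, hc, hM, hg⟩ := unipotent φ g ha he
      refine spec_of_dvd ?_ (mem_spec_unip p q)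
      rw [hc2, sq]
      exact mul_dvd_mul_left p (orderOf_dvd _ (fun _ _ hc h => two_scalar p m hc h)
        ⟨c, hc, by rw [hg, pow_char_of_nil p hM hc]⟩)
    · rcases two_fixed p m hw (fixed_norm _ w) ha hat with h | h
      · exact spec_of_dvd (mul_dvd_mul_left p (orderOf_dvd _ (fun _ _ hc h => two_scalar p m hc h)
          (pow_scalar (p := p) φ g ha he (by rw [hdel, one_mul]; exact h)))) (mem_spec_pminus p q)
      · exact spec_of_dvd (mul_dvd_mul_left p (orderOf_dvd _ (fun _ _ hc h => two_scalar p m hc h)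
          (pow_scalar (p := p) φ g ha he (by rw [hdel, one_mul]; exact h)))) (mem_spec_pplus p q)
  · obtain ⟨⟨g₁, hg₁⟩, ⟨g₂, hg₂⟩⟩ := tor_witness p m hK (two p m) (fun g h => two_ker p m h)
    have mixed : ∀ N, N ∣ Fintype.card K - 1 → ¬ p ∣ N → ∀ i j : Fin 2,
        (∀ a : Kˣ, (a : K) ^ N = 1 → two p m (dg a) (Matrix.single i j 1) = Matrix.single i j 1) →
        ∃ x ∈ (two p m : SL →* (M2 ≃ₗ[K] M2)).range, ∃ w, norm x w ≠ 0 ∧ p * N ∣ p * orderOf x := by
      intro N hN hpN i j hfix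
      obtain ⟨a, ha⟩ := exists_unit hN
      have haN : (a : K) ^ N = 1 := by rw [← ha, ← Units.val_pow_eq_pow_val, pow_orderOf_eq_one, Units.val_one]
      refine ⟨two p m (dg a), ⟨_, rfl⟩, Matrix.single i j 1, norm_ne p (single_ne i j) (hfix a haN) ?_ hpN,
        mul_dvd_mul_left p ?_⟩
      · exact orderOf_dvd _ (fun _ _ hc h => two_scalar p m hc h) ⟨1, one_mul 1, diag_scalar (one_mul 1) haN⟩
      · rw [← ha]
        refine unit_dvd ?_
        have h := diag_of_scalar (a := a) (two_ker p m (g := dg a ^ orderOf (two p m (dg a)))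
          (by rw [map_pow, pow_orderOf_eq_one]))
        subst h2
        exact eq_one_of_two h
    rintro d ⟨N, hN, hd⟩
    simp only [maxOrders, List.mem_cons, List.not_mem_nil, or_false] at hN
    rcases hN with rfl | rfl | rfl | rfl | rfl
    · exact ⟨_, ⟨g₁, rfl⟩, Or.inl (hd.trans hg₁)⟩
    · exact ⟨_, ⟨g₂, rfl⟩, Or.inl (hd.trans hg₂)⟩
    · obtain ⟨x, hx, w, hw, hdv⟩ := mixed (q + 1) (dvd_card_sub p m hK).1 hn1 0 0 (fun a ha => by
        ext k l
        rw [two_single]
        fin_cases k <;> fin_cases l <;>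
          simp [dg_val, zero_pow (pow_pos hp.out.pos m).ne', ← pow_succ', ha])
      exact ⟨x, hx, Or.inr ⟨w, hw, hd.trans hdv⟩⟩
    · obtain ⟨x, hx, w, hw, hdv⟩ := mixed (q - 1) (dvd_card_sub p m hK).2 hn2 0 1 (fun a ha => by
        have e : (a : K) ^ q = a := by
          calc (a : K) ^ q = (a : K) ^ ((q - 1) + 1) := by
                rw [Nat.sub_add_cancel (Nat.one_le_pow _ _ hp.out.pos)]
            _ = a := by rw [pow_succ, ha, one_mul]
        ext k l
        rw [two_single]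
        fin_cases k <;> fin_cases l <;>
          simp [dg_val, zero_pow (pow_pos hp.out.pos m).ne', inv_pow, e,
            Units.val_inv_eq_inv_val])
      exact ⟨x, hx, Or.inr ⟨w, hw, hd.trans hdv⟩⟩
    · -- order four
      let u : SL := ⟨!![1, 1; 0, 1], by simp [Matrix.det_fin_two]⟩
      have hu : u.1 ^ 2 = 1 := by
        subst h2
        ext i j
        fin_cases i <;> fin_cases j <;> simp [u, sq, CharTwo.add_self_eq_zero]
      have h00 : two p m u (Matrix.single 1 1 1) 0 0 = 1 := by rw [two_single]; simp [u]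
      have hne : two p m u ≠ 1 := fun e => by
        rw [e] at h00
        simp [Matrix.single_apply] at h00
      have ho : orderOf (two p m u) = 2 := orderOf_eq_prime (by
        rw [← map_pow]; exact two_scalar p m (one_mul 1) (by rw [one_smul]; exact (map_pow val u 2).trans hu)) hne
      refine ⟨_, ⟨u, rfl⟩, Or.inr ⟨Matrix.single 1 1 1, fun e => ?_, ?_⟩⟩
      · rw [norm, ho, Finset.sum_range_succ, Finset.sum_range_one, pow_zero, pow_one] at e
        have := congrFun (congrFun e 0) 0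
        rw [Matrix.add_apply, h00] at this
        simp [Matrix.single_apply] at this
      · refine hd.trans ?_
        rw [hc2, sq, ho, h2]

/-- `q = 3 ^ m`, `m` even. -/
theorem large_three (h3 : p = 3) (heven : Even m) (B : ℕ) :
    ∃ (H : Type) (_ : Group H) (_ : Fintype H), B < Fintype.card H ∧
      Set.range (orderOf : H → ℕ) = spec p q := by
  have hc2 : Nat.clog p 4 = 2 := by subst h3; decide
  have hdel : del p = 2 := by simp [del, h3]
  obtain ⟨hn1, hn2⟩ := not_dvd_q p m hm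
  obtain ⟨hdp, hdm, -, -⟩ := del_dvd (p := p) (m := m) rfl
  refine exists_large_affine p (four p m : SL →* (M4 ≃ₗ[K] M4)).range (spec p q) (fun _ _ => spec_of_dvd) ?_ ?_ ?_
    ⟨Matrix.single (0, 0) (0, 0) 1, single_ne _ _⟩ B
  · rintro _ ⟨g, rfl⟩
    exact orderOf_mem p m hK _ (fun _ _ hc h => four_scalar p m hc h) g
  · rintro _ ⟨g, rfl⟩ w hw
    obtain ⟨a, ha, hat⟩ := exists_ann φ g
    by_cases he : a = a⁻¹
    · obtain ⟨c, M, hc, hM, hg⟩ := unipotent φ g ha he
      refine spec_of_dvd ?_ (mem_spec_unip p q)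
      rw [hc2, sq]
      exact mul_dvd_mul_left p (orderOf_dvd _ (fun _ _ hc h => four_scalar p m hc h)
        ⟨c, hc, by rw [hg, pow_char_of_nil p hM hc]⟩)
    · have fin : ∀ N, a ^ (2 * N) = 1 → p * orderOf (four p m g) ∣ p * N := fun N h =>
        mul_dvd_mul_left p (orderOf_dvd _ (fun _ _ hc h => four_scalar p m hc h)
          (pow_scalar (p := p) φ g ha he (by rw [hdel]; exact h)))
      rcases four_pm p m hK h3 heven hw (fixed_norm _ w) ha hat with h | h | h
      · exact spec_of_dvd ((fin 2 h).trans (mul_dvd_mul_left p (hdel ▸ hdp))) (mem_spec_pplus p q)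
      · exact spec_of_dvd (fin _ h) (mem_spec_pminus p q)
      · exact spec_of_dvd (fin _ h) (mem_spec_pplus p q)
  · obtain ⟨⟨g₁, hg₁⟩, ⟨g₂, hg₂⟩⟩ := tor_witness p m hK (four p m) (fun g h => four_ker p m h)
    have mixed : ∀ N, 2 * N ∣ Fintype.card K - 1 → ¬ p ∣ N → ∀ i j : Fin 2 × Fin 2,
        (∀ a : Kˣ, (a : K) ^ (2 * N) = 1 → four p m (dg a) (Matrix.single i j 1) = Matrix.single i j 1) →
        ∃ x ∈ (four p m : SL →* (M4 ≃ₗ[K] M4)).range, ∃ w, norm x w ≠ 0 ∧ p * N ∣ p * orderOf x := by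
      intro N hN hpN i j hfix
      obtain ⟨a, ha⟩ := exists_unit hN
      have haN : (a : K) ^ (2 * N) = 1 := by
        rw [← ha, ← Units.val_pow_eq_pow_val, pow_orderOf_eq_one, Units.val_one]
      refine ⟨four p m (dg a), ⟨_, rfl⟩, Matrix.single i j 1, norm_ne p (single_ne i j) (hfix a haN) ?_ hpN,
        mul_dvd_mul_left p ?_⟩
      · have hc : (a : K) ^ N * (a : K) ^ N = 1 := by rw [← pow_add, ← two_mul, haN]
        exact orderOf_dvd _ (fun _ _ hc h => four_scalar p m hc h) ⟨_, hc, diag_scalar hc rfl⟩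
      · refine Nat.dvd_of_mul_dvd_mul_left (by norm_num : 0 < 2) ?_
        rw [← ha]
        refine unit_dvd ?_
        rw [two_mul, pow_add]
        exact diag_of_scalar (a := a) (four_ker p m (g := dg a ^ orderOf (four p m (dg a)))
          (by rw [map_pow, pow_orderOf_eq_one]))
    obtain ⟨h2p, h2m⟩ : 2 * (q + 1) ∣ Fintype.card K - 1 ∧ 2 * (q - 1) ∣ Fintype.card K - 1 := by
      rw [hK, show (q) ^ 2 - 1 = (q + 1) * (q - 1) by rw [← Nat.sq_sub_sq, one_pow]]
      refine ⟨?_, mul_dvd_mul_right (hdel ▸ hdp) _⟩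
      rw [mul_comm 2]
      exact mul_dvd_mul_left _ (hdel ▸ hdm)
    have hq0 : q ≠ 0 := (pow_pos hp.out.pos m).ne'
    rintro d ⟨N, hN, hd⟩
    simp only [maxOrders, List.mem_cons, List.not_mem_nil, or_false] at hN
    rcases hN with rfl | rfl | rfl | rfl | rfl
    · exact ⟨_, ⟨g₁, rfl⟩, Or.inl (hd.trans hg₁)⟩
    · exact ⟨_, ⟨g₂, rfl⟩, Or.inl (hd.trans hg₂)⟩
    · obtain ⟨x, hx, w, hw, hdv⟩ := mixed (q + 1) h2p hn1 (1, 0) (0, 0) (fun a ha => by
        have e : (a : K)⁻¹ * (a : K) ^ p * ((a : K) ^ q * (a : K) ^ q) = 1 := by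
          have ha0 : (a : K) ≠ 0 := a.ne_zero
          calc (a : K)⁻¹ * (a : K) ^ p * ((a : K) ^ q * (a : K) ^ q)
              = ((a : K)⁻¹ * a) * (a : K) ^ (2 * (q + 1)) := by
                rw [show (a : K) ^ p = (a : K) ^ 3 by rw [h3], mul_add, pow_add, two_mul (q), pow_add]; ring
            _ = 1 := by rw [ha, inv_mul_cancel₀ ha0, one_mul]
        ext ⟨k₁, k₂⟩ ⟨l₁, l₂⟩
        rw [four_single]
        fin_cases k₁ <;> fin_cases k₂ <;> fin_cases l₁ <;> fin_cases l₂ <;>
          simp [dg_val, zero_pow hq0, zero_pow hp.out.ne_zero, Matrix.single_apply,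
            Units.val_inv_eq_inv_val, e])
      exact ⟨x, hx, Or.inr ⟨w, hw, hd.trans hdv⟩⟩
    · obtain ⟨x, hx, w, hw, hdv⟩ := mixed (q - 1) h2m hn2 (1, 0) (1, 1) (fun a ha => by
        have e : (a : K)⁻¹ * (a : K) ^ p * (((a : K)⁻¹) ^ q * ((a : K)⁻¹) ^ q) = 1 := by
          have ha0 : (a : K) ≠ 0 := a.ne_zero
          have e0 : (a : K) ^ q = (a : K) ^ (q - 1) * a := by
            rw [← pow_succ, Nat.sub_add_cancel (Nat.one_le_pow _ _ hp.out.pos)]
          calc (a : K)⁻¹ * (a : K) ^ p * (((a : K)⁻¹) ^ q * ((a : K)⁻¹) ^ q)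
              = ((a : K)⁻¹ * a) * ((a : K)⁻¹ * a) * ((a : K)⁻¹ * a) * ((a : K) ^ (2 * (q - 1)))⁻¹ := by
                rw [inv_pow, show (a : K) ^ p = (a : K) ^ 3 by rw [h3], e0, two_mul (q - 1), pow_add, mul_inv,
                  mul_inv]; ring
            _ = 1 := by rw [ha, inv_mul_cancel₀ ha0, inv_one, one_mul, one_mul, mul_one]
        ext ⟨k₁, k₂⟩ ⟨l₁, l₂⟩
        rw [four_single]
        fin_cases k₁ <;> fin_cases k₂ <;> fin_cases l₁ <;> fin_cases l₂ <;>
          simp [dg_val, zero_pow hq0, zero_pow hp.out.ne_zero, Matrix.single_apply,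
            Units.val_inv_eq_inv_val, -inv_pow, e])
      exact ⟨x, hx, Or.inr ⟨w, hw, hd.trans hdv⟩⟩
    · -- order nine
      let u : SL := ⟨!![1, 1; 0, 1], by simp [Matrix.det_fin_two]⟩
      let M : M2 := !![0, 1; 0, 0]
      have hu : ∀ i : ℕ, (u ^ i).1 = 1 + (i : K) • M := fun i => by
        have hval : u.1 = (1 : K) • (1 + M) := by
          rw [one_smul]; ext i j; fin_cases i <;> fin_cases j <;> simp [u, M]
        refine (map_pow val u i).trans ?_
        show u.1 ^ i = _
        rw [hval, pow_of_nil (by ext i j; fin_cases i <;> fin_cases j <;> simp [M]) i, one_pow, one_smul]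
      have hi : ∀ i : ℕ, ((four p m u) ^ i) (Matrix.single (1, 1) (1, 1) 1) (0, 0) (0, 0) =
          (i : K) * (i : K) ^ p * ((i : K) ^ q * (i : K) ^ q) := fun i => by
        rw [← map_pow, four_single, hu]
        simp [M]
      have hcastp : (2 : K) ^ p = (2 : K) := by
        have h2e : (2 : K) = ((2 : ℕ) : K) := by norm_num
        rw [h2e, ← frobenius_def]
        exact map_natCast (frobenius K p) 2
      have hcastq : (2 : K) ^ q = (2 : K) := by
        clear hi hu M u hd hn1 hn2 hm hK heven hdp hdm hg₁ hg₂ mixed h2p h2m hq0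
        induction m with
        | zero => simp
        | succ k ih => rw [pow_succ, pow_mul, ih, hcastp]
      have hne : four p m u ≠ 1 := fun e => by
        have := hi 1
        rw [e] at this
        simp [Matrix.single_apply, Prod.ext_iff] at this
      have ho : orderOf (four p m u) = p := orderOf_eq_prime (by
        rw [← map_pow]
        exact four_scalar p m (one_mul 1) (by rw [hu, CharP.cast_eq_zero, zero_smul, add_zero, one_smul])) hne
      refine ⟨_, ⟨u, rfl⟩, Or.inr ⟨Matrix.single (1, 1) (1, 1) 1, fun e => ?_, ?_⟩⟩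
      · rw [norm, ho, show Finset.range p = Finset.range 3 by rw [h3], Finset.sum_range_succ, Finset.sum_range_succ, Finset.sum_range_one] at e
        have := congrFun (congrFun e (0, 0)) (0, 0)
        simp only [Matrix.add_apply, Matrix.zero_apply] at this
        rw [hi, hi, hi] at this
        simp only [Nat.cast_zero, Nat.cast_one, Nat.cast_ofNat, one_pow, mul_one, zero_mul, zero_add,
          hcastp, hcastq] at this
        subst h3
        have h17 : ((17 : ℕ) : K) = 0 := by push_cast; linear_combination this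
        exact absurd ((CharP.cast_eq_zero_iff K 3 17).1 h17) (by norm_num)
      · refine hd.trans ?_
        rw [hc2, sq, ho]

end

end CfsgLib.KnownC.Spec.SpFour
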