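import Cfsg.Agent.Lib.KnownC.Spec.OrderThirteen
import Cfsg.Agent.Lib.Suzuki.Tori
import Cfsg.Agent.Lib.Suzuki.Cell
import Cfsg.Agent.Lib.Suzuki.Model
import Cfsg.Agent.Lib.Suzuki.Sylow
import Cfsg.Agent.Lib.Recog.SemidirectSpectrum

/-!
A `2`-group extended by `Sz(8).3` with the prime graph `2 - 3, 2 - 5, 2 - 7, 3 - 5`, `13` isolated.
-/

set_option autoImplicit false

namespace CfsgLib.KnownC.Spec.SzEight

open Matrix CfsgLib.Suzuki CfsgLib.Recog

variable (F : Type) [Field F] [CharP F 2] [Fintype F]

/-- The field has eight elements. -/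
abbrev HCard : Prop := Fintype.card F = 2 ^ (2 * 1 + 1)

/-- `Sz(8)`. -/
abbrev S : Type := ↥(Cfsg.Sz F 1)

local notation "M4" => Matrix (Fin 4) (Fin 4) F

variable {F}

/-- The matrix of an element. -/
def mt : S F →* M4 where
  toFun g := g.1.1
  map_one' := rfl
  map_mul' _ _ := rfl

theorem mt_injective : Function.Injective (mt (F := F)) := fun _ _ h => Subtype.ext (Subtype.ext h)

theorem pow_eight (hF : HCard F) (x : F) : x ^ 8 = x := by
  have := FiniteField.pow_card x
  rwa [show Fintype.card F = 8 from hF] at this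

/-- Squaring the entries. -/
def sqSL : Matrix.SpecialLinearGroup (Fin 4) F →* Matrix.SpecialLinearGroup (Fin 4) F :=
  Matrix.SpecialLinearGroup.map (frobenius F 2)

theorem sqSL_apply (g : Matrix.SpecialLinearGroup (Fin 4) F) : (sqSL g).1 = g.1.map (frobenius F 2) := rfl

theorem sqSL_mem (hF : HCard F) {g : Matrix.SpecialLinearGroup (Fin 4) F} (hg : g ∈ Cfsg.Sz F 1) :
    sqSL g ∈ Cfsg.Sz F 1 := by
  set h := thSq_of_card hF
  have hth : ∀ x : F, th 1 (frobenius F 2 x) = frobenius F 2 (th 1 x) := fun x => by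
    simp only [th_def, frobenius_def, ← pow_mul, mul_comm]
  refine induction_on_sz le_rfl hF (S := (Cfsg.Sz F 1).comap (sqSL.comp (Cfsg.Sz F 1).subtype)) ?_ ?_ ?_ ⟨g, hg⟩
  · intro a b
    have e : sqSL (tG h a b).1 = (tG h (frobenius F 2 a) (frobenius F 2 b)).1 := by
      apply Subtype.ext
      show (tMat 1 a b).map (frobenius F 2) = tMat 1 (frobenius F 2 a) (frobenius F 2 b)
      ext i j
      fin_cases i <;> fin_cases j <;> simp [tMat, hth]
    show sqSL (tG h a b).1 ∈ Cfsg.Sz F 1
    rw [e]; exact (tG h _ _).2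
  · intro s
    have e : sqSL (hG h s).1 = (hG h (Units.map (frobenius F 2 : F →* F) s)).1 := by
      apply Subtype.ext
      show (Suzuki.hMat 1 (s : F)).map (frobenius F 2) = Suzuki.hMat 1 (frobenius F 2 (s : F))
      ext i j
      fin_cases i <;> fin_cases j <;> simp [Suzuki.hMat, hth]
    show sqSL (hG h s).1 ∈ Cfsg.Sz F 1
    rw [e]; exact (hG h _).2
  · have e : sqSL (wG h).1 = (wG h).1 := by
      apply Subtype.ext
      show (wSL F).1.map (frobenius F 2) = (wSL F).1
      ext i j
      fin_cases i <;> fin_cases j <;> simp [wSL]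
    show sqSL (wG h).1 ∈ Cfsg.Sz F 1
    rw [e]; exact (wG h).2

/-- Squaring the entries, on `Sz(8)`. -/
noncomputable def sigma (hF : HCard F) : MulAut (S F) :=
  MulEquiv.ofBijective ((sqSL.comp (Cfsg.Sz F 1).subtype).codRestrict _ fun g => sqSL_mem hF g.2)
    (Finite.injective_iff_bijective.1 fun a b h => mt_injective
      (Matrix.map_injective (frobenius_inj F 2) (congrArg (fun u : S F => u.1.1) h)))

theorem mt_sigma (hF : HCard F) (g : S F) : mt (sigma hF g) = (mt g).map (frobenius F 2) := rfl

theorem sigma_pow (hF : HCard F) : sigma hF ^ 3 = 1 := by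
  refine MulEquiv.ext fun g => mt_injective ?_
  show mt (sigma hF (sigma hF (sigma hF g))) = mt g
  rw [mt_sigma, mt_sigma, mt_sigma]
  ext i j
  simp only [Matrix.map_apply, frobenius_def, ← pow_mul]
  exact pow_eight hF _

theorem exists_unit (hF : HCard F) : ∃ s : Fˣ, s ≠ 1 := by
  haveI : Nontrivial Fˣ := Finite.one_lt_card_iff_nontrivial.1 (by
    rw [Nat.card_units, Nat.card_eq_fintype_card, show Fintype.card F = 8 from hF]; norm_num)
  exact exists_ne 1

theorem orderOf_sigma (hF : HCard F) : orderOf (sigma hF) = 3 := by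
  haveI : Fact (Nat.Prime 3) := ⟨Nat.prime_three⟩
  refine orderOf_eq_prime (sigma_pow hF) fun e => ?_
  obtain ⟨s, hs⟩ := exists_unit hF
  have h := congrArg (fun u : S F => u.1.1 1 1) (DFunLike.congr_fun e (hG (thSq_of_card hF) s))
  change frobenius F 2 ((Suzuki.hMat 1 (s : F)) 1 1) = (Suzuki.hMat 1 (s : F)) 1 1 at h
  simp only [Suzuki.hMat, Matrix.diagonal_apply_eq, Matrix.cons_val_one, Matrix.cons_val_zero, frobenius_def] at h
  exact hs (Units.ext (mul_left_cancel₀ s.ne_zero (by rw [← pow_two, h, Units.val_one, mul_one])))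

/-- The outer part. -/
abbrev T (hF : HCard F) : Type := ↥(Subgroup.zpowers (sigma hF))

/-- `Sz(8).3`. -/
abbrev C (hF : HCard F) : Type := S F ⋊[(Subgroup.zpowers (sigma hF)).subtype] T hF

variable (hF : HCard F)

theorem card_T : Nat.card (T hF) = 3 := by rw [Nat.card_zpowers, orderOf_sigma]

instance : Finite (C hF) := Finite.of_equiv _ SemidirectProduct.equivProd.symm

include hF in
theorem orders_S (g : S F) :
    (∃ e, orderOf g = 2 ^ e) ∨ orderOf g ∣ 7 ∨ orderOf g ∣ 13 ∨ orderOf g ∣ 5 := by
  rcases conj_cases le_rfl hF g with h | ⟨k, hk⟩ | ⟨k, s, -, hk⟩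
  · have hg : g ∈ Subgroup.centralizer {g} := Subgroup.mem_centralizer_singleton_iff.2 rfl
    have hd : orderOf g ∣ Nat.card (Subgroup.centralizer {g}) := by
      rw [← Subgroup.orderOf_mk g hg]; exact orderOf_dvd_natCard _
    rcases ((h.isTorus le_rfl hF).card_mem le_rfl hF).1 with hc | hc <;> rw [hc] at hd
    · exact Or.inr (Or.inr (Or.inl hd))
    · exact Or.inr (Or.inr (Or.inr hd))
  · exact Or.inl (orderOf_two_power hF hk)
  · refine Or.inr (Or.inl ?_)
    have e : orderOf g = orderOf (hG (thSq_of_card hF) s) := by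
      rw [← hk]; exact ((MulAut.conj k).orderOf_eq g).symm
    rw [e]
    refine (orderOf_map_dvd _ s).trans ((orderOf_dvd_natCard s).trans ?_)
    rw [Nat.card_units, Nat.card_eq_fintype_card, show Fintype.card F = 8 from hF]

include hF in
theorem three_not_dvd : ¬ 3 ∣ Nat.card (S F) := not_three_dvd_card le_rfl hF

include hF in
theorem no_composite (g : S F) {n : ℕ} (hn : n ∈ [26, 35, 65, 91, 10, 14]) : orderOf g ≠ n := by
  intro e
  rcases orders_S hF g with ⟨k, hk⟩ | h | h | h
  · rw [e] at hk
    have hodd : ∃ p : ℕ, p.Prime ∧ p ≠ 2 ∧ p ∣ n := by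
      fin_cases hn
      exacts [⟨13, by norm_num⟩, ⟨5, by norm_num⟩, ⟨5, by norm_num⟩, ⟨7, by norm_num⟩, ⟨5, by norm_num⟩,
        ⟨7, by norm_num⟩]
    obtain ⟨p, hp, hp2, hpn⟩ := hodd
    exact hp2 ((Nat.prime_dvd_prime_iff_eq hp Nat.prime_two).1 (hp.dvd_of_dvd_pow (hk ▸ hpn)))
  all_goals
    rw [e] at h
    fin_cases hn <;> norm_num at h

/-- Powers of a root of `X^4 + c X^3 + b X^2 + a X + 1` over two elements. -/
def red4 (a b c : ZMod 2) : ℕ → ZMod 2 × ZMod 2 × ZMod 2 × ZMod 2
  | 0 => (1, 0, 0, 0)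
  | k + 1 => match red4 a b c k with
    | (p, q, r, s) => (s, p + s * a, q + s * b, r + s * c)

theorem red4_good : ∀ a b c : ZMod 2, a + b + c = 1 → red4 a b c 30 = (1, 0, 0, 0) := by decide +kernel

theorem red4_spec (ι : ZMod 2 →+* F) (a b c : ZMod 2) (g : M4)
    (hg : g ^ 4 = 1 + ι a • g + ι b • g ^ 2 + ι c • g ^ 3) (k : ℕ) :
    g ^ k = ι (red4 a b c k).1 • 1 + ι (red4 a b c k).2.1 • g + ι (red4 a b c k).2.2.1 • g ^ 2 +
      ι (red4 a b c k).2.2.2 • g ^ 3 := by
  induction k with
  | zero => simp [red4]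
  | succ k ih =>
    rw [pow_succ, ih]
    simp only [add_mul, smul_mul_assoc, one_mul, ← sq, ← pow_succ]
    rw [hg]
    simp only [red4, map_add, map_mul]
    module

include hF in
/-- An element of `Sz(8)` with all entries fixed by squaring has order prime to `7` and `13`. -/
theorem not_fixed {g : S F} {r : ℕ} (hr : r = 7 ∨ r = 13) (hg : orderOf g = r) : sigma hF g ≠ g := by
  classical
  intro e
  have hA : (mt g).map (frobenius F 2) = mt g := (mt_sigma hF g).symm.trans (congrArg mt e)
  set A := mt g with hAdef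
  have hc : ∀ i, A.charpoly.coeff i = 0 ∨ A.charpoly.coeff i = 1 := fun i => by
    have h := congrArg (fun p : Polynomial F => p.coeff i) (Matrix.charpoly_map A (frobenius F 2))
    simp only [hA, Polynomial.coeff_map, frobenius_def] at h
    have : A.charpoly.coeff i * (A.charpoly.coeff i - 1) = 0 := by linear_combination -h
    exact (mul_eq_zero.1 this).imp_right sub_eq_zero.1
  have hd : A.charpoly.natDegree = 4 := by rw [A.charpoly_natDegree_eq_dim]; rfl
  have h4 : A.charpoly.coeff 4 = 1 := A.charpoly_monic.coeff_natDegree ▸ congrArg A.charpoly.coeff hd.symm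
  have h0 : A.charpoly.coeff 0 = 1 := by
    have := A.det_eq_sign_charpoly_coeff
    rw [Fintype.card_fin, show A.det = 1 from g.1.2] at this
    norm_num at this
    exact this.symm
  -- no eigenvalue one
  have h1 : A.charpoly.eval 1 ≠ 0 := by
    intro h
    rw [Matrix.eval_charpoly, map_one] at h
    obtain ⟨v, hv, hv0⟩ := Matrix.exists_mulVec_eq_zero_iff.2 h
    rw [Matrix.sub_mulVec, Matrix.one_mulVec, sub_eq_zero] at hv0
    have hodd : Odd r := by rcases hr with rfl | rfl <;> decide
    have := CfsgLib.Recog.Suz.eq_one_of_fixes (m := 1 + 1) rfl (toGLHom_mem le_rfl hF g) hodd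
      (by rw [← map_pow, ← hg, pow_orderOf_eq_one, map_one]) hv hv0.symm
    have := toGLHom_injective (this.trans (map_one _).symm)
    rw [this, orderOf_one] at hg
    omega
  rw [Polynomial.eval_eq_sum_range, hd] at h1
  simp only [Finset.sum_range_succ, Finset.sum_range_zero, one_pow, mul_one, zero_add, h0, h4] at h1
  have hCH := A.aeval_self_charpoly
  rw [Polynomial.aeval_eq_sum_range, hd] at hCH
  simp only [Finset.sum_range_succ, Finset.sum_range_zero, zero_add, pow_zero, pow_one, h0, h4, one_smul] at hCH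
  have key : A ^ 30 = 1 := by
    let ι : ZMod 2 →+* F := ZMod.castHom dvd_rfl F
    have hι : ∀ i, ∃ d : ZMod 2, ι d = A.charpoly.coeff i := fun i => by
      rcases hc i with h | h
      · exact ⟨0, by rw [map_zero, h]⟩
      · exact ⟨1, by rw [map_one, h]⟩
    obtain ⟨d1, e1⟩ := hι 1
    obtain ⟨d2, e2⟩ := hι 2
    obtain ⟨d3, e3⟩ := hι 3
    rw [← e1, ← e2, ← e3] at hCH h1
    have hd : d1 + d2 + d3 = 1 := by
      by_contra hne
      refine h1 ?_
      have h0' : d1 + d2 + d3 = 0 := by
        generalize d1 + d2 + d3 = x at hne ⊢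
        revert hne; revert x; decide
      have h := congrArg ι h0'
      simp only [map_add, map_zero] at h
      linear_combination h + CharTwo.two_eq_zero (R := F)
    have h30 : red4 d1 d2 d3 30 = (1, 0, 0, 0) := red4_good d1 d2 d3 hd
    have hs := red4_spec ι d1 d2 d3 A ?_ 30
    · rw [h30] at hs; simpa using hs
    · have hsub : ∀ X : M4, -X = X := fun X => by ext i j; exact CharTwo.neg_eq _
      conv_lhs => rw [eq_neg_of_add_eq_zero_right hCH, hsub]
  have := orderOf_dvd_of_pow_eq_one (x := A) key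
  rw [hAdef, orderOf_injective _ mt_injective, hg] at this
  rcases hr with rfl | rfl <;> norm_num at this

/-! ### The module -/

/-- The tensor product of the natural module with its twist. -/
def rho (g : S F) (X : M4) : M4 := mt g * X * ((mt g).map (frobenius F 2))ᵀ

theorem rho_one (X : M4) : rho (1 : S F) X = X := by
  rw [rho, map_one, Matrix.map_one _ (map_zero _) (map_one _), Matrix.transpose_one, one_mul, mul_one]

theorem rho_mul (g g' : S F) (X : M4) : rho (g * g') X = rho g (rho g' X) := by
  simp only [rho, map_mul, Matrix.map_mul, Matrix.transpose_mul, mul_assoc]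

theorem rho_add (g : S F) (X Y : M4) : rho g (X + Y) = rho g X + rho g Y := by
  simp only [rho, mul_add, add_mul]

/-- The induced module. -/
def Ind : AddSubgroup (C hF → M4) where
  carrier := {f | ∀ (h : S F) (x : C hF), f (SemidirectProduct.inl h * x) = rho h (f x)}
  zero_mem' h x := by simp [rho]
  add_mem' {f f'} hf hf' h x := by simp only [Pi.add_apply, hf h x, hf' h x, rho_add]
  neg_mem' {f} hf h x := by simp only [Pi.neg_apply, hf h x, rho, mul_neg, neg_mul]

noncomputable instance : DistribMulAction (C hF) (Ind hF) where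
  smul c f := ⟨fun x => f.1 (x * c), fun h x => by
    show f.1 (SemidirectProduct.inl h * x * c) = rho h (f.1 (x * c))
    rw [mul_assoc]; exact f.2 h (x * c)⟩
  one_smul f := Subtype.ext (funext fun x => by show f.1 (x * 1) = f.1 x; rw [mul_one])
  mul_smul c d f := Subtype.ext (funext fun x => by
    show f.1 (x * (c * d)) = f.1 (x * c * d); rw [mul_assoc])
  smul_zero _ := rfl
  smul_add _ _ _ := rfl

theorem smul_apply (c : C hF) (f : Ind hF) (x : C hF) : (c • f).1 x = f.1 (x * c) := rfl

instance : Finite (Ind hF) := inferInstanceAs (Finite (Ind hF : Set (C hF → M4)))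

theorem two_smul_ind (f : Ind hF) : 2 • f = 0 :=
  Subtype.ext (funext fun x => Matrix.ext fun i j => by
    show 2 • (f.1 x i j) = 0
    rw [two_nsmul, CharTwo.add_self_eq_zero])

/-- Elements of order `13` fix nothing. -/
theorem fpf (h : S F) (hh : orderOf h = 13) (f : Ind hF)
    (hf : (SemidirectProduct.inl h : C hF) • f = f) : f = 0 := by
  refine Subtype.ext (funext fun x => ?_)
  set h' := x.left * ((Subgroup.zpowers (sigma hF)).subtype x.right h) * x.left⁻¹
  have e : x * SemidirectProduct.inl h = SemidirectProduct.inl h' * x := by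
    ext
    · simp [h', SemidirectProduct.mul_left, mul_assoc]
    · simp [SemidirectProduct.mul_right]
  have ho : orderOf h' = 13 := by
    rw [show h' = MulAut.conj x.left ((Subgroup.zpowers (sigma hF)).subtype x.right h) from rfl,
      MulEquiv.orderOf_eq, MulEquiv.orderOf_eq, hh]
  have h1 : f.1 (x * SemidirectProduct.inl h) = f.1 x := congrArg (fun u : Ind hF => u.1 x) hf
  rw [e, f.2] at h1
  refine fpf_thirteen (F := F) (hF : Fintype.card F = 8) ?_ ?_ h1
  · rw [← map_pow, ← ho, pow_orderOf_eq_one, map_one]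
  · intro e1
    rw [mt_injective (e1.trans (map_one _).symm), orderOf_one] at ho
    omega

/-- A fixed vector of an element of `Sz(8)` gives one in the induced module. -/
theorem exists_fixed (g : S F) {X : M4} (hX : X ≠ 0) (hg : rho g X = X) :
    ∃ f : Ind hF, f ≠ 0 ∧ (SemidirectProduct.inl g : C hF) • f = f := by
  classical
  refine ⟨⟨fun x => if x.right = 1 then rho x.left X else 0, fun h x => ?_⟩, fun e => hX ?_, ?_⟩
  · simp only [SemidirectProduct.mul_right, SemidirectProduct.right_inl, one_mul, SemidirectProduct.mul_left,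
      SemidirectProduct.left_inl, map_one, MulAut.one_apply]
    split_ifs
    · rw [rho_mul]
    · simp [rho]
  · have h := congrArg (fun u : Ind hF => u.1 1) e
    simpa [rho_one] using h
  · refine Subtype.ext (funext fun x => ?_)
    simp only [smul_apply, SemidirectProduct.mul_right, SemidirectProduct.right_inl, mul_one,
      SemidirectProduct.mul_left, SemidirectProduct.left_inl]
    split_ifs with h
    · rw [h, map_one, MulAut.one_apply, rho_mul, hg]
    · rfl

/-- The group. -/
abbrev G : Type := Multiplicative (Ind hF) ⋊[mulAutOfAction (C hF) (Ind hF)] C hF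

instance : Finite (G hF) := Finite.of_equiv _ SemidirectProduct.equivProd.symm

theorem orderOf_G (x : G hF) : orderOf x = orderOf x.right ∨
    (orderOf x = 2 * orderOf x.right ∧
      ∃ f : Ind hF, f ≠ 0 ∧ x.right • f = f) := by
  rcases orderOf_semidirect Nat.prime_two (two_smul_ind hF) x with ⟨-, h⟩ | ⟨hne, h⟩
  · exact Or.inl h
  · refine Or.inr ⟨h, _, hne, ?_⟩
    rw [Finset.smul_sum]
    simp only [smul_smul, ← pow_succ']
    have hsucc := Finset.sum_range_succ' (fun i => x.right ^ i • x.left.toAdd) (orderOf x.right)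
    rw [Finset.sum_range_succ, pow_orderOf_eq_one, pow_zero] at hsucc
    exact (add_right_cancel hsucc).symm

theorem exists_double (c : C hF) (hodd : Odd (orderOf c)) (f : Ind hF) (hf : f ≠ 0) (hc : c • f = f) :
    ∃ x : G hF, orderOf x = 2 * orderOf c := by
  refine ⟨⟨Multiplicative.ofAdd f, c⟩, ?_⟩
  have hfix : ∀ i, c ^ i • f = f := fun i => by
    induction i with
    | zero => simp
    | succ i ih => rw [pow_succ, mul_smul, hc, ih]
  rcases orderOf_semidirect Nat.prime_two (two_smul_ind hF) (⟨Multiplicative.ofAdd f, c⟩ : G hF) with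
    ⟨h0, -⟩ | ⟨-, h⟩
  · obtain ⟨k, hk⟩ := hodd
    simp only [toAdd_ofAdd, hfix, Finset.sum_const, Finset.card_range] at h0
    rw [hk, add_smul, one_smul, mul_smul, two_nsmul, ← two_nsmul, two_smul_ind hF, zero_add] at h0
    exact absurd h0 hf
  · exact h

theorem right_one_orderOf {c : C hF} (h : c.right = 1) : orderOf c = orderOf c.left := by
  have : c = SemidirectProduct.inl c.left := SemidirectProduct.ext (by simp) (by simp [h])
  conv_lhs => rw [this]
  exact orderOf_injective _ SemidirectProduct.inl_injective c.left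

theorem right_one {c : C hF} {n : ℕ} (hn : Nat.Coprime n 3) (hc : c ^ n = 1) : c.right = 1 := by
  rw [← orderOf_eq_one_iff]
  refine Nat.eq_one_of_dvd_coprimes hn ?_ ?_
  · exact orderOf_dvd_of_pow_eq_one (by rw [← SemidirectProduct.rightHom_eq_right, ← map_pow, hc, map_one])
  · exact (orderOf_dvd_natCard _).trans (card_T hF).dvd

/-- No order `21` or `39` outside. -/
theorem no_coset {r : ℕ} (hr : r = 7 ∨ r = 13) (c : C hF) : orderOf c ≠ 3 * r := by
  intro hc
  haveI : Fact (Nat.Prime 3) := ⟨Nat.prime_three⟩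
  set a := c ^ r
  set b := c ^ 3
  have hr0 : r ≠ 0 := by omega
  have ha : orderOf a = 3 := by
    rw [orderOf_pow, hc, Nat.gcd_eq_right (dvd_mul_left r 3), Nat.mul_div_cancel _ (Nat.pos_of_ne_zero hr0)]
  have hb : orderOf b = r := by
    rw [orderOf_pow, hc, Nat.gcd_eq_right (dvd_mul_right 3 r), Nat.mul_div_cancel_left _ (by norm_num)]
  let Q : Subgroup (C hF) := (SemidirectProduct.inr : T hF →* C hF).range
  have hQ : Nat.card Q = 3 := by
    rw [← Nat.card_congr (MonoidHom.ofInjective (SemidirectProduct.inr_injective (φ := (Subgroup.zpowers (sigma hF)).subtype))).toEquiv, card_T]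
  have hA : Nat.card (Subgroup.zpowers a) = 3 := by rw [Nat.card_zpowers, ha]
  have hfac : (Nat.card (C hF)).factorization 3 = 1 := by
    rw [SemidirectProduct.card, card_T, Nat.factorization_mul Nat.card_pos.ne' (by norm_num), Finsupp.add_apply,
      Nat.factorization_eq_zero_of_not_dvd (three_not_dvd hF), Nat.Prime.factorization_self Nat.prime_three]
  let PA : Sylow 3 (C hF) := Sylow.ofCard (Subgroup.zpowers a) (by rw [hA, hfac, pow_one])
  let PQ : Sylow 3 (C hF) := Sylow.ofCard Q (by rw [hQ, hfac, pow_one])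
  obtain ⟨k, hk⟩ := MulAction.exists_smul_eq (C hF) PA PQ
  have hmem : k * a * k⁻¹ ∈ Q := by
    have : k * a * k⁻¹ ∈ ((k • PA : Sylow 3 (C hF)) : Subgroup (C hF)) := by
      rw [Sylow.coe_subgroup_smul]
      exact Subgroup.smul_mem_pointwise_smul a (MulAut.conj k) _ (Subgroup.mem_zpowers a)
    rwa [hk] at this
  obtain ⟨t, ht⟩ := hmem
  have ht3 : orderOf t = 3 := by
    rw [← orderOf_injective (SemidirectProduct.inr : T hF →* C hF) SemidirectProduct.inr_injective t, ht]
    exact ((MulAut.conj k).orderOf_eq a).trans ha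
  set y := k * b * k⁻¹
  have hy : orderOf y = r := ((MulAut.conj k).orderOf_eq b).trans hb
  have hy1 : y.right = 1 :=
    right_one hF (n := r) (by rcases hr with rfl | rfl <;> decide) (by rw [← hy]; exact pow_orderOf_eq_one y)
  have hcm : SemidirectProduct.inr t * y = y * SemidirectProduct.inr t := by
    rw [ht]
    exact ((((Commute.refl c).pow_pow r 3)).map (MulAut.conj k).toMonoidHom).eq
  have hfix : (Subgroup.zpowers (sigma hF)).subtype t y.left = y.left := by
    have := congrArg SemidirectProduct.left hcm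
    simpa [SemidirectProduct.mul_left, hy1] using this
  refine not_fixed hF hr (g := y.left) (by rw [← right_one_orderOf hF hy1, hy]) ?_
  have hgen : sigma hF ∈ Subgroup.zpowers (t : MulAut (S F)) := by
    have e : Subgroup.zpowers (t : MulAut (S F)) = Subgroup.zpowers (sigma hF) :=
      Subgroup.eq_of_le_of_card_ge (Subgroup.zpowers_le.2 t.2) (by
        rw [Nat.card_zpowers, Nat.card_zpowers, Subgroup.orderOf_coe, ht3, orderOf_sigma])
    rw [e]; exact Subgroup.mem_zpowers _
  have hst : Subgroup.zpowers (t : MulAut (S F)) ≤ MulAction.stabilizer (MulAut (S F)) y.left :=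
    Subgroup.zpowers_le.2 hfix
  exact hst hgen

theorem bad_not_mem {n : ℕ} (hn : n ∈ [21, 35, 26, 39, 65, 91]) (x : G hF) : orderOf x ≠ n := by
  intro hx
  have hC : ∀ (c : C hF) (m : ℕ), m ∈ [26, 35, 65, 91, 10, 14] → Nat.Coprime m 3 → orderOf c ≠ m := fun c m hm hm3 e =>
    no_composite hF c.left hm (by rw [← right_one_orderOf hF (right_one hF hm3 (e ▸ pow_orderOf_eq_one c))]; exact e)
  rcases orderOf_G hF x with h | ⟨h, f, hf0, hf⟩
  · rw [hx] at h
    fin_cases hn
    · exact no_coset hF (Or.inl rfl) x.right h.symm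
    · exact hC x.right 35 (by simp) (by decide) h.symm
    · exact hC x.right 26 (by simp) (by decide) h.symm
    · exact no_coset hF (Or.inr rfl) x.right h.symm
    · exact hC x.right 65 (by simp) (by decide) h.symm
    · exact hC x.right 91 (by simp) (by decide) h.symm
  · rw [hx] at h
    have h26 : n = 26 := by
      fin_cases hn <;> first | rfl | omega
    subst h26
    have ho : orderOf x.right = 13 := by omega
    have hr1 := right_one hF (n := 13) (by decide) (by rw [← ho]; exact pow_orderOf_eq_one x.right)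
    have e : x.right = SemidirectProduct.inl x.right.left := SemidirectProduct.ext (by simp) (by simp [hr1])
    exact hf0 (fpf hF x.right.left (by rw [← right_one_orderOf hF hr1, ho]) f (by rw [← e]; exact hf))

/-- Orders are built from `2, 3, 5, 7, 13`. -/
theorem prime_mem {p : ℕ} (hp : p.Prime) (hd : p ∣ Nat.card (G hF)) : p ∈ [2, 3, 5, 7, 13] := by
  haveI := Fact.mk hp
  obtain ⟨x, hx⟩ := exists_prime_orderOf_dvd_card' p hd
  by_cases h2 : p = 2
  · simp [h2]
  by_cases h3 : p = 3
  · simp [h3]
  rcases orderOf_G hF x with h | ⟨h, -⟩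
  · have h1 := right_one hF (c := x.right) (n := p) ((Nat.coprime_primes hp Nat.prime_three).2 h3)
      (by rw [← hx, h]; exact pow_orderOf_eq_one x.right)
    rw [hx] at h
    have ho : orderOf x.right.left = p := by rw [← right_one_orderOf hF h1, ← h]
    rcases orders_S hF x.right.left with ⟨k, hk⟩ | h' | h' | h'
    · exact absurd ((Nat.prime_dvd_prime_iff_eq hp Nat.prime_two).1 (hp.dvd_of_dvd_pow (by rw [← hk, ho]))) h2
    all_goals
      rw [ho] at h'
      have := (Nat.prime_dvd_prime_iff_eq hp (by norm_num)).1 h'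
      simp [this]
  · exact absurd ((Nat.prime_dvd_prime_iff_eq Nat.prime_two hp).1 (hx ▸ h ▸ dvd_mul_right 2 _)).symm h2

/-! ### Witnesses -/

/-- An element of order five with entries zero and one. -/
def g5Mat : M4 := KnownB.SzW.zMat 4 1 * KnownB.SzW.wMat F

include hF in
theorem exists_five : ∃ g : S F, orderOf g = 5 ∧ sigma hF g = g := by
  set h := thSq_of_card hF
  let g : S F := wG h * tG h 0 1
  have hmt : mt g = (!![0, 0, 0, 1; 0, 0, 1, 0; 0, 1, 0, 1; 1, 0, 1, 1] : Matrix (Fin 4) (Fin 4) (ZMod 2)).map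
      (ZMod.castHom dvd_rfl F) := by
    show (wSL F).1 * tMat 1 0 1 = _
    ext i j
    fin_cases i <;> fin_cases j <;> simp [wSL, tMat, th_def, Matrix.mul_apply, Fin.sum_univ_four]
  haveI : Fact (Nat.Prime 5) := ⟨by norm_num⟩
  refine ⟨g, orderOf_eq_prime (mt_injective ?_) (fun e => ?_), mt_injective ?_⟩
  · rw [map_pow, hmt, ← Matrix.map_pow, map_one, (by decide +kernel :
      (!![0, 0, 0, 1; 0, 0, 1, 0; 0, 1, 0, 1; 1, 0, 1, 1] : Matrix (Fin 4) (Fin 4) (ZMod 2)) ^ 5 = 1),
      Matrix.map_one _ (map_zero _) (map_one _)]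
  · have := congrArg (fun A : M4 => A 0 0) (hmt.symm.trans ((congrArg mt e).trans (map_one mt)))
    simp at this
  · rw [mt_sigma, hmt, Matrix.map_map]
    congr 1
    funext x
    rcases (show ∀ y : ZMod 2, y = 0 ∨ y = 1 by decide) x with rfl | rfl <;> simp only [Function.comp_apply, map_zero, map_one]

include hF in
theorem fixed_of_sigma {g : S F} (hg : sigma hF g = g) : rho g (CfsgLib.Recog.Suz.jMat F) = CfsgLib.Recog.Suz.jMat F := by
  rw [rho, ← mt_sigma hF, hg]
  exact CfsgLib.Recog.Suz.isSymp_transpose (isSymp_of_mem_sz le_rfl hF g.2)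

theorem jMat_ne : CfsgLib.Recog.Suz.jMat F ≠ 0 := fun e => by
  simpa [CfsgLib.Recog.Suz.jMat] using congrFun (congrFun e 0) 3

include hF in
theorem exists_seven : ∃ (g : S F) (X : M4), orderOf g = 7 ∧ X ≠ 0 ∧ rho g X = X := by
  obtain ⟨s, hs⟩ := exists_unit hF
  haveI : Fact (Nat.Prime 7) := ⟨by norm_num⟩
  have hs7 : orderOf s = 7 := by
    refine ((Nat.dvd_prime (by norm_num)).1 ?_).resolve_left (fun e => hs (orderOf_eq_one_iff.1 e))
    refine (orderOf_dvd_natCard s).trans ?_
    rw [Nat.card_units, Nat.card_eq_fintype_card, show Fintype.card F = 8 from hF]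
  refine ⟨hG (thSq_of_card hF) s, Matrix.single 0 1 1, ?_, fun e => ?_, ?_⟩
  · rw [orderOf_injective _ ?_ s, hs7]
    intro a b e
    have := congrArg (fun A : M4 => A 1 1) (congrArg mt e)
    exact Units.ext (by simpa [mt, hG, hHom, hSL, Suzuki.hMat] using this)
  · simpa using congrFun (congrFun e 0) 1
  · have h7 : (s : F) ^ 7 = 1 := by
      rw [← Units.val_pow_eq_pow_val, ← hs7, pow_orderOf_eq_one, Units.val_one]
    show Suzuki.hMat 1 (s : F) * Matrix.single 0 1 1 * ((Suzuki.hMat 1 (s : F)).map (frobenius F 2))ᵀ = _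
    rw [Suzuki.hMat, Matrix.diagonal_map (map_zero _), Matrix.diagonal_transpose]
    ext i j
    rw [Matrix.mul_diagonal, Matrix.diagonal_mul]
    by_cases hij : i = 0 ∧ j = 1
    · obtain ⟨rfl, rfl⟩ := hij
      simp [th_def, frobenius_def, ← pow_succ, ← pow_add, h7]
    · rw [Matrix.single_apply_of_ne (h := fun h => hij ⟨h.1.symm, h.2.symm⟩)]
      simp

theorem exists_good {n : ℕ} (hn : n ∈ [6, 10, 14, 15]) : ∃ x : G hF, orderOf x = n := by
  haveI : Fact (Nat.Prime 2) := ⟨Nat.prime_two⟩
  haveI : Fact (Nat.Prime 3) := ⟨Nat.prime_three⟩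
  let tau : T hF := ⟨sigma hF, Subgroup.mem_zpowers _⟩
  have htau : orderOf tau = 3 := (Subgroup.orderOf_mk _ _).trans (orderOf_sigma hF)
  obtain ⟨g5, h5, h5f⟩ := exists_five hF
  obtain ⟨g7, X, h7, hX, h7f⟩ := exists_seven hF
  have hmix : ∀ g : S F, sigma hF g = g → (orderOf g).Coprime 3 →
      ∃ x : G hF, orderOf x = orderOf g * 3 := fun g hg hcop => by
    refine ⟨SemidirectProduct.inr (SemidirectProduct.inl g * SemidirectProduct.inr tau), ?_⟩
    rw [orderOf_injective _ SemidirectProduct.inr_injective, Commute.orderOf_mul_eq_mul_orderOf_of_coprime,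
      orderOf_injective _ SemidirectProduct.inl_injective, orderOf_injective _ SemidirectProduct.inr_injective, htau]
    · show _ * _ = _ * _
      ext <;> simp [SemidirectProduct.mul_left, SemidirectProduct.mul_right, tau, hg]
    · rwa [orderOf_injective _ SemidirectProduct.inl_injective, orderOf_injective _ SemidirectProduct.inr_injective,
        htau]
  fin_cases hn
  · have hw : sigma hF (wG (thSq_of_card hF)) = wG (thSq_of_card hF) := mt_injective (by
      rw [mt_sigma]
      show (wSL F).1.map (frobenius F 2) = (wSL F).1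
      ext i j
      fin_cases i <;> fin_cases j <;> simp [wSL])
    have hw2 : orderOf (wG (thSq_of_card hF)) = 2 := by
      refine orderOf_eq_prime (mt_injective ?_) (fun e => ?_)
      · show mt (wG (thSq_of_card hF) ^ 2) = mt 1
        rw [map_pow, map_one, sq]
        show (wSL F).1 * (wSL F).1 = 1
        ext i j
        fin_cases i <;> fin_cases j <;> simp [wSL, Matrix.mul_apply, Fin.sum_univ_four]
      · have := congrArg (fun u : S F => u.1.1 0 0) e
        simp [wG, wSL] at this
    obtain ⟨x, hx⟩ := hmix _ hw (by rw [hw2]; decide)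
    exact ⟨x, by rw [hx, hw2]⟩
  · obtain ⟨f, hf0, hf⟩ := exists_fixed hF g5 (jMat_ne) (fixed_of_sigma hF h5f)
    obtain ⟨x, hx⟩ := exists_double hF (SemidirectProduct.inl g5)
      (by rw [orderOf_injective _ SemidirectProduct.inl_injective, h5]; decide) f hf0 hf
    exact ⟨x, by rw [hx, orderOf_injective _ SemidirectProduct.inl_injective, h5]⟩
  · obtain ⟨f, hf0, hf⟩ := exists_fixed hF g7 hX h7f
    obtain ⟨x, hx⟩ := exists_double hF (SemidirectProduct.inl g7)
      (by rw [orderOf_injective _ SemidirectProduct.inl_injective, h7]; decide) f hf0 hf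
    exact ⟨x, by rw [hx, orderOf_injective _ SemidirectProduct.inl_injective, h7]⟩
  · obtain ⟨x, hx⟩ := hmix g5 h5f (by rw [h5]; decide)
    exact ⟨x, by rw [hx, h5]⟩

theorem dvd_thirteen : 13 ∣ Nat.card (G hF) := by
  refine dvd_trans ?_ (Subgroup.card_dvd_of_injective
    ((SemidirectProduct.inr : C hF →* G hF).comp SemidirectProduct.inl)
    (SemidirectProduct.inr_injective.comp SemidirectProduct.inl_injective))
  rw [card_sz le_rfl hF, show Fintype.card F = 8 from hF]
  norm_num

end CfsgLib.KnownC.Spec.SzEight
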