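import Mathlib

/-!
Data for `SU₃(4)`: a computable field with sixteen elements, the isotropic points, and a submodule of the
permutation module over five elements.
-/

set_option autoImplicit false
set_option maxRecDepth 100000

namespace CfsgLib.KnownC.Spec.UFour

/-- A field with sixteen elements, `x ^ 4 = x + 1`. -/
structure K where
  /-- The code. -/
  v : Fin 16
deriving DecidableEq

namespace K

/-- The multiplication table, four bits an entry. -/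
def mulRows : List ℕ := [0, 18364758544493064720, 16112567834934535200, 2398146510454543920, 11319144720916269120, 7190301088718256720, 4796044659625012320, 13569983039165931120, 1813401767952954240, 16714764584102298000, 14317269079835989920, 4066067423308735920, 9529565590517545920, 8855039980955847120, 6603550811139940320, 11923346953555488240]

/-- Product of codes. -/
def mulCode (a b : Fin 16) : Fin 16 :=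
  ⟨(mulRows.getD a.1 0 >>> (4 * b.1)) % 16, Nat.mod_lt _ (by norm_num)⟩

instance : Fintype K := Fintype.ofEquiv (Fin 16) ⟨fun v => ⟨v⟩, fun x => x.v, fun _ => rfl, fun _ => rfl⟩
instance : Zero K := ⟨⟨0⟩⟩
instance : Inhabited K := ⟨0⟩
instance : One K := ⟨⟨1⟩⟩
instance : Add K := ⟨fun a b => ⟨⟨(a.v.1 ^^^ b.v.1) % 16, Nat.mod_lt _ (by norm_num)⟩⟩⟩
instance : Neg K := ⟨fun a => a⟩
instance : Mul K := ⟨fun a b => ⟨mulCode a.v b.v⟩⟩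
instance : Inv K := ⟨fun a => ⟨⟨(9460475325918865680 >>> (4 * a.v.1)) % 16, Nat.mod_lt _ (by norm_num)⟩⟩⟩

instance instField : Field K where
  add_assoc := by decide +kernel
  zero_add := by decide +kernel
  add_zero := by decide +kernel
  add_comm := by decide +kernel
  neg_add_cancel := by decide +kernel
  nsmul := nsmulRec
  zsmul := zsmulRec
  mul_assoc := by decide +kernel
  one_mul := by decide +kernel
  mul_one := by decide +kernel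
  zero_mul := by decide +kernel
  mul_zero := by decide +kernel
  left_distrib := by decide +kernel
  right_distrib := by decide +kernel
  mul_comm := by decide +kernel
  exists_pair_ne := ⟨0, 1, by decide⟩
  mul_inv_cancel := by decide +kernel
  inv_zero := by decide +kernel
  nnqsmul := _
  qsmul := _

theorem card_eq : Fintype.card K = 16 := by decide +kernel

/-- An element from its code. -/
def of (n : ℕ) : K := ⟨⟨n % 16, Nat.mod_lt _ (by norm_num)⟩⟩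

end K

/-- A vector. -/
abbrev Vec : Type := K × K × K

/-- A matrix, by rows. -/
abbrev Mat : Type := Vec × Vec × Vec

/-- Dot product. -/
def dot (r v : Vec) : K := r.1 * v.1 + r.2.1 * v.2.1 + r.2.2 * v.2.2

/-- Matrix times vector. -/
def app (g : Mat) (v : Vec) : Vec := (dot g.1 v, dot g.2.1 v, dot g.2.2 v)

/-- Scalar times vector. -/
def scale (c : K) (v : Vec) : Vec := (c * v.1, c * v.2.1, c * v.2.2)

/-- The Hermitian value for the antidiagonal form. -/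
def herm (v : Vec) : K := v.1 * v.2.2 ^ 4 + v.2.1 * v.2.1 ^ 4 + v.2.2 * v.1 ^ 4

/-- Codes of the isotropic points `(1, a, b)`. -/
def ptCodes : List (ℕ × ℕ) := [(0, 0), (0, 1), (0, 6), (0, 7), (1, 2), (1, 3), (1, 4), (1, 5), (2, 10), (2, 11), (2, 12), (2, 13), (3, 10), (3, 11), (3, 12), (3, 13), (4, 8), (4, 9), (4, 14), (4, 15), (5, 8), (5, 9), (5, 14), (5, 15), (6, 8), (6, 9), (6, 14), (6, 15), (7, 10), (7, 11), (7, 12), (7, 13), (8, 2), (8, 3), (8, 4), (8, 5), (9, 8), (9, 9), (9, 14), (9, 15), (10, 2), (10, 3), (10, 4), (10, 5), (11, 10), (11, 11), (11, 12), (11, 13), (12, 2), (12, 3), (12, 4), (12, 5), (13, 10), (13, 11), (13, 12), (13, 13), (14, 8), (14, 9), (14, 14), (14, 15), (15, 2), (15, 3), (15, 4), (15, 5)]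

/-- The isotropic points. -/
def pts (i : Fin 65) : Vec :=
  if i.1 < 64 then (1, K.of (ptCodes.getD i.1 (0, 0)).1, K.of (ptCodes.getD i.1 (0, 0)).2) else (0, 0, 1)

/-- Index table. -/
def idxRows : List ℕ := [216735732067205376, 7722435346432, 223901582301805967062007124328448, 305349376142212269946961903222784, 25348793263367109057863997042573967360, 30686474433940930823246255042431287296, 36024155604514752588628513042288607232, 631140551503837481486781018800128, 38629491605504, 52037199116236217884775287041860567040, 47460079108096, 956931726865462693026600134377472, 56290666610688, 1119827314546275298796509692166144, 78725604969105326711686577041147166720, 69536547864576]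

/-- The index of the point of an isotropic vector. -/
def idx (v : Vec) : Fin 65 :=
  if v.1 = 0 then ⟨64, by norm_num⟩
  else ⟨((idxRows.getD ((v.1)⁻¹ * v.2.1).v.1 0) >>> (8 * ((v.1)⁻¹ * v.2.2).v.1)) % 256 % 65, Nat.mod_lt _ (by norm_num)⟩

theorem pts_isotropic : ∀ i, herm (pts i) = 0 ∧ pts i ≠ (0, 0, 0) := by decide +kernel

theorem idx_spec : ∀ x y z : K, herm (x, y, z) = 0 → (x, y, z) ≠ (0, 0, 0) →
    ∃ c : K, pts (idx (x, y, z)) = scale c (x, y, z) := by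
  decide +kernel

theorem idx_unique : ∀ (i : Fin 65) (c : K), c ≠ 0 → idx (scale c (pts i)) = i := by decide +kernel

/-- Generators: torus, Weyl element, two root elements. -/
def gens : List Mat :=
  [((K.of 2, 0, 0), (0, K.of 8, 0), (0, 0, K.of 14)),
   ((0, 0, 1), (0, 1, 0), (1, 0, 0)),
   ((1, 1, K.of 2), (0, 1, 1), (0, 0, 1)),
   ((1, 0, 1), (0, 1, 0), (0, 0, 1))]

/-- The permutation of a generator. -/
def permRows : List (List ℕ) := [[0, 3, 1, 2, 18, 17, 19, 16, 33, 34, 32, 35, 49, 50, 48, 51, 15, 12, 14, 13, 31, 28, 30, 29, 47, 44, 46, 45, 61, 62, 60, 63, 26, 25, 27, 24, 11, 8, 10, 9, 58, 57, 59, 56, 41, 42, 40, 43, 22, 21, 23, 20, 5, 6, 4, 7, 55, 52, 54, 53, 38, 37, 39, 36, 64], [64, 1, 3, 2, 37, 58, 55, 45, 46, 43, 28, 34, 30, 63, 52, 50, 39, 32, 49, 24, 27, 40, 61, 56, 19, 48, 41, 20, 10, 35, 12, 62, 17,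 38, 11, 29, 59, 4, 33, 16, 21, 26, 47, 9, 54, 7, 8, 42, 25, 18, 15, 53, 14, 51, 44, 6, 23, 60, 5, 36, 57, 22, 31, 13, 0], [0, 58, 45, 55, 17, 57, 25, 21, 9, 42, 20, 33, 48, 23, 53, 14, 11, 59, 6, 12, 35, 54, 5, 31, 40, 44, 7, 24, 52, 16, 43, 60, 56, 29, 50, 41, 22, 1, 4, 61, 49, 10, 47, 63, 18, 3, 30, 8, 62, 27, 28, 15, 34, 51, 26, 2, 39, 36, 64, 38, 13, 32, 19, 46, 37], [0, 64, 3, 2, 59, 36, 44, 54, 42, 47, 35, 29, 62, 31, 51, 53, 33, 38, 25, 48, 41, 26, 57, 60, 49, 18, 21, 40, 34, 11, 63, 13, 39, 16, 28, 10, 5, 58, 17, 32, 27, 20, 8, 46, 6, 55, 43, 9, 19, 24, 52, 14, 50, 15, 7, 45, 61, 22, 37, 4, 23, 56, 12, 30, 1]]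

theorem perm_spec : ∀ (g : Fin 4) (i : Fin 65),
    (idx (app (gens.getD g.1 default) (pts i))).1 = (permRows.getD g.1 []).getD i.1 0 := by
  decide +kernel

/-- Pivots of the submodule. -/
def piv : List ℕ := [0, 1, 2, 3, 4, 5, 6, 8, 9, 10, 12, 14, 16]

/-- A basis of the submodule. -/
def basisRows : List (List ℕ) := [[1, 0, 0, 0, 0, 0, 0, 1, 0, 0, 0, 1, 0, 3, 0, 3, 0, 1, 2, 3, 2, 4, 4, 1, 2, 0, 2, 2, 4, 2, 2, 3, 2, 1, 4, 4, 4, 1, 0, 1, 0, 0, 1, 0, 1, 1, 1, 3, 4, 4, 0, 3, 0, 4, 2, 0, 2, 4, 2, 3, 4, 0, 0, 2, 4], [0, 1, 0, 0, 0, 0, 0, 1, 0, 0, 0, 1, 0, 3, 0, 3, 0, 0, 4, 2, 0, 0, 4, 2, 2, 3, 2, 4, 2, 2, 2, 0, 1, 0, 2, 3, 3, 4, 2, 2, 0, 4, 1, 1, 3, 0, 0, 3, 4, 0, 0, 2, 0, 0, 3, 3, 0, 3, 3, 0, 0, 1, 2, 3, 4], [0, 0, 1, 0, 0, 0, 0, 1, 0, 0, 0, 1, 0, 0, 0, 1, 0, 2, 2, 2, 1, 3, 0, 2, 3, 1, 1, 1, 1, 1, 0, 4, 2, 4, 4, 1, 3,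 3, 1, 4, 4, 3, 2, 2, 4, 3, 3, 1, 4, 1, 0, 1, 0, 1, 2, 3, 3, 1, 1, 1, 0, 2, 4, 0, 4], [0, 0, 0, 1, 0, 0, 0, 1, 0, 0, 0, 1, 0, 0, 0, 1, 0, 4, 4, 3, 4, 2, 0, 0, 4, 4, 0, 3, 2, 4, 2, 3, 1, 4, 2, 4, 4, 3, 1, 3, 2, 2, 4, 3, 0, 0, 3, 3, 1, 2, 3, 0, 3, 1, 0, 2, 3, 2, 0, 1, 1, 2, 1, 2, 4], [0, 0, 0, 0, 1, 0, 0, 4, 0, 0, 0, 0, 0, 2, 0, 3, 0, 2, 3, 0, 2, 3, 1, 4, 3, 2, 0, 0, 1, 3, 4, 2, 2, 2, 4, 2, 3, 3, 0, 4, 3, 2, 3, 2, 2, 3, 3, 2, 1, 1, 0, 3, 2, 2, 3, 3, 2, 0, 1, 2, 3, 0, 3, 4, 0], [0, 0, 0, 0, 0, 1, 0, 4, 0, 0, 0, 0, 0, 2, 0, 3, 0, 1, 0, 4, 3, 1, 2, 4, 3, 0, 2, 0, 4, 3, 1, 2, 3, 4, 2, 1, 4, 4, 1, 1, 1, 3, 4, 2, 3, 3, 2, 2, 0, 3, 0, 2, 3, 2, 2, 3, 0, 4, 0, 1, 1, 4, 4, 1, 0], [0, 0, 0, 0, 0, 0, 1, 4, 0, 0, 0, 0, 0, 0, 0, 0, 0, 3, 3, 4, 1, 2, 2, 0, 2, 4, 1, 3, 2, 4, 3, 1, 1, 0, 0, 4, 0, 4, 3, 3, 1, 2, 0, 2, 4, 3, 1, 2, 3, 4, 3,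 0, 4, 3, 1, 2, 2, 2, 1, 0, 0, 4, 1, 0, 0], [0, 0, 0, 0, 0, 0, 0, 0, 1, 0, 0, 4, 0, 1, 0, 4, 0, 0, 0, 0, 3, 2, 0, 0, 0, 3, 3, 4, 2, 0, 1, 2, 4, 2, 1, 3, 3, 3, 1, 3, 0, 3, 2, 0, 2, 1, 2, 0, 4, 3, 0, 3, 0, 3, 2, 0, 4, 2, 1, 3, 2, 2, 2, 4, 0], [0, 0, 0, 0, 0, 0, 0, 0, 0, 1, 0, 4, 0, 1, 0, 4, 0, 3, 0, 2, 3, 0, 2, 0, 2, 2, 3, 3, 3, 0, 2, 0, 0, 2, 0, 3, 2, 3, 3, 2, 4, 2, 1, 3, 1, 4, 4, 1, 3, 1, 2, 4, 1, 4, 4, 1, 3, 2, 2, 3, 3, 0, 2, 0, 0], [0, 0, 0, 0, 0, 0, 0, 0, 0, 0, 1, 4, 0, 0, 0, 0, 0, 3, 0, 2, 3, 0, 0, 2, 0, 1, 3, 1, 4, 2, 4, 0, 1, 0, 4, 0, 3, 1, 1, 0, 1, 2, 1, 1, 3, 4, 1, 2, 3, 4, 1, 2, 3, 4, 4, 4, 4, 0, 1, 0, 0, 4, 4, 2, 0], [0, 0, 0, 0, 0, 0, 0, 0, 0, 0, 0, 0, 1, 4, 0, 0, 0, 3, 2, 0, 0, 3, 0, 2, 2, 4, 0, 4, 0, 1, 3, 1, 0, 1, 1, 3, 4, 0, 1, 0, 2, 1, 4, 3, 1, 1, 1, 2, 4, 3, 4, 4, 3, 4, 1, 2, 4, 0, 2, 4, 4, 0, 1, 0, 0],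 [0, 0, 0, 0, 0, 0, 0, 0, 0, 0, 0, 0, 0, 0, 1, 4, 0, 3, 2, 0, 3, 0, 2, 0, 1, 0, 1, 3, 4, 2, 4, 0, 2, 4, 4, 0, 0, 4, 0, 1, 2, 1, 4, 3, 3, 4, 4, 4, 1, 1, 2, 1, 3, 4, 1, 2, 1, 3, 0, 1, 0, 4, 0, 1, 0], [0, 0, 0, 0, 0, 0, 0, 0, 0, 0, 0, 0, 0, 0, 0, 0, 1, 1, 4, 4, 1, 1, 4, 4, 2, 2, 3, 3, 2, 2, 3, 3, 2, 2, 3, 3, 3, 3, 2, 2, 1, 1, 4, 4, 4, 4, 1, 1, 4, 4, 1, 1, 4, 4, 1, 1, 3, 3, 2, 2, 3, 3, 2, 2, 0]]

/-- A left inverse on the complement of the constants, for the element of order thirteen. -/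
def linvRows : List (List ℕ) := [[0, 0, 0, 0, 0, 0, 0, 0, 0, 0, 0, 0, 0], [4, 0, 3, 4, 1, 3, 1, 3, 2, 4, 1, 0, 0], [1, 4, 4, 3, 2, 0, 4, 2, 2, 3, 3, 1, 0], [4, 1, 3, 3, 2, 2, 0, 0, 1, 3, 1, 4, 0], [4, 2, 1, 2, 0, 1, 0, 0, 1, 2, 0, 3, 0], [0, 4, 3, 0, 4, 2, 0, 3, 0, 2, 1, 3, 0], [3, 0, 3, 4, 2, 3, 0, 1, 2, 3, 4, 0, 0], [0, 2, 0, 1, 4, 0, 1, 0, 1, 1, 4, 4, 0], [3, 3, 4, 1, 3, 0, 2, 3, 4, 1, 3, 3, 0], [0, 4, 3, 0, 4, 3, 0, 3, 0, 2, 1, 3, 0], [4, 1, 3, 4, 1, 3, 1, 3, 2, 4, 1, 0, 0], [0, 4, 4, 4, 0, 0, 0, 0, 0, 0, 0, 0, 0], [3, 1, 0, 3, 4, 4, 2, 4, 2, 4, 0, 0, 0]]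

end CfsgLib.KnownC.Spec.UFour
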