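import Cfsg.Agent.Lib.KnownC.Spec.UFourData
import Cfsg.Agent.Lib.PLocal.Order320Model
import Cfsg.Agent.Lib.Recog.SemidirectSpectrum

/-!
`SU₃(4)` on its isotropic points: element orders and a module in characteristic five on which elements of order
thirteen act without fixed points.
-/

set_option autoImplicit false
set_option maxRecDepth 100000

namespace CfsgLib.KnownC.Spec.UFour

open Matrix CfsgLib.PLocal.Order320 CfsgLib.Invol CfsgLib.Recog

/-- The group. -/
abbrev X : Type := ↥(antiSU K)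

/-- The matrix. -/
def mx : X →* Matrix (Fin 3) (Fin 3) K where
  toFun g := g.1.1
  map_one' := rfl
  map_mul' _ _ := rfl

theorem mx_injective : Function.Injective mx := fun _ _ h => Subtype.ext (Subtype.ext h)

/-- A vector as a triple. -/
def toV (x : Fin 3 → K) : Vec := (x 0, x 1, x 2)

/-- A triple as a vector. -/
def ofV (v : Vec) : Fin 3 → K := ![v.1, v.2.1, v.2.2]

theorem toV_ofV (v : Vec) : toV (ofV v) = v := rfl

theorem ofV_toV (x : Fin 3 → K) : ofV (toV x) = x := by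
  funext i; fin_cases i <;> rfl

/-- A matrix as rows. -/
def toMat (A : Matrix (Fin 3) (Fin 3) K) : Mat := (toV (A 0), toV (A 1), toV (A 2))

theorem toV_mulVec (A : Matrix (Fin 3) (Fin 3) K) (v : Vec) : toV (A *ᵥ ofV v) = app (toMat A) v := by
  simp [toV, ofV, app, dot, toMat, Matrix.mulVec, dotProduct, Fin.sum_univ_three]

theorem herm_eq (x : Fin 3 → K) : herm (toV x) = antiForm x x := rfl

theorem form_mx (g : X) (x y : Fin 3 → K) : antiForm (mx g *ᵥ x) (mx g *ᵥ y) = antiForm x y := g.2 x y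

/-- The action on point indices. -/
def act (g : X) (i : Fin 65) : Fin 65 := idx (toV (mx g *ᵥ ofV (pts i)))

theorem act_spec (g : X) (i : Fin 65) :
    ∃ c : K, c ≠ 0 ∧ pts (act g i) = scale c (toV (mx g *ᵥ ofV (pts i))) := by
  have hh : herm (toV (mx g *ᵥ ofV (pts i))) = 0 := by
    rw [herm_eq, form_mx, ← herm_eq, toV_ofV]; exact (pts_isotropic i).1
  have hne : toV (mx g *ᵥ ofV (pts i)) ≠ (0, 0, 0) := fun e => (pts_isotropic i).2 (by
    have h0 : mx g *ᵥ ofV (pts i) = 0 := by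
      rw [← ofV_toV (mx g *ᵥ ofV (pts i)), e]; funext j; fin_cases j <;> rfl
    have h1 : ofV (pts i) = 0 := by
      calc ofV (pts i) = mx g⁻¹ *ᵥ (mx g *ᵥ ofV (pts i)) := by
            rw [Matrix.mulVec_mulVec, ← map_mul, inv_mul_cancel, map_one, Matrix.one_mulVec]
        _ = 0 := by rw [h0, Matrix.mulVec_zero]
    rw [← toV_ofV (pts i), h1]; rfl)
  obtain ⟨c, hc⟩ := idx_spec _ _ _ hh hne
  refine ⟨c, fun e => ?_, hc⟩
  subst e
  refine (pts_isotropic (act g i)).2 (hc.trans ?_)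
  simp [scale]

theorem act_one (i : Fin 65) : act 1 i = i := by
  have := idx_unique i 1 one_ne_zero
  simpa [act, map_one, Matrix.one_mulVec, toV_ofV, scale] using this

theorem act_mul (g h : X) (i : Fin 65) : act (g * h) i = act g (act h i) := by
  obtain ⟨c, hc0, hc⟩ := act_spec h i
  obtain ⟨d, hd0, hd⟩ := act_spec g (act h i)
  have e : ofV (pts (act h i)) = c • (mx h *ᵥ ofV (pts i)) := by
    rw [hc]; funext j; fin_cases j <;> rfl
  rw [e, Matrix.mulVec_smul, Matrix.mulVec_mulVec, ← map_mul] at hd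
  have hu := idx_unique (act g (act h i)) (d * c)⁻¹ (inv_ne_zero (mul_ne_zero hd0 hc0))
  rw [← hu, act]
  congr 1
  rw [hd]
  simp only [scale, toV, Pi.smul_apply, smul_eq_mul, Prod.mk.injEq]
  refine ⟨?_, ?_, ?_⟩ <;> field_simp

/-! ### Generators -/

/-- The torus element. -/
def hEl : X := ⟨⟨!![K.of 2, 0, 0; 0, K.of 2 ^ 3, 0; 0, 0, K.of 2 ^ 11], by
    rw [Matrix.det_fin_three]
    simp only [Matrix.cons_val', Matrix.cons_val_fin_one, Matrix.of_apply, Matrix.cons_val_zero, Matrix.cons_val_one,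
      Matrix.cons_val_two, Matrix.tail_cons, Matrix.head_cons]
    decide +kernel⟩, fun u w => by
    show antiForm (!![K.of 2, 0, 0; 0, K.of 2 ^ 3, 0; 0, 0, K.of 2 ^ 11] *ᵥ u)
      (!![K.of 2, 0, 0; 0, K.of 2 ^ 3, 0; 0, 0, K.of 2 ^ 11] *ᵥ w) = antiForm u w
    simp [antiForm, Matrix.mulVec, dotProduct, Fin.sum_univ_three, mul_pow]
    have h1 : K.of 2 * (K.of 2 ^ 11) ^ 4 = 1 := by decide +kernel
    have h2 : K.of 2 ^ 3 * (K.of 2 ^ 3) ^ 4 = 1 := by decide +kernel
    have h3 : K.of 2 ^ 11 * (K.of 2) ^ 4 = 1 := by decide +kernel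
    linear_combination (u 0 * w 2 ^ 4) * h1 + (u 1 * w 1 ^ 4) * h2 + (u 2 * w 0 ^ 4) * h3⟩

/-- The Weyl element. -/
def wEl : X := ⟨⟨!![0, 0, 1; 0, 1, 0; 1, 0, 0], by
    rw [Matrix.det_fin_three]
    simp only [Matrix.cons_val', Matrix.cons_val_fin_one, Matrix.of_apply, Matrix.cons_val_zero, Matrix.cons_val_one,
      Matrix.cons_val_two, Matrix.tail_cons, Matrix.head_cons]
    decide +kernel⟩, fun u w => by
    show antiForm (!![0, 0, 1; 0, 1, 0; 1, 0, 0] *ᵥ u) (!![0, 0, 1; 0, 1, 0; 1, 0, 0] *ᵥ w) = antiForm u w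
    simp [antiForm, Matrix.mulVec, dotProduct, Fin.sum_univ_three]
    ring⟩

/-- A root element. -/
noncomputable def uEl (a b : K) (h : b + b ^ 4 + a * a ^ 4 = 0) : X := rootHom (hF := K.card_eq) ⟨a, b, h⟩

theorem mx_uEl (a b : K) (h : b + b ^ 4 + a * a ^ 4 = 0) : mx (uEl a b h) = !![1, a, b; 0, 1, a ^ 4; 0, 0, 1] := rfl

theorem u1_ok : K.of 2 + K.of 2 ^ 4 + (1 : K) * 1 ^ 4 = 0 := by decide +kernel

theorem u2_ok : (1 : K) + 1 ^ 4 + 0 * 0 ^ 4 = 0 := by decide +kernel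

/-- The generators. -/
noncomputable def genEl : Fin 4 → X := ![hEl, wEl, uEl 1 (K.of 2) u1_ok, uEl 0 1 u2_ok]

theorem toMat_gen (k : Fin 4) : toMat (mx (genEl k)) = gens.getD k.1 default := by
  fin_cases k <;> simp [genEl, mx, hEl, wEl, uEl, rootHom_coe, rootHom, UU.mat, toMat, toV, gens] <;> decide +kernel

/-- The permutation as computed. -/
def sigP (k : Fin 4) (i : Fin 65) : ℕ := (permRows.getD k.1 []).getD i.1 0

theorem act_gen (k : Fin 4) (i : Fin 65) : (act (genEl k) i).1 = sigP k i := by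
  rw [act, toV_mulVec, toMat_gen]; exact perm_spec k i

theorem h_pow_val : ∀ n : ℕ, mx (hEl ^ n) = !![K.of 2 ^ n, 0, 0; 0, (K.of 2 ^ 3) ^ n, 0; 0, 0, (K.of 2 ^ 11) ^ n] := by
  intro n
  induction n with
  | zero => ext i j; fin_cases i <;> fin_cases j <;> simp
  | succ n ih =>
    rw [pow_succ, map_mul, ih]
    ext i j
    fin_cases i <;> fin_cases j <;> simp [mx, hEl, Matrix.mul_apply, Fin.sum_univ_three, pow_succ]

theorem root_cover : ∀ a b : K, b + b ^ 4 + a * a ^ 4 = 0 →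
    (a = 0 ∧ (b = 0 ∨ ∃ k : Fin 15, b = K.of 2 ^ k.1 * ((K.of 2 ^ 11) ^ k.1)⁻¹)) ∨
    ∃ k : Fin 15, a = K.of 2 ^ k.1 * ((K.of 2 ^ 3) ^ k.1)⁻¹ := by
  decide +kernel

theorem torus_eqs : ∀ y : K, y ≠ 0 →
    ((y ^ 3)⁻¹) ^ 4 * y ^ 4 = y ^ 3 * (y ^ 11)⁻¹ ∧
    y * (y ^ 11)⁻¹ = (y * (y ^ 11)⁻¹) ^ 4 ∧
    y * (y ^ 3)⁻¹ * (y * (y ^ 3)⁻¹) ^ 4 = y * (y ^ 11)⁻¹ := by
  decide +kernel

theorem conj_uEl (n : ℕ) (a b : K) (h : b + b ^ 4 + a * a ^ 4 = 0) :
    ∃ h', hEl ^ n * uEl a b h * (hEl ^ n)⁻¹ =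
      uEl (K.of 2 ^ n * ((K.of 2 ^ 3) ^ n)⁻¹ * a) (K.of 2 ^ n * ((K.of 2 ^ 11) ^ n)⁻¹ * b) h' := by
  have h0 : K.of 2 ≠ 0 := by decide +kernel
  have hy : K.of 2 ^ n ≠ 0 := pow_ne_zero _ h0
  obtain ⟨e1, e2, e3⟩ := torus_eqs _ hy
  have hp := h_pow_val n
  simp only [pow_right_comm (K.of 2) 3 n, pow_right_comm (K.of 2) 11 n] at hp ⊢
  set y := K.of 2 ^ n
  refine ⟨?_, ?_⟩
  · linear_combination (y * (y ^ 11)⁻¹) * h - b ^ 4 * e2 + a * a ^ 4 * e3
  · rw [mul_inv_eq_iff_eq_mul]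
    apply mx_injective
    rw [map_mul, map_mul, hp, mx_uEl, mx_uEl]
    ext i j
    fin_cases i <;> fin_cases j <;> simp [Matrix.mul_apply, Fin.sum_univ_three]
    · field_simp
      simp only [y]; ring
    · field_simp
      simp only [y]; ring
    · rw [show (y * (y ^ 3)⁻¹ * a) ^ 4 = ((y ^ 3)⁻¹) ^ 4 * y ^ 4 * a ^ 4 by ring, e1]
      field_simp

/-- The subgroup generated by the generators. -/
noncomputable def gen : Subgroup X := Subgroup.closure (Set.range genEl)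

theorem conj_mem (n : ℕ) {a₀ b₀ : K} (h₀ : b₀ + b₀ ^ 4 + a₀ * a₀ ^ 4 = 0) (hm : uEl a₀ b₀ h₀ ∈ gen) :
    ∃ b, ∀ a : K, a = K.of 2 ^ n * ((K.of 2 ^ 3) ^ n)⁻¹ * a₀ →
      b = K.of 2 ^ n * ((K.of 2 ^ 11) ^ n)⁻¹ * b₀ ∧ ∃ h, uEl a b h ∈ gen := by
  refine ⟨_, fun a ha => ⟨rfl, ?_⟩⟩
  subst ha
  obtain ⟨h', e⟩ := conj_uEl n a₀ b₀ h₀
  refine ⟨h', ?_⟩
  rw [← e]
  have hh : hEl ∈ gen := Subgroup.subset_closure ⟨0, rfl⟩
  exact mul_mem (mul_mem (pow_mem hh n) hm) (inv_mem (pow_mem hh n))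

theorem root_mem_zero (b : K) (h : b + b ^ 4 + (0 : K) * 0 ^ 4 = 0) : uEl 0 b h ∈ gen := by
  have h0 : K.of 2 ≠ 0 := by decide +kernel
  rcases root_cover 0 b h with ⟨-, rfl | ⟨k, hk⟩⟩ | ⟨k, hk⟩
  · have : uEl 0 0 h = 1 := map_one _
    rw [this]; exact one_mem _
  · obtain ⟨b', hb'⟩ := conj_mem k.1 u2_ok (Subgroup.subset_closure ⟨3, rfl⟩)
    obtain ⟨e, h', hm⟩ := hb' 0 (mul_zero _).symm
    have : b' = b := by rw [e, mul_one, hk]
    subst this
    exact hm
  · exact absurd hk.symm (mul_ne_zero (pow_ne_zero _ h0) (inv_ne_zero (pow_ne_zero _ (pow_ne_zero _ h0))))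

theorem root_mem (a b : K) (h : b + b ^ 4 + a * a ^ 4 = 0) : uEl a b h ∈ gen := by
  rcases root_cover a b h with ⟨ha, -⟩ | ⟨k, hk⟩
  · subst ha; exact root_mem_zero b h
  · obtain ⟨b', hb'⟩ := conj_mem k.1 u1_ok (Subgroup.subset_closure ⟨2, rfl⟩)
    obtain ⟨-, h', hm⟩ := hb' a (hk.trans (mul_one _).symm)
    have h2 : b + b' + (b + b') ^ 4 + (0 : K) * 0 ^ 4 = 0 := by
      rw [sixteen_add K.card_eq]
      linear_combination h + h' - (a * a ^ 4) * sixteen_two (F := K) K.card_eq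
    have h1 : uEl a b h = uEl a b' h' * uEl 0 (b + b') h2 := by
      rw [uEl, uEl, uEl, ← map_mul]
      congr 1
      ext
      · simp [UU.mul_a]
      · simp only [UU.mul_b]
        linear_combination -b' * sixteen_two (F := K) K.card_eq
    rw [h1]
    exact mul_mem hm (root_mem_zero _ h2)

theorem card_X : Nat.card X = 62400 := by
  obtain ⟨e⟩ := exists_antiSU_equiv K.card_eq
  have h := CfsgLib.Classical.card_su_mul (F := K) (q := 4) (by rw [K.card_eq]; norm_num) (n := 3) (by norm_num)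
  rw [CfsgLib.Classical.card_gu (q := 4) (by rw [K.card_eq]; norm_num) 3] at h
  norm_num [Finset.prod_range_succ, Nat.even_iff] at h
  rw [Nat.card_congr e.toEquiv]
  omega

/-- The action as a permutation representation. -/
noncomputable def perm : X →* Equiv.Perm (Fin 65) where
  toFun g := ⟨act g, act g⁻¹, fun i => by rw [← act_mul, inv_mul_cancel, act_one],
    fun i => by rw [← act_mul, mul_inv_cancel, act_one]⟩
  map_one' := Equiv.ext act_one
  map_mul' g h := Equiv.ext (act_mul g h)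

theorem pts_params : ∀ i : Fin 65, i.1 ≠ 0 → ∃ a b : K, b + b ^ 4 + a * a ^ 4 = 0 ∧
    idx (app ((1, a, b), (0, 1, a ^ 4), (0, 0, 1)) (0, 0, 1)) = i := by
  decide +kernel

theorem w_zero : idx (app ((0, 0, 1), (0, 1, 0), (1, 0, 0)) (pts 0)) = 64 ∧ pts 64 = (0, 0, 1) := by
  decide +kernel

theorem gen_eq_top : gen = ⊤ := by
  classical
  letI : MulAction gen (Fin 65) := MulAction.compHom _ (perm.comp gen.subtype)
  have hw : wEl ∈ gen := Subgroup.subset_closure ⟨1, rfl⟩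
  have horb : MulAction.orbit gen (0 : Fin 65) = Set.univ := by
    refine Set.eq_univ_of_forall fun i => ?_
    by_cases hi : i.1 = 0
    · exact ⟨1, (one_smul _ _).trans (Fin.ext hi.symm)⟩
    obtain ⟨a, b, hab, e⟩ := pts_params i hi
    refine ⟨⟨uEl a b hab * wEl, mul_mem (root_mem a b hab) hw⟩, ?_⟩
    show act (uEl a b hab * wEl) 0 = i
    rw [act_mul]
    have e0 : act wEl 0 = 64 := by rw [act, toV_mulVec]; exact w_zero.1
    rw [e0, act, toV_mulVec, w_zero.2]
    refine Eq.trans ?_ e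
    rfl
  have hstab : 960 ∣ Nat.card (MulAction.stabilizer gen (0 : Fin 65)) := by
    have hfix : ∀ A : X, (mx A) 1 0 = 0 → (mx A) 2 0 = 0 → act A 0 = 0 := fun A h1 h2 => by
      have h00 : (mx A) 0 0 ≠ 0 := fun h0 => by
        obtain ⟨c, hc, hp⟩ := act_spec A 0
        refine (pts_isotropic (act A 0)).2 ?_
        rw [hp, toV_mulVec]
        have hp0 : pts 0 = (1, 0, 0) := by decide +kernel
        simp [hp0, app, dot, toMat, toV, scale, h0, h1, h2]
      have := idx_unique 0 ((mx A) 0 0) h00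
      refine Eq.trans ?_ this
      rw [act, toV_mulVec]
      have hp0 : pts 0 = (1, 0, 0) := by decide +kernel
      simp [hp0, app, dot, toMat, toV, scale, h1, h2]
    let Ψ : UU K K.card_eq →* MulAction.stabilizer gen (0 : Fin 65) :=
      MonoidHom.mk' (fun p => ⟨⟨rootHom p, root_mem p.a p.b p.ok⟩, hfix _ rfl rfl⟩)
        (fun p r => Subtype.ext (Subtype.ext (map_mul _ p r)))
    have hΨ : Function.Injective Ψ := fun p r e => rootHom_injective (congrArg (fun z => ((z : MulAction.stabilizer gen (0 : Fin 65)) : gen).1) e)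
    have h64 : 64 ∣ Nat.card (MulAction.stabilizer gen (0 : Fin 65)) :=
      (UU.card_eq (F := K) (hF := K.card_eq)).symm.dvd.trans (Subgroup.card_dvd_of_injective Ψ hΨ)
    let hS : MulAction.stabilizer gen (0 : Fin 65) := ⟨⟨hEl, Subgroup.subset_closure ⟨0, rfl⟩⟩, hfix hEl rfl rfl⟩
    have h15 : orderOf hS = 15 := by
      rw [← Subgroup.orderOf_coe, ← Subgroup.orderOf_coe]
      show orderOf hEl = 15
      have hk : ∀ k, hEl ^ k = 1 ↔ (K.of 2 ^ k = 1 ∧ (K.of 2 ^ 3) ^ k = 1 ∧ (K.of 2 ^ 11) ^ k = 1) := fun k => by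
        rw [← mx_injective.eq_iff, map_one, h_pow_val]
        constructor
        · intro h
          exact ⟨by simpa using congrFun (congrFun h 0) 0, by simpa using congrFun (congrFun h 1) 1,
            by simpa using congrFun (congrFun h 2) 2⟩
        · rintro ⟨h1, h2, h3⟩
          ext i j; fin_cases i <;> fin_cases j <;> simp [h1, h2, h3]
      rw [orderOf_eq_iff (by norm_num)]
      refine ⟨(hk 15).2 (by decide +kernel), fun m hm hm0 h => ?_⟩
      have h1 := ((hk m).1 h).1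
      have : ∀ m : Fin 15, 0 < m.1 → K.of 2 ^ m.1 ≠ 1 := by decide +kernel
      exact this ⟨m, hm⟩ hm0 h1
    exact Nat.Coprime.mul_dvd_of_dvd_of_dvd (by norm_num) h64 (h15 ▸ orderOf_dvd_natCard hS)
  have hcard : Nat.card gen = 65 * Nat.card (MulAction.stabilizer gen (0 : Fin 65)) := by
    rw [Subgroup.card_eq_card_quotient_mul_card_subgroup (MulAction.stabilizer gen (0 : Fin 65)),
      ← Nat.card_congr (MulAction.orbitEquivQuotientStabilizer gen (0 : Fin 65)), horb,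
      Nat.card_congr (Equiv.Set.univ _), Nat.card_fin]
  apply Subgroup.eq_top_of_le_card
  rw [card_X, hcard]
  have := Nat.le_of_dvd Nat.card_pos hstab
  omega

/-! ### Element orders -/

/-- Powers of a root of `X³ + t X² + t⁴ X + 1`. -/
def red3 (t : K) : ℕ → K × K × K
  | 0 => (1, 0, 0)
  | k + 1 => match red3 t k with
    | (p, q, r) => (r, p + r * t ^ 4, q + r * t)

theorem red3_good : ∀ t : K, ∃ k ∈ [4, 10, 13, 15], red3 t k = (1, 0, 0) := by decide +kernel

theorem red3_spec (t : K) (A : Matrix (Fin 3) (Fin 3) K) (h : A ^ 3 = 1 + t ^ 4 • A + t • A ^ 2) (k : ℕ) :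
    A ^ k = (red3 t k).1 • 1 + (red3 t k).2.1 • A + (red3 t k).2.2 • A ^ 2 := by
  induction k with
  | zero => simp [red3]
  | succ k ih =>
    rw [pow_succ, ih]
    simp only [add_mul, smul_mul_assoc, one_mul, ← sq, ← pow_succ]
    rw [h]
    simp only [red3]
    module

theorem orderOf_X (g : X) : ∃ k ∈ [4, 10, 13, 15], orderOf g ∣ k := by
  set A := mx g
  set t := A.trace
  have htwo := sixteen_two (F := K) K.card_eq
  have hinv : mx g⁻¹ = A.adjugate := by
    have h1 : mx g⁻¹ * A = 1 := by rw [← map_mul, inv_mul_cancel, map_one]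
    calc mx g⁻¹ = mx g⁻¹ * (A * A.adjugate) := by
          rw [Matrix.mul_adjugate, show A.det = 1 from g.1.2, one_smul, mul_one]
      _ = A.adjugate := by rw [← mul_assoc, h1, one_mul]
  have hent : ∀ i j : Fin 3, mx g⁻¹ (2 - i) (2 - j) = A j i ^ 4 := fun i j => by
    have hh := form_mx g (mx g⁻¹ *ᵥ Pi.single (2 - j) 1) (Pi.single i 1)
    rw [Matrix.mulVec_mulVec, ← map_mul, mul_inv_cancel, map_one, Matrix.one_mulVec] at hh
    fin_cases i <;> fin_cases j <;>
      simpa [antiForm, Matrix.mulVec_single_one, Pi.single_apply, A] using hh.symm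
  have htr : A.adjugate.trace = t ^ 4 := by
    rw [← hinv]
    have h2 := hent 0 0
    have h1 := hent 1 1
    have h0 := hent 2 2
    simp only [t, Matrix.trace, Matrix.diag, Fin.sum_univ_three]
    rw [sixteen_add K.card_eq, sixteen_add K.card_eq, ← h0, ← h1, ← h2]
    simp [add_comm, add_left_comm]
  have hCH : A ^ 3 = 1 + t ^ 4 • A + t • A ^ 2 := by
    have hdet : A.det = 1 := g.1.2
    rw [← htr]
    ext i j
    rw [Matrix.det_fin_three] at hdet
    fin_cases i <;> fin_cases j <;>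
      simp [t, pow_succ, Matrix.mul_apply, Fin.sum_univ_three, Matrix.trace, Matrix.diag, Matrix.adjugate_fin_three] <;>
      grind
  obtain ⟨k, hk, hr⟩ := red3_good t
  refine ⟨k, hk, orderOf_dvd_of_pow_eq_one (mx_injective ?_)⟩
  rw [map_pow, red3_spec t A hCH k, hr, map_one]
  simp

end CfsgLib.KnownC.Spec.UFour
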