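import Cfsg.Agent.Lib.KnownC.Spec.UFourGroup

/-!
A module in characteristic five for `SU₃(4)` with fixed-point-free elements of order thirteen.
-/

set_option autoImplicit false
set_option maxRecDepth 100000

namespace CfsgLib.KnownC.Spec.UFour

open Matrix CfsgLib.Recog

/-- Functions on the points. -/
abbrev Fun : Type := Fin 65 → ZMod 5

/-- A pivot. -/
def pv (k : Fin 13) : Fin 65 := ⟨piv.getD k.1 0 % 65, Nat.mod_lt _ (by norm_num)⟩

/-- A basis vector. -/
def bas (k : Fin 13) (i : Fin 65) : ZMod 5 := ((basisRows.getD k.1 []).getD i.1 0 : ℕ)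

/-- The reconstruction from pivot values. -/
def recon (w : Fun) : Fun := fun i => ∑ k : Fin 13, w (pv k) * bas k i

theorem recon_add (w w' : Fun) : recon (w + w') = recon w + recon w' := by
  funext i; simp [recon, add_mul, Finset.sum_add_distrib]

/-- The submodule. -/
def W : AddSubgroup Fun where
  carrier := {w | recon w = w}
  zero_mem' := by funext i; simp [recon]
  add_mem' {a b} (ha : recon a = a) (hb : recon b = b) := by
    show recon (a + b) = a + b
    rw [recon_add, ha, hb]
  neg_mem' {a} (ha : recon a = a) := by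
    show recon (-a) = -a
    funext i
    rw [Pi.neg_apply, ← congrFun ha i]
    simp [recon, Finset.sum_neg_distrib]

theorem mem_W {w : Fun} : w ∈ W ↔ recon w = w := Iff.rfl

theorem bas_mem : ∀ (k : Fin 13) (i : Fin 65), ∑ l : Fin 13, bas k (pv l) * bas l i = bas k i := by
  decide +kernel

/-- The computed permutation. -/
def sig (g : Fin 4) (i : Fin 65) : Fin 65 := ⟨sigP g i % 65, Nat.mod_lt _ (by norm_num)⟩

theorem act_sig (g : Fin 4) : act (genEl g) = sig g := funext fun i => Fin.ext (by
  show (act (genEl g) i).1 = sigP g i % 65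
  rw [← act_gen, Nat.mod_eq_of_lt (act (genEl g) i).2])

theorem bas_inv : ∀ (g : Fin 4) (k : Fin 13) (i : Fin 65),
    ∑ l : Fin 13, bas k (sig g (pv l)) * bas l i = bas k (sig g i) := by
  decide +kernel

/-- The elements preserving the submodule. -/
def stab : Subgroup X :=
  subgroupOfIdempotent
    {g : X | ∀ w ∈ W, (fun i => w (act g i)) ∈ W}
    ⟨1, fun w hw => by simpa [act_one] using hw⟩
    (by
      refine Set.Subset.antisymm ?_ fun g hg => ⟨1, fun w hw => by simpa [act_one] using hw, g, hg, one_mul g⟩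
      rintro _ ⟨g, hg, h, hh, rfl⟩ w hw
      have := hh _ (hg w hw)
      simpa only [act_mul] using this)

theorem mem_stab (g : X) {w : Fun} (hw : w ∈ W) : (fun i => w (act g i)) ∈ W := by
  have hgen : gen ≤ stab := by
    rw [gen, Subgroup.closure_le]
    rintro _ ⟨k, rfl⟩ w hw
    rw [mem_W] at hw ⊢
    funext i
    rw [act_sig]
    conv_lhs => simp only [recon]
    have hwe : ∀ j, w j = ∑ m : Fin 13, w (pv m) * bas m j := fun j => (congrFun hw j).symm
    calc ∑ l : Fin 13, w (sig k (pv l)) * bas l i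
        = ∑ l : Fin 13, ∑ m : Fin 13, w (pv m) * bas m (sig k (pv l)) * bas l i :=
          Finset.sum_congr rfl fun l _ => by rw [hwe (sig k (pv l)), Finset.sum_mul]
      _ = ∑ m : Fin 13, w (pv m) * bas m (sig k i) := by
          rw [Finset.sum_comm]
          refine Finset.sum_congr rfl fun m _ => ?_
          simp only [mul_assoc, ← Finset.mul_sum, bas_inv]
      _ = w (sig k i) := (hwe _).symm
  exact hgen (gen_eq_top ▸ Subgroup.mem_top g) w hw

/-- Differences. -/
def delta : Fun →+ (Fin 65 × Fin 65 → ZMod 5) where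
  toFun w p := w p.1 - w p.2
  map_zero' := by funext p; simp
  map_add' a b := by funext p; simp only [Pi.add_apply]; ring

/-- The module. -/
def V : AddSubgroup (Fin 65 × Fin 65 → ZMod 5) := W.map delta

theorem smul_mem (g : X) {d : Fin 65 × Fin 65 → ZMod 5} (hd : d ∈ V) :
    (fun p => d (act g p.1, act g p.2)) ∈ V := by
  obtain ⟨w, hw, rfl⟩ := hd
  exact ⟨_, mem_stab g hw, rfl⟩

noncomputable instance : DistribMulAction X V where
  smul g d := ⟨fun p => d.1 (act g⁻¹ p.1, act g⁻¹ p.2), smul_mem g⁻¹ d.2⟩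
  one_smul d := Subtype.ext (funext fun p => by
    show d.1 (act (1 : X)⁻¹ p.1, act (1 : X)⁻¹ p.2) = d.1 p
    rw [inv_one, act_one, act_one])
  mul_smul g h d := Subtype.ext (funext fun p => by
    show d.1 (act (g * h)⁻¹ p.1, act (g * h)⁻¹ p.2) = d.1 (act h⁻¹ (act g⁻¹ p.1), act h⁻¹ (act g⁻¹ p.2))
    rw [_root_.mul_inv_rev, act_mul, act_mul])
  smul_zero _ := rfl
  smul_add _ _ _ := rfl

theorem five_smul (d : V) : 5 • d = 0 :=
  Subtype.ext (funext fun p => by
    show 5 • (d.1 p) = 0
    rw [nsmul_eq_mul, show ((5 : ℕ) : ZMod 5) = 0 from rfl, zero_mul])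

/-! ### An element of order thirteen -/

/-- The element. -/
noncomputable def x13 : X := hEl * hEl * wEl * uEl 1 (K.of 2) u1_ok

/-- Its permutation. -/
def s13 (i : Fin 65) : Fin 65 := sig 0 (sig 0 (sig 1 (sig 2 i)))

theorem act_x13 : act x13 = s13 := by
  funext i
  show act (genEl 0 * genEl 0 * genEl 1 * genEl 2) i = s13 i
  rw [act_mul, act_mul, act_mul, act_sig, act_sig, act_sig]
  rfl

theorem s13_iter : ∀ i : Fin 65, s13^[13] i = i := by decide +kernel

theorem s13_move : s13 0 ≠ 0 := by decide +kernel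

/-- The coefficient matrix of the composition with `s13`. -/
def bMat (i k : Fin 13) : ZMod 5 := bas k (s13 (pv i))

/-- The left inverse. -/
def linv (r i : Fin 13) : ZMod 5 := ((linvRows.getD r.1 []).getD i.1 0 : ℕ)

theorem linv_spec : ∀ r k : Fin 13,
    ∑ i : Fin 13, linv r i * (bMat i k - if i = k then 1 else 0) =
      (if r = k then 1 else 0) - (if k = 0 then 1 else 0) := by
  decide +kernel

theorem bas_sum : ∀ i : Fin 65, ∑ k : Fin 13, bas k i = 1 := by decide +kernel

theorem eq_const {w : Fun} (hw : w ∈ W) (hf : ∀ i, w (s13 i) = w i) : ∀ i j, w i = w j := by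
  rw [mem_W] at hw
  have hA : ∀ i : Fin 13, ∑ k : Fin 13, (bMat i k - if i = k then 1 else 0) * w (pv k) = 0 := by
    intro i
    simp only [sub_mul, Finset.sum_sub_distrib, ite_mul, one_mul, zero_mul, Finset.sum_ite_eq, Finset.mem_univ, if_true]
    rw [sub_eq_zero, ← hf (pv i)]
    conv_rhs => rw [← congrFun hw (s13 (pv i))]
    simp only [recon, bMat, mul_comm]
  have hc : ∀ r : Fin 13, w (pv r) = w (pv 0) := by
    intro r
    have h : ∑ i : Fin 13, linv r i * ∑ k : Fin 13, (bMat i k - if i = k then 1 else 0) * w (pv k) = 0 := by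
      simp [hA]
    simp only [Finset.mul_sum, ← mul_assoc] at h
    rw [Finset.sum_comm] at h
    simp only [← Finset.sum_mul, linv_spec, sub_mul, ite_mul, one_mul, zero_mul, Finset.sum_sub_distrib,
      Finset.sum_ite_eq, Finset.sum_ite_eq', Finset.mem_univ, if_true] at h
    exact sub_eq_zero.1 h
  have : ∀ i, w i = w (pv 0) := fun i => by
    rw [← congrFun hw i]
    simp only [recon, hc, ← Finset.mul_sum, bas_sum, mul_one]
  exact fun i j => (this i).trans (this j).symm

theorem fpf_x13 (d : V) (h : x13 • d = d) : d = 0 := by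
  obtain ⟨w, hw, hwd⟩ := d.2
  have hd : ∀ p, d.1 p = w p.1 - w p.2 := fun p => (congrFun hwd p).symm
  have h0 : ∀ p : Fin 65 × Fin 65, d.1 (s13 p.1, s13 p.2) = d.1 p := by
    intro p
    have e := congrArg (fun u : V => u.1 (s13 p.1, s13 p.2)) h
    change d.1 (act x13⁻¹ (s13 p.1), act x13⁻¹ (s13 p.2)) = d.1 (s13 p.1, s13 p.2) at e
    rw [← act_x13, ← act_mul, ← act_mul, inv_mul_cancel, act_one, act_one, act_x13] at e
    exact e.symm
  set c := w (s13 0) - w 0
  have hstep : ∀ i, w (s13 i) = w i + c := fun i => by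
    have := h0 (i, 0)
    rw [hd, hd] at this
    linear_combination this
  have hiter : ∀ (n : ℕ) (i : Fin 65), w (s13^[n] i) = w i + n * c := by
    intro n
    induction n with
    | zero => simp
    | succ n ih => intro i; rw [Function.iterate_succ_apply', hstep, ih]; push_cast; ring
  have hc : c = 0 := by
    have h13 : ((13 : ℕ) : ZMod 5) ≠ 0 := by decide +kernel
    have h5 := hiter 13 0
    rw [s13_iter] at h5
    haveI : Fact (Nat.Prime 5) := ⟨by norm_num⟩
    exact (mul_eq_zero.1 (left_eq_add.1 h5)).resolve_left h13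
  have hconst := eq_const hw fun i => by rw [hstep, hc, add_zero]
  refine Subtype.ext (funext fun p => ?_)
  rw [hd, hconst p.1 p.2, sub_self]
  rfl

theorem orderOf_x13 : orderOf x13 = 13 := by
  haveI : Fact (Nat.Prime 13) := ⟨by norm_num⟩
  have hiter : ∀ (n : ℕ) (i : Fin 65), act (x13 ^ n) i = s13^[n] i := by
    intro n
    induction n with
    | zero => exact act_one
    | succ n ih => intro i; rw [pow_succ', act_mul, ih, act_x13, Function.iterate_succ_apply']
  refine orderOf_eq_prime ?_ fun e => s13_move ?_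
  · obtain ⟨k, hk, hd⟩ := orderOf_X x13
    have hne : x13 ≠ 1 := fun e => s13_move (by rw [← act_x13, e, act_one])
    have h13 : 13 ∣ orderOf x13 := by
      by_contra hn
      have hcop : Nat.Coprime (orderOf x13) 13 := ((Nat.Prime.coprime_iff_not_dvd (by norm_num)).2 hn).symm
      have h1 : act (x13 ^ orderOf x13) 0 = 0 := by rw [pow_orderOf_eq_one, act_one]
      rw [hiter] at h1
      have h2 : s13^[13] 0 = 0 := s13_iter 0
      have h3 := (Function.IsPeriodicPt.gcd (f := s13) h1 h2)
      rw [hcop] at h3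
      exact s13_move h3
    have : orderOf x13 = 13 := by
      fin_cases hk
      · exact absurd (h13.trans hd) (by norm_num)
      · exact absurd (h13.trans hd) (by norm_num)
      · exact Nat.dvd_antisymm hd h13
      · exact absurd (h13.trans hd) (by norm_num)
    rw [← this]; exact pow_orderOf_eq_one x13
  · rw [← act_x13, e, act_one]

theorem fpf (g : X) (hg : orderOf g = 13) (d : V) (h : g • d = d) : d = 0 := by
  haveI : Fact (Nat.Prime 13) := ⟨by norm_num⟩
  have hfac : (Nat.card X).factorization 13 = 1 := by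
    rw [card_X, show 62400 = 13 * 4800 by norm_num, Nat.factorization_mul (by norm_num) (by norm_num),
      Finsupp.add_apply, Nat.Prime.factorization_self (by norm_num), Nat.factorization_eq_zero_of_not_dvd (by norm_num)]
  let P : Sylow 13 X := Sylow.ofCard (Subgroup.zpowers g) (by rw [Nat.card_zpowers, hg, hfac, pow_one])
  let Q : Sylow 13 X := Sylow.ofCard (Subgroup.zpowers x13) (by rw [Nat.card_zpowers, orderOf_x13, hfac, pow_one])
  obtain ⟨k, hk⟩ := MulAction.exists_smul_eq X P Q
  have hx : x13 ∈ ((k • P : Sylow 13 X) : Subgroup X) := by rw [hk]; exact Subgroup.mem_zpowers x13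
  rw [Sylow.coe_subgroup_smul, Subgroup.pointwise_smul_def] at hx
  obtain ⟨y, hy, hyx⟩ := Subgroup.mem_map.1 hx
  have hstab : Subgroup.zpowers g ≤ MulAction.stabilizer X d := Subgroup.zpowers_le.2 h
  have hyd : y • d = d := hstab hy
  have h2 : x13 • (k • d) = k • d := by
    rw [← hyx]
    show (k * y * k⁻¹) • (k • d) = k • d
    rw [smul_smul, inv_mul_cancel_right, mul_smul, hyd]
  have := fpf_x13 _ h2
  exact (smul_eq_zero_iff_eq k).1 this

theorem orderOf_fifteen : orderOf hEl = 15 := by
  obtain ⟨k, hk, hd⟩ := orderOf_X hEl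
  have hh : ∀ n : ℕ, n ∈ [3, 4, 5, 10, 13] → hEl ^ n ≠ 1 := fun n hn e => by
    have h := congrFun (congrFun ((h_pow_val n).symm.trans ((congrArg mx e).trans (map_one mx))) 0) 0
    simp at h
    revert h
    fin_cases hn <;> decide +kernel
  have hpow := orderOf_dvd_iff_pow_eq_one.1 hd
  fin_cases hk
  · exact absurd hpow (hh 4 (by simp))
  · exact absurd hpow (hh 10 (by simp))
  · exact absurd hpow (hh 13 (by simp))
  · have hmem : orderOf hEl ∈ Nat.divisors 15 := Nat.mem_divisors.2 ⟨hd, by norm_num⟩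
    rw [show Nat.divisors 15 = {1, 3, 5, 15} by decide] at hmem
    simp only [Finset.mem_insert, Finset.mem_singleton] at hmem
    rcases hmem with h | h | h | h
    · exact absurd (orderOf_eq_one_iff.1 h) (fun e => hh 3 (by simp) (by rw [e, one_pow]))
    · exact absurd (orderOf_dvd_iff_pow_eq_one.1 (dvd_of_eq h)) (hh 3 (by simp))
    · exact absurd (orderOf_dvd_iff_pow_eq_one.1 (dvd_of_eq h)) (hh 5 (by simp))
    · exact h

theorem orderOf_ten : orderOf (hEl * wEl) = 10 := by
  have hv : ∀ n : ℕ, mx ((hEl * wEl) ^ n) = (!![0, 0, K.of 2; 0, K.of 2 ^ 3, 0; K.of 2 ^ 11, 0, 0]) ^ n := fun n => by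
    rw [map_pow, map_mul]
    congr 1
    show (!![K.of 2, 0, 0; 0, K.of 2 ^ 3, 0; 0, 0, K.of 2 ^ 11] : Matrix (Fin 3) (Fin 3) K) *
      !![0, 0, 1; 0, 1, 0; 1, 0, 0] = _
    ext i j
    fin_cases i <;> fin_cases j <;> simp [Matrix.mul_apply, Fin.sum_univ_three]
  have h10 : (!![0, 0, K.of 2; 0, K.of 2 ^ 3, 0; K.of 2 ^ 11, 0, 0] : Matrix (Fin 3) (Fin 3) K) ^ 10 = 1 := by
    decide +kernel
  have hlt : ∀ m : Fin 10, 0 < m.1 →
      (!![0, 0, K.of 2; 0, K.of 2 ^ 3, 0; K.of 2 ^ 11, 0, 0] : Matrix (Fin 3) (Fin 3) K) ^ m.1 ≠ 1 := by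
    decide +kernel
  rw [orderOf_eq_iff (by norm_num)]
  refine ⟨mx_injective (by rw [hv, h10, map_one]), fun m hm hm0 e => hlt ⟨m, hm⟩ hm0 ?_⟩
  rw [← hv, e, map_one]

theorem exists_ne : ∃ d : V, d ≠ 0 := by
  refine ⟨⟨delta (bas 0), bas 0, funext (bas_mem 0), rfl⟩, fun e => ?_⟩
  have h := congrArg (fun u : V => u.1 (pv 0, pv 1)) e
  exact (by decide +kernel : bas 0 (pv 0) - bas 0 (pv 1) ≠ 0) h

end CfsgLib.KnownC.Spec.UFour
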